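import Mathlib

set_option autoImplicit false

namespace Cfsg.Agent.Helper23

/-- Elements of the join of two elementwise commuting subgroups are products. -/
theorem mem_sup_of_commute {G : Type*} [Group G] (A B : Subgroup G)
    (hcomm : ∀ a ∈ A, ∀ b ∈ B, a * b = b * a) {x : G} (hx : x ∈ A ⊔ B) :
    ∃ a ∈ A, ∃ b ∈ B, x = a * b := by
  rw [Subgroup.sup_eq_closure_mul] at hx
  induction hx using Subgroup.closure_induction with
  | mem x hx =>
    obtain ⟨a, ha, b, hb, rfl⟩ := hx
    exact ⟨a, ha, b, hb, rfl⟩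
  | one => exact ⟨1, A.one_mem, 1, B.one_mem, by simp⟩
  | mul x y _ _ hx hy =>
    obtain ⟨a, ha, b, hb, rfl⟩ := hx
    obtain ⟨a', ha', b', hb', rfl⟩ := hy
    refine ⟨a * a', A.mul_mem ha ha', b * b', B.mul_mem hb hb', ?_⟩
    have h := hcomm a' ha' b hb
    calc a * b * (a' * b') = a * (b * a') * b' := by group
      _ = a * (a' * b) * b' := by rw [h]
      _ = a * a' * (b * b') := by group
  | inv x _ hx =>
    obtain ⟨a, ha, b, hb, rfl⟩ := hx
    refine ⟨a⁻¹, A.inv_mem ha, b⁻¹, B.inv_mem hb, ?_⟩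
    have h := hcomm a ha b hb
    rw [mul_inv_rev]
    have : a⁻¹ * b⁻¹ = (b * a)⁻¹ := by group
    rw [this, ← h]
    group

theorem mem_of_pow_card_eq_one_of_isCyclic {G : Type*} [Group G] [Finite G] (W W₂ : Subgroup G)
    (hcyc : IsCyclic W) (hle : W₂ ≤ W) {b : G} (hb : b ∈ W) (hpow : b ^ Nat.card W₂ = 1) :
    b ∈ W₂ := by
  classical
  have : Fintype ↥W := Fintype.ofFinite _
  set n := Nat.card W₂ with hn
  have hn0 : 0 < n := Nat.card_pos
  have hF := IsCyclic.card_pow_eq_one_le (α := ↥W) hn0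
  set F : Finset ↥W := Finset.univ.filter (fun a => a ^ n = 1) with hFdef
  set T : Finset ↥W := Finset.univ.filter (fun a => a ∈ W₂.subgroupOf W) with hTdef
  have hTF : T ⊆ F := by
    intro a ha
    simp only [hTdef, Finset.mem_filter, Finset.mem_univ, true_and] at ha
    simp only [hFdef, Finset.mem_filter, Finset.mem_univ, true_and]
    have h1 : (⟨a, ha⟩ : W₂.subgroupOf W) ^ Nat.card (W₂.subgroupOf W) = 1 := pow_card_eq_one'
    rw [Nat.card_congr (Subgroup.subgroupOfEquivOfLe hle).toEquiv] at h1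
    have := congrArg (fun z : W₂.subgroupOf W => (z : ↥W)) h1
    simpa using this
  have hTcard : T.card = n := by
    rw [hn, ← Nat.card_congr (Subgroup.subgroupOfEquivOfLe hle).toEquiv, Nat.card_eq_fintype_card,
      Fintype.card_subtype]
  have hEq : T = F := Finset.eq_of_subset_of_card_le hTF (by rw [hTcard]; exact hF)
  have hbF : (⟨b, hb⟩ : ↥W) ∈ F := by
    simp only [hFdef, Finset.mem_filter, Finset.mem_univ, true_and]
    exact Subtype.ext (by simpa using hpow)
  rw [← hEq] at hbF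
  simpa [hTdef, Subgroup.mem_subgroupOf] using hbF

theorem pow_natCard_of_mem {G : Type*} [Group G] (H : Subgroup G) {y : G} (hy : y ∈ H) :
    y ^ Nat.card H = 1 := by
  have h1 : (⟨y, hy⟩ : H) ^ Nat.card H = 1 := pow_card_eq_one'
  have h2 := congrArg Subtype.val h1
  rw [Subgroup.coe_pow] at h2
  exact h2

theorem exists_ne_one_of_ne_bot {G : Type*} [Group G] {H : Subgroup G} (h : H ≠ ⊥) :
    ∃ x ∈ H, x ≠ 1 := by
  by_contra hh
  push Not at hh
  exact h ((Subgroup.eq_bot_iff_forall _).mpr hh)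

end Cfsg.Agent.Helper23
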