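import Mathlib
import Cfsg.Prelude.Def_OddOrderLocal
import Cfsg.Agent.Lib.Helper23.Basic

set_option autoImplicit false

namespace Cfsg.Agent.Helper23

theorem card_sup_dvd_mul {M : Type*} [Group M] [Finite M] (K H : Subgroup M) [K.Normal] :
    Nat.card ↥(K ⊔ H) ∣ Nat.card K * Nat.card H := by
  have h1 : Nat.card K * K.relIndex (K ⊔ H) = Nat.card ↥(K ⊔ H) := by
    have := Subgroup.relIndex_mul_relIndex ⊥ K (K ⊔ H) bot_le le_sup_left
    simpa [Subgroup.relIndex_bot_left] using this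
  rw [← h1, Subgroup.relIndex_sup_left]
  exact Nat.mul_dvd_mul_left _ (Subgroup.relIndex_dvd_card K H)

theorem not_dvd_card_sSup {M : Type*} [Group M] [Finite M] (p : ℕ) (hp : p.Prime)
    (S : Set (Subgroup M)) (hS : ∀ N ∈ S, N.Normal ∧ ¬ p ∣ Nat.card N) :
    (sSup S).Normal ∧ ¬ p ∣ Nat.card ↥(sSup S) := by
  have hfin : S.Finite := Set.toFinite S
  induction S, hfin using Set.Finite.induction_on with
  | empty =>
    simp only [sSup_empty]
    refine ⟨inferInstance, ?_⟩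
    simp only [Subgroup.card_bot, Nat.dvd_one]
    exact hp.ne_one
  | insert _ _ ih =>
    rename_i a s has hsfin
    rw [sSup_insert]
    have ha := hS a (Set.mem_insert _ _)
    have hs := ih (fun N hN => hS N (Set.mem_insert_of_mem _ hN))
    have := ha.1
    have := hs.1
    refine ⟨inferInstance, ?_⟩
    intro hdvd
    have := hdvd.trans (card_sup_dvd_mul a (sSup s))
    rcases (Nat.Prime.dvd_mul hp).mp this with h | h
    · exact ha.2 h
    · exact hs.2 h

theorem coprime_card_index_sSup {M : Type*} [Group M] [Finite M]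
    (S : Set (Subgroup M)) (hS : ∀ N ∈ S, N.Normal ∧ (Nat.card N).Coprime N.index) :
    (Nat.card ↥(sSup S)).Coprime (sSup S).index := by
  rw [Nat.coprime_iff_gcd_eq_one]
  by_contra hne
  obtain ⟨p, hp, hpd⟩ := Nat.exists_prime_and_dvd hne
  have hp1 : p ∣ Nat.card ↥(sSup S) := hpd.trans (Nat.gcd_dvd_left _ _)
  have hp2 : p ∣ (sSup S).index := hpd.trans (Nat.gcd_dvd_right _ _)
  by_cases hex : ∃ N ∈ S, p ∣ Nat.card N
  · obtain ⟨N, hN, hpN⟩ := hex
    have hle : N ≤ sSup S := le_sSup hN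
    have hidx : p ∣ N.index := hp2.trans (Subgroup.index_dvd_of_le hle)
    have hco := (hS N hN).2
    exact (Nat.Prime.coprime_iff_not_dvd hp).mp
      (Nat.Coprime.coprime_dvd_left hpN hco) hidx
  · push Not at hex
    exact (not_dvd_card_sSup p hp S (fun N hN => ⟨(hS N hN).1, hex N hN⟩)).2 hp1

theorem fittingHall_coprime (M : Type*) [Group M] [Finite M] :
    (Nat.card ↥(Cfsg.fittingHall M)).Coprime (Cfsg.fittingHall M).index := by
  unfold Cfsg.fittingHall
  exact coprime_card_index_sSup _ (fun N hN => ⟨hN.1, hN.2.2⟩)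

theorem fittingHallOf_le {G : Type*} [Group G] (M : Subgroup G) : Cfsg.fittingHallOf M ≤ M := by
  unfold Cfsg.fittingHallOf
  exact Subgroup.map_subtype_le _

theorem card_fittingHallOf {G : Type*} [Group G] (M : Subgroup G) :
    Nat.card ↥(Cfsg.fittingHallOf M) = Nat.card ↥(Cfsg.fittingHall ↥M) := by
  unfold Cfsg.fittingHallOf
  exact Subgroup.card_map_of_injective M.subtype_injective

theorem pow_index_mem_fittingHallOf {G : Type*} [Group G] (M : Subgroup G) {c : G}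
    (hc : c ∈ M) : c ^ (Cfsg.fittingHall ↥M).index ∈ Cfsg.fittingHallOf M := by
  have h := Subgroup.pow_index_mem (Cfsg.fittingHall ↥M) (⟨c, hc⟩ : ↥M)
  unfold Cfsg.fittingHallOf
  refine ⟨_, h, ?_⟩
  simp

/-- Coprime splitting: if `c ^ k ∈ A` and `c ^ j ∈ B` with `k`, `j` coprime, then `c ∈ A ⊔ B`. -/
theorem mem_sup_of_pow_mem_of_coprime {G : Type*} [Group G] (A B : Subgroup G) {c : G} {k j : ℕ}
    (hkj : k.Coprime j) (hk : c ^ k ∈ A) (hj : c ^ j ∈ B) : c ∈ A ⊔ B := by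
  have hb : ((Nat.gcd k j : ℕ) : ℤ) = k * Nat.gcdA k j + j * Nat.gcdB k j := Nat.gcd_eq_gcd_ab k j
  rw [hkj] at hb
  have hc : c = (c ^ k) ^ (Nat.gcdA k j) * (c ^ j) ^ (Nat.gcdB k j) := by
    rw [← zpow_natCast c k, ← zpow_natCast c j, ← zpow_mul, ← zpow_mul, ← zpow_add, ← hb]
    simp
  rw [hc]
  exact Subgroup.mul_mem _ ((le_sup_left : A ≤ A ⊔ B) (A.zpow_mem hk _))
    ((le_sup_right : B ≤ A ⊔ B) (B.zpow_mem hj _))

/-- Cardinality of an internal complement decomposition. -/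
theorem card_of_isComplIn {G : Type*} [Group G] {A B M : Subgroup G} (h : Cfsg.IsComplIn A B M) :
    Nat.card M = Nat.card A * Nat.card B := by
  obtain ⟨hA, hB, hAB, hprod⟩ := h
  rw [← Nat.card_prod]
  symm
  refine Nat.card_congr (Equiv.ofBijective
    (fun x : A × B => (⟨x.1.1 * x.2.1, M.mul_mem (hA x.1.2) (hB x.2.2)⟩ : M)) ⟨?_, ?_⟩)
  · rintro ⟨⟨a, ha⟩, ⟨b, hb⟩⟩ ⟨⟨a', ha'⟩, ⟨b', hb'⟩⟩ hh
    simp only [Subtype.mk.injEq] at hh
    have h1 : a'⁻¹ * a = b' * b⁻¹ := by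
      have : a'⁻¹ * (a * b) * b⁻¹ = a'⁻¹ * (a' * b') * b⁻¹ := by rw [hh]
      calc a'⁻¹ * a = a'⁻¹ * (a * b) * b⁻¹ := by group
        _ = a'⁻¹ * (a' * b') * b⁻¹ := this
        _ = b' * b⁻¹ := by group
    have h2 : a'⁻¹ * a ∈ A ⊓ B := by
      refine Subgroup.mem_inf.mpr ⟨A.mul_mem (A.inv_mem ha') ha, ?_⟩
      rw [h1]
      exact B.mul_mem hb' (B.inv_mem hb)
    rw [hAB, Subgroup.mem_bot] at h2
    have ha_eq : a = a' := by
      have : a = a' * (a'⁻¹ * a) := by group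
      rw [this, h2, mul_one]
    have hb_eq : b = b' := by
      subst ha_eq
      exact mul_left_cancel hh
    subst ha_eq hb_eq
    rfl
  · rintro ⟨m, hm⟩
    obtain ⟨a, ha, b, hb, rfl⟩ := hprod m hm
    exact ⟨(⟨a, ha⟩, ⟨b, hb⟩), rfl⟩

end Cfsg.Agent.Helper23
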