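import Mathlib
import Cfsg.Prelude.Def_Solvable

set_option autoImplicit false

namespace Cfsg.Agent.Helper23

theorem pCore_normal' (p : ℕ) (G : Type*) [Group G] : (Cfsg.pCore p G).Normal :=
  Subgroup.sSup_normal _ (fun _ h => h.1)

theorem isPGroup_sSup_of_normal {G : Type*} [Group G] [Finite G] (p : ℕ) [Fact p.Prime]
    (S : Set (Subgroup G)) (hS : ∀ N ∈ S, N.Normal ∧ IsPGroup p N) :
    (sSup S).Normal ∧ IsPGroup p ↥(sSup S) := by
  have hfin : S.Finite := Set.toFinite S
  induction S, hfin using Set.Finite.induction_on with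
  | empty =>
    rw [sSup_empty]
    exact ⟨inferInstance, IsPGroup.of_bot⟩
  | insert _ _ ih =>
    rename_i a s has hsfin
    rw [sSup_insert]
    have ha := hS a (Set.mem_insert _ _)
    have hs := ih (fun N hN => hS N (Set.mem_insert_of_mem _ hN))
    have := ha.1
    have := hs.1
    exact ⟨inferInstance, IsPGroup.to_sup_of_normal_right ha.2 hs.2⟩

theorem pCore_isPGroup (p : ℕ) [Fact p.Prime] (G : Type*) [Group G] [Finite G] :
    IsPGroup p ↥(Cfsg.pCore p G) :=
  (isPGroup_sSup_of_normal p _ (fun _ h => h)).2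

end Cfsg.Agent.Helper23
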