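import Mathlib
import Cfsg.Prelude.Def_LocalStructure
import Cfsg.Agent.Lib.Helper23.PCore

set_option autoImplicit false

namespace Cfsg.Agent.Helper23

variable {H : Type*} [Group H]

/-- conjugate subgroup `g Q g⁻¹` -/
abbrev cj (Q : Subgroup H) (g : H) : Subgroup H := Q.map (MulAut.conj g).toMonoidHom

theorem mem_cj {Q : Subgroup H} {g x : H} : x ∈ cj Q g ↔ g⁻¹ * x * g ∈ Q := by
  unfold cj
  rw [Subgroup.mem_map_equiv]
  simp [MulAut.conj_symm_apply]

theorem conj_mem_cj {Q : Subgroup H} {g q : H} (hq : q ∈ Q) : g * q * g⁻¹ ∈ cj Q g := by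
  rw [mem_cj]
  have : g⁻¹ * (g * q * g⁻¹) * g = q := by group
  rw [this]; exact hq

theorem cj_mono {Q R : Subgroup H} (h : Q ≤ R) (g : H) : cj Q g ≤ cj R g :=
  Subgroup.map_mono h

theorem isPGroup_cj {p : ℕ} {Q : Subgroup H} (hQ : IsPGroup p Q) (g : H) : IsPGroup p (cj Q g) :=
  hQ.map _

theorem cj_ne_bot {Q : Subgroup H} (hQ : Q ≠ ⊥) (g : H) : cj Q g ≠ ⊥ := by
  intro h
  apply hQ
  rw [Subgroup.eq_bot_iff_forall] at h ⊢
  intro x hx
  have := h _ (conj_mem_cj (g := g) hx)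
  have h2 : x = g⁻¹ * (g * x * g⁻¹) * g := by group
  rw [h2, this]; group

theorem mem_centralizer_cj {Q : Subgroup H} {g x : H} :
    x ∈ Subgroup.centralizer (cj Q g : Set H) ↔ g⁻¹ * x * g ∈ Subgroup.centralizer (Q : Set H) := by
  rw [Subgroup.mem_centralizer_iff, Subgroup.mem_centralizer_iff]
  constructor
  · intro h q hq
    have := h _ (conj_mem_cj (g := g) hq)
    calc q * (g⁻¹ * x * g) = g⁻¹ * ((g * q * g⁻¹) * x) * g := by group
      _ = g⁻¹ * (x * (g * q * g⁻¹)) * g := by rw [this]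
      _ = g⁻¹ * x * g * q := by group
  · intro h y hy
    have hy' : g⁻¹ * y * g ∈ Q := mem_cj.mp hy
    have := h _ hy'
    calc y * x = g * ((g⁻¹ * y * g) * (g⁻¹ * x * g)) * g⁻¹ := by group
      _ = g * ((g⁻¹ * x * g) * (g⁻¹ * y * g)) * g⁻¹ := by rw [this]
      _ = x * y := by group

theorem mem_normalizer_cj {Q : Subgroup H} {g x : H} :
    x ∈ Subgroup.normalizer (cj Q g : Set H) ↔ g⁻¹ * x * g ∈ Subgroup.normalizer (Q : Set H) := by
  rw [Subgroup.mem_set_normalizer_iff, Subgroup.mem_set_normalizer_iff]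
  constructor
  · intro h q
    have := h (g * q * g⁻¹)
    simp only [SetLike.mem_coe, mem_cj] at this
    have e1 : g⁻¹ * (g * q * g⁻¹) * g = q := by group
    have e2 : g⁻¹ * (x * (g * q * g⁻¹) * x⁻¹) * g = g⁻¹ * x * g * q * (g⁻¹ * x * g)⁻¹ := by group
    rw [e1, e2] at this
    exact this
  · intro h y
    have := h (g⁻¹ * y * g)
    simp only [SetLike.mem_coe, mem_cj]
    have e2 : g⁻¹ * (x * y * x⁻¹) * g = g⁻¹ * x * g * (g⁻¹ * y * g) * (g⁻¹ * x * g)⁻¹ := by group
    rw [e2]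
    exact this

theorem isLarge_cj {Q : Subgroup H} (hL : Cfsg.IsLarge Q) (g : H) : Cfsg.IsLarge (cj Q g) := by
  obtain ⟨h1, h2⟩ := hL
  refine ⟨?_, ?_⟩
  · intro x hx
    rw [mem_cj]
    exact h1 (mem_centralizer_cj.mp hx)
  · intro U hU hUne n hn
    rw [mem_normalizer_cj]
    have hU' : cj U g⁻¹ ≤ Subgroup.centralizer (Q : Set H) := by
      intro y hy
      have hy' := mem_cj.mp hy
      rw [inv_inv] at hy'
      have := mem_centralizer_cj.mp (hU hy')
      have e : g⁻¹ * (g * y * g⁻¹) * g = y := by group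
      rwa [e] at this
    have hne' : cj U g⁻¹ ≠ ⊥ := cj_ne_bot hUne _
    apply h2 _ hU' hne'
    rw [mem_normalizer_cj]
    have e : g⁻¹⁻¹ * (g⁻¹ * n * g) * g⁻¹ = n := by group
    rw [e]; exact hn

/-- The "centre" `P ⊓ C(P)` of a nontrivial finite `p`-subgroup is nontrivial. -/
theorem inf_centralizer_ne_bot [Finite H] {p : ℕ} [Fact p.Prime] {P : Subgroup H}
    (hP : IsPGroup p P) (hne : P ≠ ⊥) : P ⊓ Subgroup.centralizer (P : Set H) ≠ ⊥ := by
  have : Nontrivial ↥P := (Subgroup.nontrivial_iff_ne_bot P).mpr hne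
  have hc : Nontrivial (Subgroup.center ↥P) := hP.center_nontrivial
  obtain ⟨⟨z, hz⟩, hz1⟩ := exists_ne (1 : Subgroup.center ↥P)
  intro hbot
  apply hz1
  have hmem : (z : H) ∈ P ⊓ Subgroup.centralizer (P : Set H) := by
    refine Subgroup.mem_inf.mpr ⟨z.2, ?_⟩
    rw [Subgroup.mem_centralizer_iff]
    intro y hy
    have := Subgroup.mem_center_iff.mp hz ⟨y, hy⟩
    exact congrArg Subtype.val this
  rw [hbot, Subgroup.mem_bot] at hmem
  apply Subtype.ext
  apply Subtype.ext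
  exact hmem

theorem normalizer_le_normalizer_inf_centralizer (P : Subgroup H) :
    Subgroup.normalizer (P : Set H) ≤
      Subgroup.normalizer ((P ⊓ Subgroup.centralizer (P : Set H) : Subgroup H) : Set H) := by
  intro n hn
  have hn' : n⁻¹ ∈ Subgroup.normalizer (P : Set H) := Subgroup.inv_mem _ hn
  rw [Subgroup.mem_set_normalizer_iff] at hn hn' ⊢
  have key : ∀ m : H, (∀ y, y ∈ (P : Set H) ↔ m * y * m⁻¹ ∈ (P : Set H)) →
      ∀ z, z ∈ P ⊓ Subgroup.centralizer (P : Set H) →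
        m * z * m⁻¹ ∈ P ⊓ Subgroup.centralizer (P : Set H) := by
    intro m hm z hz
    obtain ⟨hzP, hzC⟩ := Subgroup.mem_inf.mp hz
    refine Subgroup.mem_inf.mpr ⟨(hm z).mp hzP, ?_⟩
    rw [Subgroup.mem_centralizer_iff] at hzC ⊢
    intro y hy
    have hy' : m⁻¹ * y * m ∈ P := by
      have := (hm (m⁻¹ * y * m))
      have e : m * (m⁻¹ * y * m) * m⁻¹ = y := by group
      rw [e] at this
      exact this.mpr hy
    have := hzC _ hy'
    calc y * (m * z * m⁻¹) = m * ((m⁻¹ * y * m) * z) * m⁻¹ := by group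
      _ = m * (z * (m⁻¹ * y * m)) * m⁻¹ := by rw [this]
      _ = m * z * m⁻¹ * y := by group
  intro z
  constructor
  · exact key n hn z
  · intro hz
    have := key n⁻¹ hn' _ hz
    have e : n⁻¹ * (n * z * n⁻¹) * n⁻¹⁻¹ = z := by group
    rwa [e] at this

/-- Burnside-type lemma: if a Sylow subgroup `P` and its conjugate `g • P` both lie in `N`,
then some `h ∈ N` has `h * g ∈ N(P)`. -/
theorem exists_mul_mem_normalizer [Finite H] {p : ℕ} [Fact p.Prime] (P : Sylow p H)
    (N : Subgroup H) (g : H) (h1 : (P : Subgroup H) ≤ N) (h2 : ((g • P : Sylow p H) : Subgroup H) ≤ N) :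
    ∃ h ∈ N, h * g ∈ Subgroup.normalizer ((P : Subgroup H) : Set H) := by
  obtain ⟨h, hh⟩ := MulAction.exists_smul_eq N ((g • P).subtype h2) (P.subtype h1)
  simp_rw [Sylow.smul_subtype, Subgroup.smul_def, smul_smul] at hh
  exact ⟨h, h.2, Sylow.smul_eq_iff_mem_normalizer.mp (Sylow.subtype_injective hh)⟩

theorem mem_smul_sylow_iff {p : ℕ} {g x : H} {T : Sylow p H} :
    x ∈ ((g • T : Sylow p H) : Subgroup H) ↔ g⁻¹ * x * g ∈ (T : Subgroup H) := by
  rw [Sylow.coe_subgroup_smul, Subgroup.pointwise_smul_def]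
  exact mem_cj (Q := (T : Subgroup H))

/-- Key lemma for large subgroups: if `C(Q) ∩ C(g Q g⁻¹) ≠ 1` then `g` normalizes `Q`. -/
theorem mem_normalizer_of_large [Finite H] {p : ℕ} [Fact p.Prime] {Q : Subgroup H}
    (hQp : IsPGroup p Q) (hQ1 : Q ≠ ⊥) (hL : Cfsg.IsLarge Q) (g : H) (U : Subgroup H) (hU1 : U ≠ ⊥)
    (hUQ : U ≤ Subgroup.centralizer (Q : Set H))
    (hUQg : U ≤ Subgroup.centralizer (cj Q g : Set H)) :
    g ∈ Subgroup.normalizer (Q : Set H) := by
  have hLg : Cfsg.IsLarge (cj Q g) := isLarge_cj hL g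
  have hNU : Subgroup.normalizer (U : Set H) ≤ Subgroup.normalizer (Q : Set H) := hL.2 U hUQ hU1
  have hQgU : cj Q g ≤ Subgroup.normalizer (U : Set H) :=
    (Subgroup.le_centralizer_iff.mp hUQg).trans (Subgroup.centralizer_le_normalizer _)
  have hQgN : cj Q g ≤ Subgroup.normalizer (Q : Set H) := hQgU.trans hNU
  have hpg : IsPGroup p ↥(cj Q g ⊔ Q) :=
    IsPGroup.to_sup_of_normal_right' (isPGroup_cj hQp g) hQp hQgN
  obtain ⟨T, hT⟩ := hpg.exists_le_sylow
  have hQT : Q ≤ (T : Subgroup H) := le_sup_right.trans hT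
  have hQgT : cj Q g ≤ (T : Subgroup H) := le_sup_left.trans hT
  have hTne : (T : Subgroup H) ≠ ⊥ := by
    intro h
    apply hQ1
    rw [eq_bot_iff, ← h]; exact hQT
  set Z := (T : Subgroup H) ⊓ Subgroup.centralizer ((T : Subgroup H) : Set H) with hZ
  have hZne : Z ≠ ⊥ := inf_centralizer_ne_bot T.2 hTne
  have hZQ : Z ≤ Subgroup.centralizer (Q : Set H) :=
    inf_le_right.trans (Subgroup.centralizer_le hQT)
  have hZQg : Z ≤ Subgroup.centralizer (cj Q g : Set H) :=
    inf_le_right.trans (Subgroup.centralizer_le hQgT)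
  have hNZ1 : Subgroup.normalizer (Z : Set H) ≤ Subgroup.normalizer (Q : Set H) := hL.2 Z hZQ hZne
  have hNZ2 : Subgroup.normalizer (Z : Set H) ≤ Subgroup.normalizer (cj Q g : Set H) :=
    hLg.2 Z hZQg hZne
  have hNT : Subgroup.normalizer ((T : Subgroup H) : Set H) ≤ Subgroup.normalizer (Z : Set H) :=
    normalizer_le_normalizer_inf_centralizer _
  have hTN : (T : Subgroup H) ≤ Subgroup.normalizer ((T : Subgroup H) : Set H) :=
    Subgroup.le_normalizer
  have hT1 : (T : Subgroup H) ≤ Subgroup.normalizer (Q : Set H) := hTN.trans (hNT.trans hNZ1)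
  have hT2 : (T : Subgroup H) ≤ Subgroup.normalizer (cj Q g : Set H) := hTN.trans (hNT.trans hNZ2)
  have hgT : ((g • T : Sylow p H) : Subgroup H) ≤ Subgroup.normalizer (cj Q g : Set H) := by
    intro x hx
    rw [mem_normalizer_cj]
    exact hT1 (mem_smul_sylow_iff.mp hx)
  obtain ⟨h, hh, hm⟩ := exists_mul_mem_normalizer T _ g hT2 hgT
  have hmQ : h * g ∈ Subgroup.normalizer (Q : Set H) := hNZ1 (hNT hm)
  -- now show cj Q g = Q as sets
  have hset : ∀ y, y ∈ cj Q g ↔ y ∈ Q := by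
    intro y
    rw [Subgroup.mem_set_normalizer_iff''] at hh hmQ
    have a1 := hh y
    simp only [SetLike.mem_coe] at a1
    rw [a1, mem_cj]
    have a2 := hmQ y
    simp only [SetLike.mem_coe] at a2
    rw [a2]
    have e : g⁻¹ * (h⁻¹ * y * h) * g = (h * g)⁻¹ * y * (h * g) := by group
    rw [e]
  rw [Subgroup.mem_set_normalizer_iff]
  intro x
  simp only [SetLike.mem_coe]
  rw [← hset (g * x * g⁻¹), mem_cj]
  have e : g⁻¹ * (g * x * g⁻¹) * g = x := by group
  rw [e]

theorem cj_cj (Q : Subgroup H) (g h : H) : cj (cj Q g) h = cj Q (h * g) := by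
  ext x
  rw [mem_cj, mem_cj, mem_cj]
  have e : g⁻¹ * (h⁻¹ * x * h) * g = (h * g)⁻¹ * x * (h * g) := by group
  rw [e]

theorem cj_one (Q : Subgroup H) : cj Q 1 = Q := by
  ext x
  rw [mem_cj]; simp

theorem mem_normalizer_iff_cj_eq {K : Subgroup H} {d : H} :
    d ∈ Subgroup.normalizer (K : Set H) ↔ cj K d = K := by
  constructor
  · intro hd
    ext x
    rw [mem_cj]
    rw [Subgroup.mem_set_normalizer_iff''] at hd
    exact (hd x).symm
  · intro h
    rw [Subgroup.mem_set_normalizer_iff'']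
    intro x
    have : x ∈ cj K d ↔ x ∈ K := by rw [h]
    rw [mem_cj] at this
    exact this.symm

theorem cj_eq_of_mem_normalizer {K : Subgroup H} {d : H}
    (hd : d ∈ Subgroup.normalizer (K : Set H)) : cj K d = K :=
  mem_normalizer_iff_cj_eq.mp hd

theorem cj_le_of_mem {K L : Subgroup H} (hKL : K ≤ L) {l : H} (hl : l ∈ L) : cj K l ≤ L := by
  intro x hx
  have h1 := hKL (mem_cj.mp hx)
  have : x = l * (l⁻¹ * x * l) * l⁻¹ := by group
  rw [this]
  exact L.mul_mem (L.mul_mem hl h1) (L.inv_mem hl)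

/-- normalizing a family means normalizing its join -/
theorem le_normalizer_iSup {ι : Sort*} (A : ι → Subgroup H) (D : Subgroup H)
    (h : ∀ i, D ≤ Subgroup.normalizer ((A i : Subgroup H) : Set H)) :
    D ≤ Subgroup.normalizer ((⨆ i, A i : Subgroup H) : Set H) := by
  intro d hd
  rw [mem_normalizer_iff_cj_eq]
  unfold cj
  rw [Subgroup.map_iSup]
  congr 1
  funext i
  exact cj_eq_of_mem_normalizer (h i hd)

theorem normalizer_le_normalizer_centralizer' (Y : Subgroup H) :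
    Subgroup.normalizer (Y : Set H) ≤
      Subgroup.normalizer ((Subgroup.centralizer (Y : Set H) : Subgroup H) : Set H) := by
  intro n hn
  have hn' : n⁻¹ ∈ Subgroup.normalizer (Y : Set H) := Subgroup.inv_mem _ hn
  have key : ∀ m : H, m ∈ Subgroup.normalizer (Y : Set H) →
      ∀ z, z ∈ Subgroup.centralizer (Y : Set H) → m * z * m⁻¹ ∈ Subgroup.centralizer (Y : Set H) := by
    intro m hm z hz
    rw [Subgroup.mem_centralizer_iff] at hz ⊢
    intro y hy
    rw [Subgroup.mem_set_normalizer_iff''] at hm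
    have hy' : m⁻¹ * y * m ∈ Y := (hm y).mp hy
    have := hz _ hy'
    calc y * (m * z * m⁻¹) = m * ((m⁻¹ * y * m) * z) * m⁻¹ := by group
      _ = m * (z * (m⁻¹ * y * m)) * m⁻¹ := by rw [this]
      _ = m * z * m⁻¹ * y := by group
  rw [Subgroup.mem_set_normalizer_iff]
  intro z
  constructor
  · exact key n hn z
  · intro hz
    have := key n⁻¹ hn' _ hz
    have e : n⁻¹ * (n * z * n⁻¹) * n⁻¹⁻¹ = z := by group
    rwa [e] at this

/-- elements of `L ⊔ D` are products when `L` normalizes `D` -/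
theorem mem_sup_of_le_normalizer {L D : Subgroup H}
    (hLD : L ≤ Subgroup.normalizer (D : Set H)) {x : H} (hx : x ∈ L ⊔ D) :
    ∃ l ∈ L, ∃ d ∈ D, x = l * d := by
  have hsub : D.subgroupOf (Subgroup.normalizer (D : Set H)) |>.Normal := Subgroup.normal_in_normalizer
  have hle : L ⊔ D ≤ Subgroup.normalizer (D : Set H) := sup_le hLD Subgroup.le_normalizer
  -- work inside N = normalizer D
  have hx' : (⟨x, hle hx⟩ : ↥(Subgroup.normalizer (D : Set H))) ∈
      L.subgroupOf (Subgroup.normalizer (D : Set H)) ⊔ D.subgroupOf (Subgroup.normalizer (D : Set H)) := by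
    rw [← Subgroup.subgroupOf_sup hLD Subgroup.le_normalizer]
    exact hx
  obtain ⟨l, hl, d, hd, hld⟩ := Subgroup.mem_sup_of_normal_right.mp hx'
  refine ⟨l, hl, d, hd, ?_⟩
  have := congrArg Subtype.val hld
  simpa using this.symm

/-- a `p`-group normalizing a nontrivial `p`-group has a nontrivial fixed point -/
theorem inf_centralizer_ne_bot_of_le_normalizer [Finite H] {p : ℕ} [Fact p.Prime]
    {P Y : Subgroup H} (hP : IsPGroup p P) (hY : IsPGroup p Y) (hY1 : Y ≠ ⊥)
    (hPY : P ≤ Subgroup.normalizer (Y : Set H)) :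
    Y ⊓ Subgroup.centralizer (P : Set H) ≠ ⊥ := by
  have hR : IsPGroup p ↥(P ⊔ Y) := IsPGroup.to_sup_of_normal_right' hP hY hPY
  have hRne : P ⊔ Y ≠ ⊥ := by
    intro h
    apply hY1
    rw [eq_bot_iff, ← h]; exact le_sup_right
  -- use the action of `P` on `Y` by conjugation
  let act : MulAction ↥P ↥Y :=
    { smul := fun a y => ⟨(a : H) * y * (a : H)⁻¹, by
        have := hPY a.2
        rw [Subgroup.mem_set_normalizer_iff] at this
        exact (this y).mp y.2⟩
      one_smul := by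
        intro y
        apply Subtype.ext
        show ((1 : ↥P) : H) * y * ((1 : ↥P) : H)⁻¹ = y
        simp
      mul_smul := by
        intro a b y
        apply Subtype.ext
        show ((a * b : ↥P) : H) * y * ((a * b : ↥P) : H)⁻¹ = (a : H) * ((b : H) * y * (b : H)⁻¹) * (a : H)⁻¹
        simp only [Subgroup.coe_mul]
        group }
  have hdvd : p ∣ Nat.card ↥Y := by
    rcases hY.card_eq_or_dvd with h | h
    · exfalso
      apply hY1
      exact (Subgroup.card_eq_one).mp h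
    · exact h
  have hfix : (1 : ↥Y) ∈ MulAction.fixedPoints ↥P ↥Y := by
    intro a
    apply Subtype.ext
    show (a : H) * ((1 : ↥Y) : H) * (a : H)⁻¹ = ((1 : ↥Y) : H)
    simp
  obtain ⟨b, hb, hb1⟩ := hP.exists_fixed_point_of_prime_dvd_card_of_fixed_point ↥Y hdvd hfix
  intro hbot
  apply hb1
  have hmem : (b : H) ∈ Y ⊓ Subgroup.centralizer (P : Set H) := by
    refine Subgroup.mem_inf.mpr ⟨b.2, ?_⟩
    rw [Subgroup.mem_centralizer_iff]
    intro a ha
    have := hb ⟨a, ha⟩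
    have h2 : a * (b : H) * a⁻¹ = b := congrArg Subtype.val this
    calc a * (b : H) = (a * b * a⁻¹) * a := by group
      _ = b * a := by rw [h2]
  rw [hbot, Subgroup.mem_bot] at hmem
  exact (Subtype.ext hmem).symm

/-- A large `p`-subgroup is weakly closed in every `p`-subgroup containing it. -/
theorem cj_eq_of_le_pgroup [Finite H] {p : ℕ} [Fact p.Prime] {Q : Subgroup H}
    (hQp : IsPGroup p Q) (hQ1 : Q ≠ ⊥) (hL : Cfsg.IsLarge Q) {S : Subgroup H} (hS : IsPGroup p S)
    (hQS : Q ≤ S) (g : H) (hgS : cj Q g ≤ S) : cj Q g = Q := by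
  obtain ⟨T, hT⟩ := hS.exists_le_sylow
  have hTne : (T : Subgroup H) ≠ ⊥ := by
    intro h
    apply hQ1
    rw [eq_bot_iff, ← h]; exact hQS.trans hT
  have hZne := inf_centralizer_ne_bot T.2 hTne
  apply cj_eq_of_mem_normalizer
  exact mem_normalizer_of_large hQp hQ1 hL g _ hZne
    (inf_le_right.trans (Subgroup.centralizer_le (hQS.trans hT)))
    (inf_le_right.trans (Subgroup.centralizer_le (hgS.trans hT)))

/-- a normal `p`-subgroup of `K` lies in `O_p(K)` -/
theorem le_pCoreOf_of_normal_pgroup {p : ℕ} {K X : Subgroup H} (hXK : X ≤ K) (hX : IsPGroup p X)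
    (hn : K ≤ Subgroup.normalizer (X : Set H)) : X ≤ Cfsg.pCoreOf p K := by
  unfold Cfsg.pCoreOf
  have hmem : X.subgroupOf K ∈ {N : Subgroup ↥K | N.Normal ∧ IsPGroup p N} := by
    refine ⟨⟨?_⟩, hX.comap_subtype⟩
    rintro ⟨x, hxK⟩ hx ⟨k, hk⟩
    rw [Subgroup.mem_subgroupOf] at hx ⊢
    have := hn hk
    rw [Subgroup.mem_set_normalizer_iff] at this
    exact (this x).mp hx
  have h1 : X.subgroupOf K ≤ Cfsg.pCore p ↥K := le_sSup hmem
  have h2 := Subgroup.map_mono (f := K.subtype) h1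
  rwa [Subgroup.map_subgroupOf_eq_of_le hXK] at h2

theorem pCoreOf_le {p : ℕ} (K : Subgroup H) : Cfsg.pCoreOf p K ≤ K := by
  unfold Cfsg.pCoreOf
  exact Subgroup.map_subtype_le _

theorem pCoreOf_isPGroup [Finite H] {p : ℕ} [Fact p.Prime] (K : Subgroup H) :
    IsPGroup p ↥(Cfsg.pCoreOf p K) := by
  unfold Cfsg.pCoreOf
  exact (pCore_isPGroup p _).map _

theorem le_normalizer_pCoreOf {p : ℕ} (K : Subgroup H) :
    K ≤ Subgroup.normalizer ((Cfsg.pCoreOf p K : Subgroup H) : Set H) := by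
  unfold Cfsg.pCoreOf
  have hn : (Cfsg.pCore p ↥K).Normal := pCore_normal' p _
  intro n hn'
  rw [Subgroup.mem_set_normalizer_iff]
  intro x
  simp only [SetLike.mem_coe, Subgroup.mem_map, Subgroup.coe_subtype]
  constructor
  · rintro ⟨y, hy, rfl⟩
    exact ⟨⟨n, hn'⟩ * y * ⟨n, hn'⟩⁻¹, hn.conj_mem y hy _, by simp⟩
  · rintro ⟨y, hy, hyx⟩
    refine ⟨⟨n, hn'⟩⁻¹ * y * ⟨n, hn'⟩, ?_, ?_⟩
    · have := hn.conj_mem y hy (⟨n, hn'⟩⁻¹)
      simpa using this
    · simp only [Subgroup.coe_mul, Subgroup.coe_inv, hyx]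
      group

/-- `O_p(K)` is normalized by the normalizer of `K`. -/
theorem normalizer_le_normalizer_pCoreOf [Finite H] {p : ℕ} [Fact p.Prime] (K : Subgroup H) :
    Subgroup.normalizer (K : Set H) ≤ Subgroup.normalizer ((Cfsg.pCoreOf p K : Subgroup H) : Set H) := by
  have key : ∀ n : H, n ∈ Subgroup.normalizer (K : Set H) → cj (Cfsg.pCoreOf p K) n ≤ Cfsg.pCoreOf p K := by
    intro n hn
    apply le_pCoreOf_of_normal_pgroup
    · have := cj_mono (pCoreOf_le (p := p) K) n
      rwa [cj_eq_of_mem_normalizer hn] at this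
    · exact isPGroup_cj (pCoreOf_isPGroup K) n
    · intro k hk
      rw [mem_normalizer_cj]
      apply le_normalizer_pCoreOf K
      have hn' : n⁻¹ ∈ Subgroup.normalizer (K : Set H) := Subgroup.inv_mem _ hn
      rw [Subgroup.mem_set_normalizer_iff] at hn'
      have := (hn' k).mp hk
      simpa using this
  intro n hn
  rw [mem_normalizer_iff_cj_eq]
  apply le_antisymm (key n hn)
  have h2 := key n⁻¹ (Subgroup.inv_mem _ hn)
  have h3 := cj_mono h2 n
  rwa [cj_cj, mul_inv_cancel, cj_one] at h3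

end Cfsg.Agent.Helper23
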