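import Mathlib
import Cfsg.Prelude.Def_Balance
import Cfsg.Agent.Lib.Helper23.Large
import Cfsg.Agent.Lib.Helper23.FittingHall
import Cfsg.Agent.Lib.Helper21.PGen
import Cfsg.Agent.Lib.Helper22.Components
import Cfsg.Agent.Lib.Helper34.PComponents
import Cfsg.Agent.Lib.Helper30.Cores

/-!
# Conjugation invariance of `p`-components, the `p`-layer, and `O_{p'}(C(Q))` (helper23)
-/

set_option autoImplicit false

namespace Cfsg.Agent.Helper23

open Cfsg

variable {X : Type*} [Group X]

/-- A conjugate of a `p`-component is a `p`-component. -/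
theorem isPComponent_cj {p : ℕ} {K : Subgroup X} (hK : IsPComponent p K) (d : X) :
    IsPComponent p (cj K d) := by
  set π := QuotientGroup.mk' (pPrimeCore p X) with hπ
  refine ⟨hK.1.map (MulAut.conj d).surjective, ?_, ?_⟩
  · show IsComponent ((K.map (MulAut.conj d).toMonoidHom).map π)
    rw [Cfsg.Agent.Helper34.map_conj_map]
    exact Cfsg.Agent.Helper22.IsComponent.conj hK.2.1 _
  · intro H hH hHle hHmap
    have h1 : (cj H d⁻¹).IsSubnormal := hH.map (MulAut.conj d⁻¹).surjective
    have h2 : cj H d⁻¹ ≤ K := by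
      have := cj_mono hHle d⁻¹
      rwa [cj_cj, inv_mul_cancel, cj_one] at this
    have h3 : (cj H d⁻¹).map π = K.map π := by
      show (H.map (MulAut.conj d⁻¹).toMonoidHom).map π = K.map π
      rw [Cfsg.Agent.Helper34.map_conj_map, hHmap, ← Cfsg.Agent.Helper34.map_conj_map]
      have : (cj K d).map (MulAut.conj d⁻¹).toMonoidHom = K := by
        have := cj_cj K d d⁻¹
        rwa [inv_mul_cancel, cj_one] at this
      rw [this]
    have h4 := hK.2.2 _ h1 h2 h3
    rw [← h4, cj_cj, mul_inv_cancel, cj_one]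

/-- The `p`-layer is a normal subgroup. -/
theorem pLayer_normal (p : ℕ) : (pLayer p X).Normal := by
  constructor
  intro n hn g
  have hmap : (pLayer p X).map (MulAut.conj g).toMonoidHom ≤ pLayer p X := by
    unfold pLayer
    rw [Subgroup.map_le_iff_le_comap]
    apply sSup_le
    intro K hK
    rw [← Subgroup.map_le_iff_le_comap]
    exact le_sSup (isPComponent_cj hK g)
  have := hmap (Subgroup.mem_map_of_mem _ hn)
  simpa [MulAut.conj_apply] using this

theorem pPrimePCore_normal (p : ℕ) : (pPrimePCore p X).Normal := by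
  unfold pPrimePCore
  have := pCore_normal' p (X ⧸ pPrimeCore p X)
  exact Subgroup.Normal.comap this _

theorem pPrimeCore_le_pPrimePCore (p : ℕ) : pPrimeCore p X ≤ pPrimePCore p X := by
  intro x hx
  unfold pPrimePCore
  rw [Subgroup.mem_comap]
  have : QuotientGroup.mk' (pPrimeCore p X) x = 1 := by
    rw [QuotientGroup.mk'_apply, QuotientGroup.eq_one_iff]; exact hx
  rw [this]; exact one_mem _

theorem exists_pow_mem_pPrimeCore [Finite X] {p : ℕ} [Fact p.Prime] {q : X}
    (hq : q ∈ pPrimePCore p X) : ∃ k : ℕ, q ^ p ^ k ∈ pPrimeCore p X := by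
  have h1 : QuotientGroup.mk' (pPrimeCore p X) q ∈ pCore p (X ⧸ pPrimeCore p X) := hq
  obtain ⟨k, hk⟩ := (pCore_isPGroup p (X ⧸ pPrimeCore p X)) ⟨_, h1⟩
  refine ⟨k, ?_⟩
  have h2 := congrArg Subtype.val hk
  simp only [Subgroup.coe_pow, Subgroup.coe_one, QuotientGroup.mk'_apply] at h2
  rw [← QuotientGroup.mk_pow, QuotientGroup.eq_one_iff] at h2
  exact h2

/-- If every element of `G` has a `p`-power in the normal subgroup `A` and `S` has index prime to `p`,
then `G = A S`. -/
theorem sup_eq_top_of_pow_mem {G : Type*} [Group G] [Finite G] (p : ℕ) [hp : Fact p.Prime]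
    (A : Subgroup G) [A.Normal] (hA : ∀ g : G, ∃ k : ℕ, g ^ p ^ k ∈ A)
    (S : Subgroup G) (hS : ¬ p ∣ S.index) : A ⊔ S = ⊤ := by
  have hQ : IsPGroup p (G ⧸ A) := by
    intro x
    induction x using QuotientGroup.induction_on with
    | H g =>
      obtain ⟨k, hk⟩ := hA g
      exact ⟨k, by rw [← QuotientGroup.mk_pow, QuotientGroup.eq_one_iff]; exact hk⟩
  rw [← Subgroup.index_eq_one]
  have h1 : (A ⊔ S).index ∣ S.index := Subgroup.index_dvd_of_le le_sup_right
  have h2 : (A ⊔ S).index ∣ A.index := Subgroup.index_dvd_of_le le_sup_left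
  obtain ⟨k, hk⟩ := hQ.exists_card_eq
  rw [Subgroup.index_eq_card A, hk] at h2
  obtain ⟨j, -, hj⟩ := (Nat.dvd_prime_pow hp.out).mp h2
  rcases j with _ | j
  · simpa using hj
  · exfalso
    apply hS
    rw [hj] at h1
    exact dvd_trans (dvd_pow_self p (Nat.succ_ne_zero j)) h1

/-- `O_{p'}(K)` as a subgroup of the ambient group. -/
def ppcOf (p : ℕ) (K : Subgroup X) : Subgroup X := (pPrimeCore p ↥K).map K.subtype

theorem ppcOf_cj (p : ℕ) (K : Subgroup X) (g : X) : ppcOf p (cj K g) = cj (ppcOf p K) g := by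
  unfold ppcOf cj
  let e : ↥K ≃* ↥(K.map (MulAut.conj g).toMonoidHom) :=
    K.equivMapOfInjective (MulAut.conj g).toMonoidHom (MulAut.conj g).injective
  rw [← Cfsg.Agent.Helper30.pPrimeCore_map_mulEquiv p e, Subgroup.map_map, Subgroup.map_map]
  congr 1

theorem ppcOf_le (p : ℕ) (K : Subgroup X) : ppcOf p K ≤ K := Subgroup.map_subtype_le _

theorem card_ppcOf_coprime [Finite X] (p : ℕ) (K : Subgroup X) : (Nat.card ↥(ppcOf p K)).Coprime p := by
  unfold ppcOf
  rw [Nat.card_congr ((pPrimeCore p ↥K).equivMapOfInjective K.subtype K.subtype_injective).symm.toEquiv]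
  exact Cfsg.Agent.Helper30.pPrimeCore_coprime p

theorem centralizer_cj (Q : Subgroup X) (g : X) :
    Subgroup.centralizer (cj Q g : Set X) = cj (Subgroup.centralizer (Q : Set X)) g := by
  ext x
  rw [mem_centralizer_cj, mem_cj]

/-- `O_{p'}(C_X(Q))` as a subgroup of `X`. -/
def ocOf (p : ℕ) (Q : Subgroup X) : Subgroup X := ppcOf p (Subgroup.centralizer (Q : Set X))

theorem ocOf_cj (p : ℕ) (Q : Subgroup X) (g : X) : ocOf p (cj Q g) = cj (ocOf p Q) g := by
  unfold ocOf
  rw [centralizer_cj, ppcOf_cj]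

theorem normalizer_le_normalizer_ocOf (p : ℕ) (Q : Subgroup X) :
    Subgroup.normalizer (Q : Set X) ≤ Subgroup.normalizer ((ocOf p Q : Subgroup X) : Set X) := by
  intro s hs
  rw [mem_normalizer_iff_cj_eq] at hs ⊢
  rw [← ocOf_cj, hs]

/-- If `s` normalizes `A` and `B` it normalizes `A ⊔ B`. -/
theorem normalizer_inf_le_normalizer_sup (A B : Subgroup X) :
    Subgroup.normalizer (A : Set X) ⊓ Subgroup.normalizer (B : Set X) ≤
      Subgroup.normalizer ((A ⊔ B : Subgroup X) : Set X) := by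
  intro s hs
  have h1 := mem_normalizer_iff_cj_eq.mp hs.1
  have h2 := mem_normalizer_iff_cj_eq.mp hs.2
  rw [mem_normalizer_iff_cj_eq]
  unfold cj at *
  rw [Subgroup.map_sup, h1, h2]

theorem sylow_smul_map_subtype {p : ℕ} {N : Subgroup X} (T : Sylow p ↥N) (m : ↥N) :
    ((m • T : Sylow p ↥N) : Subgroup ↥N).map N.subtype =
      cj ((T : Subgroup ↥N).map N.subtype) (m : X) := by
  ext x
  rw [mem_cj]
  constructor
  · rintro ⟨y, hy, rfl⟩
    rw [SetLike.mem_coe, mem_smul_sylow_iff] at hy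
    exact ⟨_, hy, by simp⟩
  · rintro ⟨y, hy, hyx⟩
    have hxN : x ∈ N := by
      have : x = (m : X) * (y : X) * (m : X)⁻¹ := by
        have h := hyx
        simp only [Subgroup.coe_subtype] at h
        rw [h]; group
      rw [this]
      exact N.mul_mem (N.mul_mem m.2 y.2) (N.inv_mem m.2)
    refine ⟨⟨x, hxN⟩, ?_, rfl⟩
    rw [SetLike.mem_coe, mem_smul_sylow_iff]
    have : m⁻¹ * (⟨x, hxN⟩ : ↥N) * m = y := by
      apply Subtype.ext
      simp only [Subgroup.coe_mul, Subgroup.coe_inv]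
      exact hyx.symm
    rw [this]; exact hy

end Cfsg.Agent.Helper23
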