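import Mathlib
import Cfsg.Prelude.Def_Transfer
import Cfsg.Agent.Lib.Helper2.Frobenius

set_option autoImplicit false

namespace Cfsg.Agent.Helper23

open Cfsg Cfsg.Agent.Helper2

/-- Normal `p`-complement: a normal `p'`-subgroup of `p`-power index. -/
theorem hasNPC_iff {A : Type*} [Group A] [Finite A] {p : ℕ} [hp : Fact p.Prime] :
    HasNormalPComplement p A ↔
      ∃ K : Subgroup A, K.Normal ∧ (Nat.card K).Coprime p ∧ ∃ k : ℕ, K.index = p ^ k := by
  constructor
  · rintro ⟨P, K, hKn, hKc⟩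
    obtain ⟨a, ha⟩ := IsPGroup.iff_card.mp P.isPGroup'
    refine ⟨K, hKn, ?_, a, ?_⟩
    · rw [← hKc.index_eq_card]
      exact ((Nat.Prime.coprime_iff_not_dvd hp.out).mpr P.not_dvd_index).symm
    · rw [hKc.symm.index_eq_card, ha]
  · rintro ⟨K, hKn, hcop, k, hk⟩
    exact hasNormalPComplement_of_card_coprime_of_index_pow K hKn hcop k hk

theorem hasNPC_of_surjective {A B : Type*} [Group A] [Group B] [Finite A] [Finite B] {p : ℕ}
    [hp : Fact p.Prime] (f : A →* B) (hf : Function.Surjective f)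
    (h : HasNormalPComplement p A) : HasNormalPComplement p B := by
  obtain ⟨K, hKn, hcop, k, hk⟩ := hasNPC_iff.mp h
  have h1 : (K.map f).index ∣ p ^ k := hk ▸ Subgroup.index_map_dvd K hf
  obtain ⟨b, -, hb⟩ := (Nat.dvd_prime_pow hp.out).mp h1
  exact hasNPC_iff.mpr ⟨K.map f, hKn.map f hf,
    Nat.Coprime.coprime_dvd_left (Subgroup.card_map_dvd K f) hcop, b, hb⟩

theorem hasNPC_of_mulEquiv {A B : Type*} [Group A] [Group B] [Finite A] [Finite B] {p : ℕ}
    [hp : Fact p.Prime] (e : A ≃* B) (h : HasNormalPComplement p A) :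
    HasNormalPComplement p B :=
  hasNPC_of_surjective e.toMonoidHom e.surjective h

theorem hasNPC_of_isPGroup {A : Type*} [Group A] [Finite A] {p : ℕ} [hp : Fact p.Prime]
    (h : IsPGroup p A) : HasNormalPComplement p A := by
  obtain ⟨k, hk⟩ := IsPGroup.iff_card.mp h
  exact hasNPC_iff.mpr ⟨⊥, inferInstance, by simp, k, by rw [Subgroup.index_bot, hk]⟩

theorem hasNPC_of_coprime_card {A : Type*} [Group A] [Finite A] {p : ℕ} [hp : Fact p.Prime]
    (h : (Nat.card A).Coprime p) : HasNormalPComplement p A :=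
  hasNPC_iff.mpr ⟨⊤, inferInstance, by rwa [Subgroup.card_top], 0, by simp⟩

section sub
variable {G : Type*} [Group G] [Finite G] {p : ℕ} [hp : Fact p.Prime]

theorem npc_mono {M₁ M₂ : Subgroup G} (h : M₁ ≤ M₂)
    (h2 : HasNormalPComplement p ↥M₂) : HasNormalPComplement p ↥M₁ :=
  hasNPC_of_mulEquiv (Subgroup.subgroupOfEquivOfLe h)
    (hasNormalPComplement_subgroup h2 (M₁.subgroupOf M₂))

theorem npc_map_iff {H : Type*} [Group H] [Finite H] (f : G →* H)
    (hf : Function.Injective f) (M : Subgroup G) :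
    HasNormalPComplement p ↥(M.map f) ↔ HasNormalPComplement p ↥M :=
  ⟨fun h => hasNPC_of_mulEquiv (M.equivMapOfInjective f hf).symm h,
   fun h => hasNPC_of_mulEquiv (M.equivMapOfInjective f hf) h⟩

theorem npc_top_iff :
    HasNormalPComplement p ↥(⊤ : Subgroup G) ↔ HasNormalPComplement p G :=
  ⟨fun h => hasNPC_of_mulEquiv Subgroup.topEquiv h,
   fun h => hasNPC_of_mulEquiv Subgroup.topEquiv.symm h⟩

/-- In a subgroup with a normal `p`-complement, `p'`-elements centralize normalized `p`-subgroups. -/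
theorem mem_centralizer_of_npc {M Q : Subgroup G} (hM : HasNormalPComplement p ↥M)
    (hQ : IsPGroup p Q) (hQM : Q ≤ M) (hMQ : M ≤ Subgroup.normalizer (Q : Set G)) {g : G}
    (hg : g ∈ M) (hgo : (orderOf g).Coprime p) : g ∈ Subgroup.centralizer (Q : Set G) := by
  obtain ⟨P, D, hDn, hDc⟩ := hM
  have hgD : (⟨g, hg⟩ : M) ∈ D := by
    rw [mem_normalPComplement_iff P D hDc, ← Subgroup.orderOf_coe]
    exact hgo
  rw [Subgroup.mem_centralizer_iff]
  intro u hu
  have hc1 : g * u * g⁻¹ * u⁻¹ ∈ Q :=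
    Q.mul_mem ((Subgroup.mem_normalizer_iff.mp (hMQ hg) u).mp hu) (Q.inv_mem hu)
  set g' : M := ⟨g, hg⟩ with hg'
  set u' : M := ⟨u, hQM hu⟩ with hu'
  have hc2 : g' * u' * g'⁻¹ * u'⁻¹ ∈ D := by
    have h1 : u' * g'⁻¹ * u'⁻¹ ∈ D := hDn.conj_mem _ (D.inv_mem hgD) _
    have h2 := D.mul_mem hgD h1
    have h3 : g' * (u' * g'⁻¹ * u'⁻¹) = g' * u' * g'⁻¹ * u'⁻¹ := by group
    rwa [h3] at h2
  have hco : (orderOf (g' * u' * g'⁻¹ * u'⁻¹)).Coprime p :=
    (mem_normalPComplement_iff P D hDc _).mp hc2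
  rw [← Subgroup.orderOf_coe] at hco
  have hval : ((g' * u' * g'⁻¹ * u'⁻¹ : M) : G) = g * u * g⁻¹ * u⁻¹ := rfl
  rw [hval] at hco
  obtain ⟨k, hk⟩ := hQ ⟨g * u * g⁻¹ * u⁻¹, hc1⟩
  have hk' : (g * u * g⁻¹ * u⁻¹) ^ p ^ k = 1 := by
    have := congrArg Subtype.val hk
    simpa using this
  have hdvd : orderOf (g * u * g⁻¹ * u⁻¹) ∣ p ^ k := orderOf_dvd_of_pow_eq_one hk'
  have h1 : orderOf (g * u * g⁻¹ * u⁻¹) = 1 :=
    Nat.Coprime.eq_one_of_dvd (Nat.Coprime.pow_right k hco) hdvd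
  rw [orderOf_eq_one_iff] at h1
  calc u * g = (g * u * g⁻¹ * u⁻¹)⁻¹ * (g * u) := by group
    _ = g * u := by rw [h1, inv_one, one_mul]

/-- lifting a normal `p`-complement through a normal `p'`-kernel -/
theorem hasNPC_of_quotient_coprime (D : Subgroup G) [D.Normal] (hD : (Nat.card D).Coprime p)
    (h : HasNormalPComplement p (G ⧸ D)) : HasNormalPComplement p G := by
  obtain ⟨K, hKn, hcop, k, hk⟩ := hasNPC_iff.mp h
  have hidx : (K.comap (QuotientGroup.mk' D)).index = p ^ k := by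
    rw [Subgroup.index_comap_of_surjective _ (QuotientGroup.mk'_surjective D), hk]
  refine hasNPC_iff.mpr ⟨K.comap (QuotientGroup.mk' D), hKn.comap _, ?_, k, hidx⟩
  have e1 := (K.comap (QuotientGroup.mk' D)).card_mul_index
  have e2 := K.card_mul_index
  have e3 := Subgroup.card_eq_card_quotient_mul_card_subgroup D
  rw [hidx] at e1
  rw [hk] at e2
  have hpos : 0 < p ^ k := pow_pos hp.out.pos k
  have e4 : Nat.card (K.comap (QuotientGroup.mk' D)) * p ^ k = (Nat.card K * Nat.card D) * p ^ k := by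
    rw [e1, e3, ← e2]; ring
  have e5 := Nat.eq_of_mul_eq_mul_right hpos e4
  rw [e5]
  exact Nat.Coprime.mul_left hcop hD

/-- If `G` has no nontrivial normal `p'`-subgroup, a normal subgroup with a normal `p`-complement
is a `p`-group. -/
theorem isPGroup_of_normal_npc
    (hA : ∀ D : Subgroup G, D.Normal → (Nat.card D).Coprime p → D = ⊥)
    (M : Subgroup G) [hMn : M.Normal] (hM : HasNormalPComplement p ↥M) : IsPGroup p M := by
  obtain ⟨P, D, hDn, hDc⟩ := hM
  set D' := D.map M.subtype with hD'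
  have hD'n : D'.Normal := by
    constructor
    intro d hd g
    obtain ⟨d0, hd0, rfl⟩ := hd
    have hmem : g * (d0 : G) * g⁻¹ ∈ M := hMn.conj_mem _ d0.2 g
    have h1 : Nat.Coprime (orderOf d0) p := (mem_normalPComplement_iff P D hDc d0).mp hd0
    have h2 : (⟨g * (d0 : G) * g⁻¹, hmem⟩ : M) ∈ D := by
      rw [mem_normalPComplement_iff P D hDc]
      rw [← Subgroup.orderOf_coe] at h1 ⊢
      rw [Subgroup.coe_mk, orderOf_conj']
      exact h1
    exact ⟨⟨_, hmem⟩, h2, rfl⟩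
  have hcardD' : Nat.card D' = Nat.card D := Subgroup.card_subtype M D
  have hDcop : Nat.Coprime (Nat.card D) p := by
    rw [← hDc.index_eq_card]
    exact ((Nat.Prime.coprime_iff_not_dvd hp.out).mpr P.not_dvd_index).symm
  have hbot : D' = ⊥ := hA D' hD'n (hcardD' ▸ hDcop)
  have hDbot : Nat.card D = 1 := by rw [← hcardD', hbot, Subgroup.card_bot]
  obtain ⟨a, ha⟩ := IsPGroup.iff_card.mp P.isPGroup'
  have h3 : Nat.card M = p ^ a := by
    have := D.card_mul_index
    rw [hDbot, one_mul, hDc.symm.index_eq_card, ha] at this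
    exact this.symm
  exact IsPGroup.of_card h3

end sub

end Cfsg.Agent.Helper23
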