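import Mathlib
import Cfsg.Prelude.Def_Transfer
import Cfsg.Agent.Lib.Helper10.Thompson
import Cfsg.Agent.Lib.Helper10.ThompsonMap
import Cfsg.Agent.Lib.Helper23.Large
import Cfsg.Agent.Lib.Helper23.NPC
import Cfsg.Agent.S0602
import Cfsg.Agent.S0603

set_option autoImplicit false

namespace Cfsg.Agent.Helper23

open Cfsg Cfsg.Agent.Helper10

universe u

variable {G : Type u} [Group G]

theorem conj_injOn (g : G) (Q : Subgroup G) :
    ∀ x ∈ Q, (MulAut.conj g).toMonoidHom x = 1 → x = 1 := by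
  intro x _ hx
  exact (EmbeddingLike.map_eq_one_iff (f := MulAut.conj g)).mp hx

theorem thompsonSubgroupOf_cj (p : ℕ) (Q : Subgroup G) (g : G) :
    thompsonSubgroupOf p (cj Q g) = cj (thompsonSubgroupOf p Q) g :=
  thompsonSubgroupOf_map p (MulAut.conj g).toMonoidHom Q (conj_injOn g Q)

theorem inf_centralizer_cj (Q : Subgroup G) (g : G) :
    cj Q g ⊓ Subgroup.centralizer ((cj Q g : Subgroup G) : Set G) =
      cj (Q ⊓ Subgroup.centralizer (Q : Set G)) g :=
  inf_centralizer_map (MulAut.conj g).toMonoidHom Q (conj_injOn g Q)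

theorem normalizer_cj_eq (Q : Subgroup G) (g : G) :
    Subgroup.normalizer ((cj Q g : Subgroup G) : Set G) = cj (Subgroup.normalizer (Q : Set G)) g := by
  ext x; rw [mem_normalizer_cj, mem_cj]

theorem centralizer_cj_eq (Q : Subgroup G) (g : G) :
    Subgroup.centralizer ((cj Q g : Subgroup G) : Set G) =
      cj (Subgroup.centralizer (Q : Set G)) g := by
  ext x; rw [mem_centralizer_cj, mem_cj]

theorem normalizer_le_normalizer_thompsonSubgroupOf (p : ℕ) (Q : Subgroup G) :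
    Subgroup.normalizer (Q : Set G) ≤ Subgroup.normalizer (thompsonSubgroupOf p Q : Set G) := by
  intro g hg
  rw [mem_normalizer_iff_cj_eq] at hg ⊢
  rw [← thompsonSubgroupOf_cj, hg]

theorem thompsonSubgroupOf_ne_bot [Finite G] {p : ℕ} [hp : Fact p.Prime] {Q : Subgroup G}
    (hQ : IsPGroup p Q) (hne : Q ≠ ⊥) : thompsonSubgroupOf p Q ≠ ⊥ := by
  have hdvd : p ∣ Nat.card ↥Q := by
    obtain ⟨k, hk⟩ := IsPGroup.iff_card.mp hQ
    have hk0 : k ≠ 0 := by
      rintro rfl
      rw [pow_zero] at hk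
      exact hne (Subgroup.card_eq_one.mp hk)
    rw [hk]; exact dvd_pow_self p hk0
  have h1 := (Cfsg.Agent.S0602.result (G := ↥Q) (p := p)).2 hdvd
  intro h
  apply h1
  unfold thompsonSubgroupOf at h
  exact (Subgroup.map_eq_bot_iff_of_injective _ Q.subtype_injective).mp h

theorem thompsonSubgroupOf_eq_of_le [Finite G] {p : ℕ} [Fact p.Prime] {X P : Subgroup G}
    (hXP : X ≤ P) (hJ : thompsonSubgroupOf p P ≤ X) :
    thompsonSubgroupOf p X = thompsonSubgroupOf p P := by
  have h1 : thompsonSubgroup p ↥P ≤ X.subgroupOf P := by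
    unfold thompsonSubgroupOf at hJ
    exact Subgroup.map_le_iff_le_comap.mp hJ
  have h2 := Cfsg.Agent.S0603.result (G := ↥P) (p := p) (X.subgroupOf P) h1
  have h3 := thompsonSubgroupOf_map p P.subtype (X.subgroupOf P) (fun x _ hx =>
    P.subtype_injective (by rw [hx, map_one]))
  rw [Subgroup.map_subgroupOf_eq_of_le hXP] at h3
  rw [h3, h2]
  rfl

theorem map_centralizer_le {H : Type*} [Group H] (f : G →* H) (Y : Subgroup G) :
    (Subgroup.centralizer (Y : Set G)).map f ≤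
      Subgroup.centralizer ((Y.map f : Subgroup H) : Set H) := by
  rintro _ ⟨c, hc, rfl⟩
  rw [Subgroup.mem_centralizer_iff]
  rintro _ ⟨y, hy, rfl⟩
  rw [← map_mul, ← map_mul, Subgroup.mem_centralizer_iff.mp hc y hy]

theorem npc_map_of_npc [Finite G] {H : Type*} [Group H] [Finite H] {p : ℕ} [Fact p.Prime]
    (f : G →* H) (M : Subgroup G) (h : HasNormalPComplement p ↥M) :
    HasNormalPComplement p ↥(M.map f) :=
  hasNPC_of_surjective (f.subgroupMap M) (f.subgroupMap_surjective M) h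

/-- The two hypotheses of Thompson's theorem for a `p`-subgroup `S`. -/
def ThGood (p : ℕ) (S : Subgroup G) : Prop :=
  HasNormalPComplement p ↥(Subgroup.normalizer (thompsonSubgroupOf p S : Set G)) ∧
  HasNormalPComplement p
    ↥(Subgroup.centralizer ((S ⊓ Subgroup.centralizer (S : Set G) : Subgroup G) : Set G))

/-- Thompson's hypotheses for all Sylow `p`-subgroups. -/
def ThHyp (p : ℕ) (G : Type u) [Group G] : Prop := ∀ P : Sylow p G, ThGood p (P : Subgroup G)

theorem thGood_cj [Finite G] {p : ℕ} [Fact p.Prime] {S : Subgroup G} (h : ThGood p S) (g : G) :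
    ThGood p (cj S g) := by
  unfold ThGood at h ⊢
  obtain ⟨h1, h2⟩ := h
  constructor
  · rw [thompsonSubgroupOf_cj, normalizer_cj_eq]
    exact (npc_map_iff (MulAut.conj g).toMonoidHom (MulAut.conj g).injective _).mpr h1
  · rw [inf_centralizer_cj, centralizer_cj_eq]
    exact (npc_map_iff (MulAut.conj g).toMonoidHom (MulAut.conj g).injective _).mpr h2

theorem thHyp_of_one [Finite G] {p : ℕ} [Fact p.Prime] (P : Sylow p G)
    (h : ThGood p (P : Subgroup G)) : ThHyp p G := by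
  intro P₂
  obtain ⟨g, hg⟩ := MulAction.exists_smul_eq G P P₂
  have : (P₂ : Subgroup G) = cj (P : Subgroup G) g := by
    ext x
    rw [← hg, mem_smul_sylow_iff, mem_cj]
  rw [this]
  exact thGood_cj h g

theorem thHyp_subgroup [Finite G] {p : ℕ} [Fact p.Prime] (M : Subgroup G)
    (h : ∀ S' : Sylow p ↥M, ThGood p ((S' : Subgroup ↥M).map M.subtype)) : ThHyp p ↥M := by
  intro S'
  have h' := h S'
  unfold ThGood at h' ⊢
  obtain ⟨h1, h2⟩ := h'
  have hinj : ∀ x ∈ (S' : Subgroup ↥M), M.subtype x = 1 → x = 1 := fun x _ hx =>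
    M.subtype_injective (by rw [hx, map_one])
  constructor
  · rw [← npc_map_iff M.subtype M.subtype_injective]
    refine npc_mono ?_ h1
    rw [thompsonSubgroupOf_map p M.subtype _ hinj]
    exact Subgroup.le_normalizer_map M.subtype
  · rw [← npc_map_iff M.subtype M.subtype_injective]
    refine npc_mono ?_ h2
    rw [inf_centralizer_map M.subtype _ hinj]
    exact map_centralizer_le M.subtype _

theorem card_mul_relIndex' [Finite G] {U K : Subgroup G} (h : U ≤ K) :
    Nat.card U * U.relIndex K = Nat.card K := by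
  rw [Subgroup.relIndex, ← (U.subgroupOf K).card_mul_index,
    Nat.card_congr (Subgroup.subgroupOfEquivOfLe h).toEquiv]

/-- Sylow conjugacy inside `Y D` for a normal `p'`-subgroup `D` and a `p`-subgroup `Y`. -/
theorem exists_cj_eq_of_le_sup [Finite G] {p : ℕ} [hp : Fact p.Prime] (D Y Y₂ : Subgroup G)
    [hDn : D.Normal] (hD : (Nat.card D).Coprime p) (hY : IsPGroup p Y) (hY₂ : Y₂ ≤ Y ⊔ D)
    (hc : Nat.card Y₂ = Nat.card Y) : ∃ d ∈ D, Y₂ = cj Y d := by
  obtain ⟨a, ha⟩ := IsPGroup.iff_card.mp hY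
  have hY₂p : IsPGroup p Y₂ := IsPGroup.of_card (hc.trans ha)
  have hdisj : D ⊓ Y = ⊥ := disjoint_iff.mp (Subgroup.disjoint_of_coprime_natCard (by
    rw [ha]; exact Nat.Coprime.pow_right a hD))
  set L := Y ⊔ D with hL
  have hYL : Y ≤ L := le_sup_left
  have e1 : D.relIndex L = D.relIndex Y := Subgroup.relIndex_sup_right Y D
  have e2 : D.relIndex Y = Nat.card Y := by
    rw [← Subgroup.inf_relIndex_right, hdisj, Subgroup.relIndex_bot_left]
  have e3 : Nat.card D * D.relIndex L = Nat.card L := card_mul_relIndex' le_sup_right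
  have e4 : Nat.card Y * Y.relIndex L = Nat.card L := card_mul_relIndex' hYL
  have e5 : Nat.card Y₂ * Y₂.relIndex L = Nat.card L := card_mul_relIndex' hY₂
  have hYpos : 0 < Nat.card Y := Nat.card_pos
  have r1 : Y.relIndex L = Nat.card D := by
    apply Nat.eq_of_mul_eq_mul_left hYpos
    rw [e4, ← e3, e1, e2, mul_comm]
  have r2 : Y₂.relIndex L = Nat.card D := by
    apply Nat.eq_of_mul_eq_mul_left hYpos
    rw [← hc, e5, ← e3, e1, e2, hc, mul_comm]
  have hnd : ¬ p ∣ Nat.card D := fun h =>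
    hp.out.one_lt.ne' (Nat.Coprime.eq_one_of_dvd hD.symm h)
  have i1 : ¬ p ∣ (Y.subgroupOf L).index := by
    change ¬ p ∣ Y.relIndex L
    rw [r1]; exact hnd
  have i2 : ¬ p ∣ (Y₂.subgroupOf L).index := by
    change ¬ p ∣ Y₂.relIndex L
    rw [r2]; exact hnd
  have p1 : IsPGroup p ↥(Y.subgroupOf L) := hY.comap_subtype
  have p2 : IsPGroup p ↥(Y₂.subgroupOf L) := hY₂p.comap_subtype
  set S₁ : Sylow p ↥L := p1.toSylow i1 with hS₁
  set S₂ : Sylow p ↥L := p2.toSylow i2 with hS₂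
  obtain ⟨k, hk⟩ := MulAction.exists_smul_eq ↥L S₁ S₂
  have hk2 : (k : G) ∈ Y ⊔ D := k.2
  obtain ⟨y, hy, d, hd, hyd⟩ := Subgroup.mem_sup_of_normal_right.mp hk2
  -- Y₂ = cj Y k
  have hYk : Y₂ = cj Y (k : G) := by
    ext x
    rw [mem_cj]
    constructor
    · intro hx
      have hxL : x ∈ L := hY₂ hx
      have h1 : (⟨x, hxL⟩ : ↥L) ∈ (S₂ : Subgroup ↥L) := by
        rw [hS₂, IsPGroup.toSylow_coe, Subgroup.mem_subgroupOf]
        exact hx
      rw [← hk, mem_smul_sylow_iff, hS₁, IsPGroup.toSylow_coe, Subgroup.mem_subgroupOf] at h1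
      exact h1
    · intro hx
      have hxL : x ∈ L := by
        have := L.mul_mem (L.mul_mem k.2 (hYL hx)) (L.inv_mem k.2)
        have e : (k : G) * ((k : G)⁻¹ * x * (k : G)) * (k : G)⁻¹ = x := by group
        rwa [e] at this
      have h1 : (⟨x, hxL⟩ : ↥L) ∈ (S₂ : Subgroup ↥L) := by
        rw [← hk, mem_smul_sylow_iff, hS₁, IsPGroup.toSylow_coe, Subgroup.mem_subgroupOf]
        exact hx
      rw [hS₂, IsPGroup.toSylow_coe, Subgroup.mem_subgroupOf] at h1
      exact h1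
  -- k = y * d; use D normal to write k = d' * y
  refine ⟨y * d * y⁻¹, hDn.conj_mem d hd y, ?_⟩
  have e : cj Y (y * d) = cj Y (y * d * y⁻¹) := by
    have e1 : y * d = (y * d * y⁻¹) * y := by group
    conv_lhs => rw [e1]
    rw [← cj_cj, cj_eq_of_mem_normalizer (Subgroup.le_normalizer hy)]
  rw [hYk, ← hyd, e]

theorem normalizer_map_mk_le [Finite G] {p : ℕ} [hp : Fact p.Prime] (D : Subgroup G)
    [hDn : D.Normal] (hD : (Nat.card D).Coprime p) {Y : Subgroup G} (hY : IsPGroup p Y) :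
    Subgroup.normalizer ((Y.map (QuotientGroup.mk' D) : Subgroup (G ⧸ D)) : Set (G ⧸ D)) ≤
      (Subgroup.normalizer (Y : Set G)).map (QuotientGroup.mk' D) := by
  intro gb hgb
  obtain ⟨g, rfl⟩ := QuotientGroup.mk'_surjective D gb
  have h1 : cj Y g ≤ Y ⊔ D := by
    intro x hx
    rw [mem_cj] at hx
    have h2 : QuotientGroup.mk' D x ∈ Y.map (QuotientGroup.mk' D) := by
      have h3 : QuotientGroup.mk' D (g⁻¹ * x * g) ∈ Y.map (QuotientGroup.mk' D) := ⟨_, hx, rfl⟩
      have h4 := (Subgroup.mem_normalizer_iff.mp hgb _).mp h3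
      have h5 : QuotientGroup.mk' D g * QuotientGroup.mk' D (g⁻¹ * x * g) *
          (QuotientGroup.mk' D g)⁻¹ = QuotientGroup.mk' D x := by
        rw [← map_inv, ← map_mul, ← map_mul]; congr 1; group
      rwa [h5] at h4
    obtain ⟨y, hy, hyx⟩ := h2
    have h6 : y⁻¹ * x ∈ D := QuotientGroup.eq.mp hyx
    have h7 := Subgroup.mul_mem_sup hy h6
    rwa [mul_inv_cancel_left] at h7
  have hcard : Nat.card (cj Y g) = Nat.card Y :=
    Subgroup.card_map_of_injective (MulAut.conj g).injective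
  obtain ⟨d, hd, hdg⟩ := exists_cj_eq_of_le_sup D Y (cj Y g) hD hY h1 hcard
  refine ⟨d⁻¹ * g, ?_, ?_⟩
  · rw [SetLike.mem_coe, mem_normalizer_iff_cj_eq, ← cj_cj, hdg, cj_cj, inv_mul_cancel, cj_one]
  · rw [map_mul]
    have : QuotientGroup.mk' D d⁻¹ = 1 := (QuotientGroup.eq_one_iff _).mpr (D.inv_mem hd)
    rw [this, one_mul]

theorem centralizer_map_mk_le [Finite G] {p : ℕ} [hp : Fact p.Prime] (D : Subgroup G)
    [hDn : D.Normal] (hD : (Nat.card D).Coprime p) {Z : Subgroup G} (hZ : IsPGroup p Z) :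
    Subgroup.centralizer ((Z.map (QuotientGroup.mk' D) : Subgroup (G ⧸ D)) : Set (G ⧸ D)) ≤
      (Subgroup.centralizer (Z : Set G)).map (QuotientGroup.mk' D) := by
  intro gb hgb
  have hnb := Subgroup.centralizer_le_normalizer _ hgb
  obtain ⟨n, hn, rfl⟩ := normalizer_map_mk_le D hD hZ hnb
  refine ⟨n, ?_, rfl⟩
  obtain ⟨a, ha⟩ := IsPGroup.iff_card.mp hZ
  have hdisj : Z ⊓ D = ⊥ := disjoint_iff.mp (Subgroup.disjoint_of_coprime_natCard (by
    rw [ha]; exact (Nat.Coprime.pow_right a hD).symm))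
  rw [SetLike.mem_coe, Subgroup.mem_centralizer_iff]
  intro z hz
  have hc1 : n * z * n⁻¹ * z⁻¹ ∈ Z :=
    Z.mul_mem ((Subgroup.mem_normalizer_iff.mp hn z).mp hz) (Z.inv_mem hz)
  have hc2 : n * z * n⁻¹ * z⁻¹ ∈ D := by
    have h1 := Subgroup.mem_centralizer_iff.mp hgb (QuotientGroup.mk' D z) ⟨z, hz, rfl⟩
    have e : (QuotientGroup.mk' D) (n * z * n⁻¹ * z⁻¹) = 1 := by
      rw [map_mul, map_mul, map_mul, map_inv, map_inv, ← h1]; group
    exact (QuotientGroup.eq_one_iff _).mp e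
  have hc : n * z * n⁻¹ * z⁻¹ ∈ Z ⊓ D := ⟨hc1, hc2⟩
  rw [hdisj, Subgroup.mem_bot] at hc
  calc z * n = (n * z * n⁻¹ * z⁻¹)⁻¹ * (n * z) := by group
    _ = n * z := by rw [hc, inv_one, one_mul]

theorem thHyp_quotient_coprime [Finite G] {p : ℕ} [hp : Fact p.Prime] (D : Subgroup G)
    [hDn : D.Normal] (hD : (Nat.card D).Coprime p) (h : ThHyp p G) : ThHyp p (G ⧸ D) := by
  intro Pb
  obtain ⟨P, rfl⟩ := Sylow.mapSurjective_surjective (QuotientGroup.mk'_surjective D) p Pb
  have h' := h P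
  change ThGood p ((P : Subgroup G).map (QuotientGroup.mk' D))
  unfold ThGood at h' ⊢
  obtain ⟨h1, h2⟩ := h'
  obtain ⟨a, ha⟩ := IsPGroup.iff_card.mp P.isPGroup'
  have hdisj : (P : Subgroup G) ⊓ D = ⊥ := disjoint_iff.mp (Subgroup.disjoint_of_coprime_natCard (by
    rw [ha]; exact (Nat.Coprime.pow_right a hD).symm))
  have hinj : ∀ x ∈ (P : Subgroup G), QuotientGroup.mk' D x = 1 → x = 1 := by
    intro x hx hx1
    have hxD : x ∈ D := (QuotientGroup.eq_one_iff x).mp hx1
    have : x ∈ (P : Subgroup G) ⊓ D := ⟨hx, hxD⟩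
    rw [hdisj] at this
    exact Subgroup.mem_bot.mp this
  constructor
  · rw [thompsonSubgroupOf_map p _ _ hinj]
    exact npc_mono (normalizer_map_mk_le D hD (P.isPGroup'.to_le (thompsonSubgroupOf_le _)))
      (npc_map_of_npc _ _ h1)
  · rw [inf_centralizer_map _ _ hinj]
    exact npc_mono (centralizer_map_mk_le D hD (P.isPGroup'.to_le inf_le_left))
      (npc_map_of_npc _ _ h2)

end Cfsg.Agent.Helper23
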