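import Mathlib
import Cfsg.Agent.Lib.Helper7.M11UDefs

/-!
# M11UG2 (a) `g2a` (helper1's sub-server for helper7's M11U piece (G2), S0420)

If the involution `t` inverts the Sylow 3-subgroup `R`, every Sylow 3-subgroup `X ≠ R` is `r • E` with `r ∈ R` and
`E ≠ R` normalised by `t`: the map `(r, E) ↦ r • E` from `R × {E ≠ R normalised by t}` (at least `9 * 6` elements) to
`{X // X ≠ R}` (`54` elements) is injective.
-/

set_option autoImplicit false

namespace Cfsg.Agent.Helper23.M11U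

open Subgroup Cfsg.Agent.Helper7.M11U
open scoped Pointwise

variable {G : Type*} [Group G] [Finite G] {t : G} {R R2 R3 : Sylow 3 G}

/-- (G2a) every Sylow 3-subgroup `X ≠ R` is `r • E` with `r ∈ R` and `E ≠ R` normalised by `t`. -/
theorem g2a (B : Base G) (L : Loc G) (ht : orderOf t = 2) (hi : Inverts t (R : Subgroup G)) :
    ∀ X : Sylow 3 G, X ≠ R → ∃ r ∈ (R : Subgroup G), ∃ E : Sylow 3 G,
      t ∈ normalizer ((E : Subgroup G) : Set G) ∧ E ≠ R ∧ X = r • E := by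
  classical
  have hfin : Finite (Sylow 3 G) := Nat.finite_of_card_ne_zero (by rw [L.n55]; norm_num)
  -- elements of `R` fix `R`
  have hfix : ∀ r ∈ (R : Subgroup G), r • R = R := fun r hr =>
    Sylow.smul_eq_iff_mem_normalizer.mpr (le_normalizer hr)
  have hΦne : ∀ r ∈ (R : Subgroup G), ∀ E : Sylow 3 G, E ≠ R → r • E ≠ R := by
    intro r hr E hE h
    apply hE
    have h1 : E = r⁻¹ • R := by rw [← h, inv_smul_smul]
    rw [h1]
    exact hfix r⁻¹ (inv_mem hr)
  -- the map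
  have key : Function.Injective
      (fun p : ↥(R : Subgroup G) × {E : Sylow 3 G // t ∈ normalizer ((E : Subgroup G) : Set G) ∧ E ≠ R} =>
        (⟨(p.1 : G) • p.2.1, hΦne _ p.1.2 _ p.2.2.2⟩ : {X : Sylow 3 G // X ≠ R})) := by
    rintro ⟨⟨r, hr⟩, ⟨E, hEt, hER⟩⟩ ⟨⟨r', hr'⟩, ⟨E', hEt', hER'⟩⟩ h
    have hX : r • E = r' • E' := congrArg Subtype.val h
    have htE : t • E = E := Sylow.smul_eq_iff_mem_normalizer.mpr hEt
    have htE' : t • E' = E' := Sylow.smul_eq_iff_mem_normalizer.mpr hEt'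
    have h1 : (r * t * r⁻¹) • (r • E) = r • E := by
      rw [← mul_smul, inv_mul_cancel_right, mul_smul, htE]
    have h2 : (r' * t * r'⁻¹) • (r • E) = r • E := by
      rw [hX, ← mul_smul, inv_mul_cancel_right, mul_smul, htE']
    have h3 : ((r * t * r⁻¹) * (r' * t * r'⁻¹)⁻¹) • (r • E) = r • E := by
      have h4 : (r' * t * r'⁻¹)⁻¹ • (r • E) = r • E := by
        rw [inv_smul_eq_iff]; exact h2.symm
      rw [mul_smul, h4, h1]
    have hz : (r * t * r⁻¹) * (r' * t * r'⁻¹)⁻¹ = (r * r'⁻¹) * (r * r'⁻¹) := by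
      have h5 := hi (r⁻¹ * r') (mul_mem (inv_mem hr) hr')
      calc (r * t * r⁻¹) * (r' * t * r'⁻¹)⁻¹ = r * (t * (r⁻¹ * r') * t⁻¹) * r'⁻¹ := by group
        _ = r * (r⁻¹ * r')⁻¹ * r'⁻¹ := by rw [h5]
        _ = (r * r'⁻¹) * (r * r'⁻¹) := by group
    have hwR : r * r'⁻¹ ∈ (R : Subgroup G) := mul_mem hr (inv_mem hr')
    have hzR : (r * r'⁻¹) * (r * r'⁻¹) ∈ (R : Subgroup G) := mul_mem hwR hwR
    have hzN : (r * r'⁻¹) * (r * r'⁻¹) ∈ normalizer (((r • E : Sylow 3 G) : Subgroup G) : Set G) := by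
      rw [← hz]; exact Sylow.smul_eq_iff_mem_normalizer.mp h3
    have hzX : (r * r'⁻¹) * (r * r'⁻¹) ∈ ((r • E : Sylow 3 G) : Subgroup G) := by
      have h6 := IsPGroup.inf_normalizer_sylow R.isPGroup' (r • E)
      have hmem : (r * r'⁻¹) * (r * r'⁻¹) ∈
          (R : Subgroup G) ⊓ normalizer (((r • E : Sylow 3 G) : Subgroup G) : Set G) := ⟨hzR, hzN⟩
      have hmem2 : (r * r'⁻¹) * (r * r'⁻¹) ∈ (R : Subgroup G) ⊓ ((r • E : Sylow 3 G) : Subgroup G) := by
        rw [← h6]; exact hmem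
      exact hmem2.2
    have hz1 : (r * r'⁻¹) * (r * r'⁻¹) = 1 := L.ti (r • E) R (hΦne r hr E hER) _ hzX hzR
    have hw3 : (r * r'⁻¹) ^ 3 = 1 := L.exp3 R _ hwR
    have hw1 : r * r'⁻¹ = 1 := by
      have h7 : (r * r'⁻¹) ^ 3 = (r * r'⁻¹) * (r * r'⁻¹) * (r * r'⁻¹) := by
        rw [pow_succ, pow_two]
      rw [h7, hz1, one_mul] at hw3
      exact hw3
    have hrr : r = r' := mul_inv_eq_one.mp hw1
    subst hrr
    have hEE : E = E' := smul_left_cancel r hX
    subst hEE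
    rfl
  -- cardinalities
  have hR9 : Nat.card (R : Subgroup G) = 9 := L.card3 R
  have h7 := L.seven t ht
  have hA6 : 6 ≤ Nat.card {E : Sylow 3 G // t ∈ normalizer ((E : Subgroup G) : Set G) ∧ E ≠ R} := by
    have hle : Nat.card {E : Sylow 3 G // t ∈ normalizer ((E : Subgroup G) : Set G)} ≤
        Nat.card (Option {E : Sylow 3 G // t ∈ normalizer ((E : Subgroup G) : Set G) ∧ E ≠ R}) := by
      apply Nat.card_le_card_of_injective
        (fun E : {E : Sylow 3 G // t ∈ normalizer ((E : Subgroup G) : Set G)} =>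
          if h : E.1 = R then none else some ⟨E.1, E.2, h⟩)
      rintro ⟨E, hE⟩ ⟨E', hE'⟩ h
      by_cases h1 : E = R <;> by_cases h2 : E' = R
      · subst h1; subst h2; rfl
      · simp [h1, h2] at h
      · simp [h1, h2] at h
      · simp only [h1, h2, dite_false, Option.some.injEq, Subtype.mk.injEq] at h
        exact Subtype.ext h
    rw [Finite.card_option, h7] at hle
    omega
  have hT54 : Nat.card {X : Sylow 3 G // X ≠ R} ≤ 54 := by
    have h8 : Nat.card (Option {X : Sylow 3 G // X ≠ R}) = 55 := by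
      rw [Nat.card_congr (Equiv.optionSubtypeNe R), L.n55]
    rw [Finite.card_option] at h8
    omega
  have hcard : Nat.card {X : Sylow 3 G // X ≠ R} ≤
      Nat.card (↥(R : Subgroup G) × {E : Sylow 3 G // t ∈ normalizer ((E : Subgroup G) : Set G) ∧ E ≠ R}) := by
    rw [Nat.card_prod, hR9]
    omega
  have hbij := key.bijective_of_nat_card_le hcard
  intro X hX
  obtain ⟨⟨⟨r, hr⟩, ⟨E, hEt, hER⟩⟩, h⟩ := hbij.2 ⟨X, hX⟩
  exact ⟨r, hr, E, hEt, hER, (congrArg Subtype.val h).symm⟩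

end Cfsg.Agent.Helper23.M11U
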