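import Mathlib
import Cfsg.Agent.Lib.Helper14.GLIDefs
import Cfsg.Agent.Lib.Helper48.SPIMIN
import Cfsg.Agent.Lib.Helper46.SPIIRR
import Cfsg.Agent.Lib.Helper63.SPIMASCHKE

/-!
# GLI (GST): the moved part is a direct sum of irreducible invariant subspaces of dimension `c`
(helper14 server, S5958)
-/

set_option autoImplicit false

namespace Cfsg.Agent.Helper23.GLI

open Module Polynomial Cfsg.Agent.Helper14.GLI

/-- prepend a complement to an independent family -/
theorem h23_indepFam_cons {F V : Type*} [Field F] [AddCommGroup V] [Module F V]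
    (Y C R : Submodule F V) (hYC : Y ⊓ C = ⊥) (hsup : Y ⊔ C = R) (m : ℕ)
    (W : Fin m → Submodule F V) (hW : IsIndepFam C W) :
    IsIndepFam R (Fin.cons Y W : Fin (m + 1) → Submodule F V) := by
  classical
  have hcomp : ((Fin.cons Y W : Fin (m + 1) → Submodule F V) ∘
      ⇑(⟨Fin.succ, Fin.succ_injective _⟩ : Fin m ↪ Fin (m + 1))) = W := by
    funext i
    simp
  constructor
  · rw [iSupIndep_iff_supIndep_univ, Fin.univ_succ, Finset.cons_eq_insert]
    apply Finset.SupIndep.insert
    · rw [Finset.supIndep_map, hcomp, ← iSupIndep_iff_supIndep_univ]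
      exact hW.indep
    · rw [Finset.sup_map, hcomp, Finset.sup_univ_eq_iSup, hW.sup, Fin.cons_zero]
      exact disjoint_iff.2 hYC
  · rw [← Finset.sup_univ_eq_iSup, Fin.univ_succ, Finset.sup_cons, Finset.sup_map, hcomp,
      Finset.sup_univ_eq_iSup, hW.sup, Fin.cons_zero]
    exact hsup

theorem gl_block_decomp {F V : Type*} [Field F] [Fintype F] [AddCommGroup V] [Module F V]
    [FiniteDimensional F V] (x : V →ₗ[F] V) (r : ℕ) [Fact r.Prime] (hr0 : (r : F) ≠ 0)
    (hrq : ¬ r ∣ Fintype.card F) (hxr : x ^ r = 1)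
    (R : Submodule F V) (hRx : R.map x ≤ R) (hfpf : ∀ v ∈ R, x v = v → v = 0) :
    ∃ (m : ℕ) (W : Fin m → Submodule F V), IsIndepFam R W ∧ (∀ k, (W k).map x ≤ W k) ∧
      (∀ k, finrank F (W k) = orderOf ((Fintype.card F : ℕ) : ZMod r)) ∧
      (∀ k, ∀ Z : Submodule F V, Z ≤ W k → Z.map x ≤ Z → Z = ⊥ ∨ Z = W k) := by
  classical
  have key : ∀ n : ℕ, ∀ R : Submodule F V, finrank F R = n → R.map x ≤ R →
      (∀ v ∈ R, x v = v → v = 0) →
      ∃ (m : ℕ) (W : Fin m → Submodule F V), IsIndepFam R W ∧ (∀ k, (W k).map x ≤ W k) ∧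
        (∀ k, finrank F (W k) = orderOf ((Fintype.card F : ℕ) : ZMod r)) ∧
        (∀ k, ∀ Z : Submodule F V, Z ≤ W k → Z.map x ≤ Z → Z = ⊥ ∨ Z = W k) := by
    intro n
    induction n using Nat.strong_induction_on with
    | _ n ih =>
      intro R hn hRx hfpf
      by_cases hR : R = ⊥
      · refine ⟨0, fun i => i.elim0, ⟨?_, ?_⟩, fun k => k.elim0, fun k => k.elim0,
          fun k => k.elim0⟩
        · exact iSupIndep_subsingleton _
        · rw [hR]
          simp
      · obtain ⟨Y, hYR, hY0, hYx, hmin⟩ :=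
          Cfsg.Agent.Helper48.SPI.exists_min_invariant x R hRx hR
        have hprime := Cfsg.Agent.Helper48.SPI.prime_of_min x Y hYx hmin
        obtain ⟨u, huY, hu0⟩ := (Submodule.ne_bot_iff Y).1 hY0
        obtain ⟨Y', hY'Y, huY', hY'x, hY'c⟩ :=
          Cfsg.Agent.Helper46.SPI.exists_cyclic_of_prime x r hrq hxr Y hYx
            (fun v hv => hfpf v (hYR hv)) hprime u huY hu0
        have hY'eq : Y' = Y := by
          rcases hmin Y' hY'Y hY'x with h | h
          · exfalso
            rw [h] at huY'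
            exact hu0 ((Submodule.mem_bot F).1 huY')
          · exact h
        rw [hY'eq] at hY'c
        obtain ⟨C, hCR, hCx, hYC, hYCsup⟩ :=
          Cfsg.Agent.Helper63.SPI.exists_inv_compl x r hr0 hxr R Y hRx hYx hYR
        have hClt : finrank F C < finrank F R := by
          apply Submodule.finrank_lt_finrank_of_lt
          refine lt_of_le_of_ne hCR ?_
          intro h
          apply hY0
          rw [← hYC, h]
          exact (inf_eq_left.2 hYR).symm
        obtain ⟨m, W, hW, hWx, hWc, hWmin⟩ :=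
          ih (finrank F C) (hn ▸ hClt) C rfl hCx (fun v hv => hfpf v (hCR hv))
        refine ⟨m + 1, Fin.cons Y W, h23_indepFam_cons Y C R hYC hYCsup m W hW, ?_, ?_, ?_⟩
        · intro k
          refine Fin.cases ?_ (fun i => ?_) k
          · rw [Fin.cons_zero]; exact hYx
          · rw [Fin.cons_succ]; exact hWx i
        · intro k
          refine Fin.cases ?_ (fun i => ?_) k
          · rw [Fin.cons_zero]; exact hY'c
          · rw [Fin.cons_succ]; exact hWc i
        · intro k
          refine Fin.cases ?_ (fun i => ?_) k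
          · rw [Fin.cons_zero]; exact hmin
          · rw [Fin.cons_succ]; exact hWmin i
  exact key _ R rfl hRx hfpf

end Cfsg.Agent.Helper23.GLI
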