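import Mathlib
import Cfsg.Agent.Lib.Helper23.Large

/-!
# The chain argument in Bender's maximal subgroup theorem (helper23)
-/

set_option autoImplicit false

namespace Cfsg.Agent.Helper23

variable {G : Type*} [Group G]

/-- If `c` commutes with `g ^ a` and `g ^ b`, `a` and `b` coprime, then it commutes with `g`. -/
theorem commute_of_commute_pow_coprime {c g : G} {a b : ℕ} (hab : a.Coprime b)
    (ha : Commute c (g ^ a)) (hb : Commute c (g ^ b)) : Commute c g := by
  have h1 : IsCoprime (a : ℤ) (b : ℤ) := Nat.isCoprime_iff_coprime.mpr hab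
  obtain ⟨u, v, huv⟩ := h1
  have hg : g = (g ^ a) ^ u * (g ^ b) ^ v := by
    rw [← zpow_natCast, ← zpow_natCast, ← zpow_mul, ← zpow_mul, ← zpow_add]
    have : (a : ℤ) * u + (b : ℤ) * v = 1 := by linarith
    rw [this, zpow_one]
  rw [hg]
  exact (ha.zpow_right u).mul_right (hb.zpow_right v)

/-- conjugation by powers of `f` preserves a subgroup preserved by `f`. -/
theorem conj_pow_mem {A : Subgroup G} {f : G} (hfA : ∀ a ∈ A, f * a * f⁻¹ ∈ A) (i : ℕ) :
    ∀ a ∈ A, f ^ i * a * (f ^ i)⁻¹ ∈ A := by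
  induction i with
  | zero => intro a ha; simpa using ha
  | succ i ih =>
    intro a ha
    have := hfA _ (ih a ha)
    have e : f ^ (i + 1) * a * (f ^ (i + 1))⁻¹ = f * (f ^ i * a * (f ^ i)⁻¹) * f⁻¹ := by
      rw [pow_succ']; group
    rw [e]; exact this

/-- **Order lemma.** `A` an abelian subgroup normalized by `f`; `f` a `p`-element commuting with the
`p'`-elements of `A`; `x` a `p'`-element commuting with the `p`-elements of `A`; if `[x, f] ∈ A` then
`x` and `f` commute. -/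
theorem commute_of_commutator_mem_abelian [Finite G] {p : ℕ} [hp : Fact p.Prime] (A : Subgroup G)
    (hAc : ∀ a ∈ A, ∀ b ∈ A, a * b = b * a) {x f : G}
    (hfA : ∀ a ∈ A, f * a * f⁻¹ ∈ A)
    (hfc : ∀ a ∈ A, (orderOf a).Coprime p → f * a = a * f)
    (hxc : ∀ a ∈ A, (∃ k : ℕ, a ^ p ^ k = 1) → x * a = a * x)
    {a₀ : ℕ} (hf : f ^ p ^ a₀ = 1) {m : ℕ} (hm : m.Coprime p) (hx : x ^ m = 1)
    (hc : x * f * x⁻¹ * f⁻¹ ∈ A) : x * f = f * x := by
  set c := x * f * x⁻¹ * f⁻¹ with hcdef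
  obtain ⟨k, m', hm', hkm⟩ : ∃ k m' : ℕ, ¬ p ∣ m' ∧ orderOf c = p ^ k * m' :=
    Nat.exists_eq_pow_mul_and_not_dvd (orderOf_pos c).ne' p hp.out.ne_one
  set d := c ^ p ^ k with hd
  have hdA : d ∈ A := A.pow_mem hc _
  have hdord : orderOf d = m' := by
    rw [hd, orderOf_pow' c (pow_ne_zero k hp.out.ne_zero), hkm, Nat.gcd_eq_right (dvd_mul_right _ _),
      Nat.mul_div_cancel_left _ (pow_pos hp.out.pos k)]
  have hdcop : (orderOf d).Coprime p := by
    rw [hdord]; exact ((Nat.Prime.coprime_iff_not_dvd hp.out).mpr hm').symm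
  have hfd : f * d = d * f := hfc d hdA hdcop
  have hfid : ∀ i : ℕ, f ^ i * d * (f ^ i)⁻¹ = d := by
    intro i
    have : Commute (f ^ i) d := (show Commute f d from hfd).pow_left i
    rw [this.eq]; group
  -- the key induction
  have key : ∀ i : ℕ, ∃ a ∈ A, (c * f) ^ i = a * f ^ i ∧ a ^ p ^ k = d ^ i := by
    intro i
    induction i with
    | zero => exact ⟨1, A.one_mem, by simp, by simp⟩
    | succ i ih =>
      obtain ⟨a, haA, h1, h2⟩ := ih
      have hconj : f ^ i * c * (f ^ i)⁻¹ ∈ A := conj_pow_mem hfA i c hc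
      refine ⟨a * (f ^ i * c * (f ^ i)⁻¹), A.mul_mem haA hconj, ?_, ?_⟩
      · rw [pow_succ, h1, pow_succ]; group
      · have hcomm : Commute a (f ^ i * c * (f ^ i)⁻¹) := hAc a haA _ hconj
        rw [hcomm.mul_pow, h2, pow_succ]
        congr 1
        have : (f ^ i * c * (f ^ i)⁻¹) ^ p ^ k = f ^ i * c ^ p ^ k * (f ^ i)⁻¹ := conj_pow
        rw [this]
        exact hfid i
  obtain ⟨a, haA, h1, h2⟩ := key (p ^ a₀)
  have hcf : c * f = x * f * x⁻¹ := by rw [hcdef]; group
  have h3 : (c * f) ^ p ^ a₀ = 1 := by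
    rw [hcf, conj_pow, hf]; group
  rw [h3, hf, mul_one] at h1
  rw [← h1, one_pow] at h2
  -- d = 1
  have hd1 : d = 1 := by
    have h4 : orderOf d ∣ p ^ a₀ := orderOf_dvd_of_pow_eq_one h2.symm
    have h5 : (orderOf d).Coprime (p ^ a₀) := Nat.Coprime.pow_right _ hdcop
    have h6 : orderOf d = 1 := Nat.Coprime.eq_one_of_dvd h5 h4
    exact orderOf_eq_one_iff.mp h6
  -- c is a p-element, so commutes with x
  have hxcomm : x * c = c * x := hxc c hc ⟨k, hd1⟩
  -- f x⁻¹ f⁻¹ = x⁻¹ c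
  have e1 : f * x⁻¹ * f⁻¹ = x⁻¹ * c := by rw [hcdef]; group
  have e2 : (x⁻¹ * c) ^ m = c ^ m := by
    have hcm : Commute x⁻¹ c := (show Commute x c from hxcomm).inv_left
    rw [hcm.mul_pow, inv_pow, hx, inv_one, one_mul]
  have e3 : (f * x⁻¹ * f⁻¹) ^ m = 1 := by
    rw [conj_pow, inv_pow, hx]; group
  rw [e1, e2] at e3
  have hc1 : c = 1 := by
    have h4 : orderOf c ∣ m := orderOf_dvd_of_pow_eq_one e3
    have h5 : orderOf c ∣ p ^ k := orderOf_dvd_of_pow_eq_one hd1
    have h6 : (m).Coprime (p ^ k) := Nat.Coprime.pow_right _ hm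
    have h7 : orderOf c = 1 := Nat.eq_one_of_dvd_coprimes h6 h4 h5
    exact orderOf_eq_one_iff.mp h7
  have : x * f * x⁻¹ * f⁻¹ = 1 := hc1
  calc x * f = (x * f * x⁻¹ * f⁻¹) * f * x := by group
    _ = f * x := by rw [this, one_mul]

theorem conj_mem_of_le_normalizer {N K : Subgroup G} (hNK : N ≤ Subgroup.normalizer (K : Set G))
    {n g : G} (hn : n ∈ N) (hg : g ∈ K) : n * g * n⁻¹ ∈ K :=
  ((Subgroup.mem_set_normalizer_iff.mp (hNK hn)) g).mp hg

theorem conj_inv_mem_of_le_normalizer {N K : Subgroup G} (hNK : N ≤ Subgroup.normalizer (K : Set G))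
    {n g : G} (hn : n ∈ N) (hg : g ∈ K) : n⁻¹ * g * n ∈ K := by
  have := conj_mem_of_le_normalizer hNK (N.inv_mem hn) hg
  simpa using this

theorem orderOf_conj' (n g : G) : orderOf (n * g * n⁻¹) = orderOf g := by
  have := (MulAut.conj n).orderOf_eq g
  rwa [MulAut.conj_apply] at this

theorem orderOf_conj_inv' (n g : G) : orderOf (n⁻¹ * g * n) = orderOf g := by
  have := orderOf_conj' n⁻¹ g
  rwa [inv_inv] at this

/-- conjugating a commuting pair -/
theorem commute_conj_of_commute {a b : G} (h : Commute a b) (n : G) :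
    Commute (n * a * n⁻¹) (n * b * n⁻¹) := by
  show n * a * n⁻¹ * (n * b * n⁻¹) = n * b * n⁻¹ * (n * a * n⁻¹)
  calc n * a * n⁻¹ * (n * b * n⁻¹) = n * (a * b) * n⁻¹ := by group
    _ = n * (b * a) * n⁻¹ := by rw [h.eq]
    _ = n * b * n⁻¹ * (n * a * n⁻¹) := by group

/-- **Chain lemma.** `K` normal in `N` with `C_N(K) ≤ K`; `P ≤ N` a `p`-subgroup commuting with the
`p'`-elements of `K`; `x ∈ N` a `p'`-element commuting with the `r'`-elements of `K`, `r ≠ p`.
Then `x` centralizes `P`. -/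
theorem chain_centralize [Finite G] {p r : ℕ} [hp : Fact p.Prime] (hne : r ≠ p) (hr : r.Prime)
    (N K P : Subgroup G)
    (hNK : N ≤ Subgroup.normalizer (K : Set G)) (hCK : N ⊓ Subgroup.centralizer (K : Set G) ≤ K)
    (hPN : P ≤ N) (hP : IsPGroup p P)
    (hPK : ∀ f ∈ P, ∀ g ∈ K, (orderOf g).Coprime p → f * g = g * f)
    {x : G} (hxN : x ∈ N) (hxK : ∀ g ∈ K, (orderOf g).Coprime r → x * g = g * x)
    {m : ℕ} (hm : m.Coprime p) (hxm : x ^ m = 1) :
    ∀ f ∈ P, x * f = f * x := by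
  intro f hf
  have hfN : f ∈ N := hPN hf
  set c := x * f * x⁻¹ * f⁻¹ with hcdef
  -- c commutes with r'-elements of K
  have hc_r : ∀ g ∈ K, (orderOf g).Coprime r → Commute c g := by
    intro g hg hgo
    have h1 : Commute x g := hxK g hg hgo
    have hg' : f⁻¹ * g * f ∈ K := conj_inv_mem_of_le_normalizer hNK hfN hg
    have h2 : Commute x (f⁻¹ * g * f) := hxK _ hg' (by rw [orderOf_conj_inv']; exact hgo)
    have h3 := commute_conj_of_commute h2.inv_left f
    have e : f * (f⁻¹ * g * f) * f⁻¹ = g := by group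
    rw [e] at h3
    have e2 : c = x * (f * x⁻¹ * f⁻¹) := by rw [hcdef]; group
    rw [e2]
    exact h1.mul_left h3
  -- c commutes with p'-elements of K
  have hc_p : ∀ g ∈ K, (orderOf g).Coprime p → Commute c g := by
    intro g hg hgo
    have h1 : Commute f g := hPK f hf g hg hgo
    have hg' : x⁻¹ * g * x ∈ K := conj_inv_mem_of_le_normalizer hNK hxN hg
    have h2 : Commute f (x⁻¹ * g * x) := hPK f hf _ hg' (by rw [orderOf_conj_inv']; exact hgo)
    have h3 := commute_conj_of_commute h2 x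
    have e : x * (x⁻¹ * g * x) * x⁻¹ = g := by group
    rw [e] at h3
    have e2 : c = (x * f * x⁻¹) * f⁻¹ := by rw [hcdef]
    rw [e2]
    exact h3.mul_left h1.inv_left
  -- c commutes with K
  have hcK : ∀ g ∈ K, Commute c g := by
    intro g hg
    obtain ⟨k, m', hm', hkm⟩ : ∃ k m' : ℕ, ¬ r ∣ m' ∧ orderOf g = r ^ k * m' :=
      Nat.exists_eq_pow_mul_and_not_dvd (orderOf_pos g).ne' r hr.ne_one
    have hm'pos : 0 < m' := by
      rcases Nat.eq_zero_or_pos m' with h | h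
      · exfalso; apply hm'; rw [h]; exact dvd_zero r
      · exact h
    have ho1 : orderOf (g ^ r ^ k) = m' := by
      rw [orderOf_pow' g (pow_ne_zero k hr.ne_zero), hkm, Nat.gcd_eq_right (dvd_mul_right _ _),
        Nat.mul_div_cancel_left _ (pow_pos hr.pos k)]
    have ho2 : orderOf (g ^ m') = r ^ k := by
      rw [orderOf_pow' g hm'pos.ne', hkm, Nat.gcd_eq_right (dvd_mul_left _ _),
        Nat.mul_div_cancel _ hm'pos]
    have hcop_r : (m').Coprime r := ((Nat.Prime.coprime_iff_not_dvd hr).mpr hm').symm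
    have h1 : Commute c (g ^ r ^ k) := hc_r _ (K.pow_mem hg _) (by rw [ho1]; exact hcop_r)
    have h2 : Commute c (g ^ m') := hc_p _ (K.pow_mem hg _) (by
      rw [ho2]; exact Nat.Coprime.pow_left k ((Nat.coprime_primes hr hp.out).mpr hne))
    exact commute_of_commute_pow_coprime (Nat.Coprime.pow_left k hcop_r.symm) h1 h2
  have hcN : c ∈ N := by
    rw [hcdef]
    exact N.mul_mem (N.mul_mem (N.mul_mem hxN hfN) (N.inv_mem hxN)) (N.inv_mem hfN)
  have hcC : c ∈ Subgroup.centralizer (K : Set G) := by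
    rw [Subgroup.mem_centralizer_iff]
    intro g hg
    exact ((hcK g hg).eq).symm
  have hcK' : c ∈ K := hCK ⟨hcN, hcC⟩
  -- apply the order lemma
  obtain ⟨a₀, ha₀⟩ := hP ⟨f, hf⟩
  have hf' : f ^ p ^ a₀ = 1 := by
    have := congrArg Subtype.val ha₀
    simpa using this
  have hfnorm : f ∈ Subgroup.normalizer ((Subgroup.centralizer (K : Set G) : Subgroup G) : Set G) :=
    normalizer_le_normalizer_centralizer' K (hNK hfN)
  apply commute_of_commutator_mem_abelian (p := p) (K ⊓ Subgroup.centralizer (K : Set G)) ?_ ?_ ?_ ?_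
    hf' hm hxm ⟨hcK', hcC⟩
  · intro a ha b hb
    exact ((Subgroup.mem_centralizer_iff.mp ha.2) b hb.1).symm
  · intro a ha
    exact ⟨conj_mem_of_le_normalizer hNK hfN ha.1,
      ((Subgroup.mem_set_normalizer_iff.mp hfnorm) a).mp ha.2⟩
  · intro a ha hao
    exact hPK f hf a ha.1 hao
  · rintro a ha ⟨k, hk⟩
    apply hxK a ha.1
    have h4 : orderOf a ∣ p ^ k := orderOf_dvd_of_pow_eq_one hk
    exact Nat.Coprime.coprime_dvd_left h4
      (Nat.Coprime.pow_left k ((Nat.coprime_primes hp.out hr).mpr hne.symm))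

/-- **Consequence of the chain lemma.** In addition let `R ≤ N` be an `r`-subgroup commuting with the
`r'`-elements of `K`, `C_G(P) ≤ M` and `M ≤ N_G(R)`. Then `R ≤ O_r(N)`. -/
theorem pcore_le_of_chain [Finite G] {p r : ℕ} [hp : Fact p.Prime] [hr : Fact r.Prime] (hne : r ≠ p)
    (M N K P R : Subgroup G)
    (hNK : N ≤ Subgroup.normalizer (K : Set G)) (hCK : N ⊓ Subgroup.centralizer (K : Set G) ≤ K)
    (hPN : P ≤ N) (hP : IsPGroup p P)
    (hPK : ∀ f ∈ P, ∀ g ∈ K, (orderOf g).Coprime p → f * g = g * f)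
    (hRN : R ≤ N) (hR : IsPGroup r R)
    (hRK : ∀ f ∈ R, ∀ g ∈ K, (orderOf g).Coprime r → f * g = g * f)
    (hCP : Subgroup.centralizer (P : Set G) ≤ M) (hMR : M ≤ Subgroup.normalizer (R : Set G)) :
    R ≤ Cfsg.pCoreOf r N := by
  set S : Set G := {x | x ∈ N ∧ (∀ g ∈ K, (orderOf g).Coprime r → x * g = g * x) ∧
    ∃ k : ℕ, x ^ r ^ k = 1} with hS
  set Y := Subgroup.closure S with hY
  have hYP : Y ≤ Subgroup.centralizer (P : Set G) := by
    rw [hY, Subgroup.closure_le]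
    rintro x ⟨hxN, hxK, k, hk⟩
    rw [SetLike.mem_coe, Subgroup.mem_centralizer_iff]
    intro f hf
    have hcop : (r ^ k).Coprime p := Nat.Coprime.pow_left k ((Nat.coprime_primes hr.out hp.out).mpr hne)
    exact (chain_centralize hne hr.out N K P hNK hCK hPN hP hPK hxN hxK hcop hk f hf).symm
  have hYN : Y ≤ N := by
    rw [hY, Subgroup.closure_le]
    rintro x ⟨hxN, -, -⟩
    exact hxN
  have hcjle : ∀ n ∈ N, cj Y n ≤ Y := by
    intro n hn
    show Y.map (MulAut.conj n).toMonoidHom ≤ Y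
    rw [hY, MonoidHom.map_closure, Subgroup.closure_le]
    rintro _ ⟨x, ⟨hxN, hxK, k, hk⟩, rfl⟩
    apply Subgroup.subset_closure
    simp only [MulEquiv.coe_toMonoidHom, MulAut.conj_apply]
    refine ⟨N.mul_mem (N.mul_mem hn hxN) (N.inv_mem hn), ?_, k, ?_⟩
    · intro g hg hgo
      have hg' : n⁻¹ * g * n ∈ K := conj_inv_mem_of_le_normalizer hNK hn hg
      have h2 : Commute x (n⁻¹ * g * n) := hxK _ hg' (by rw [orderOf_conj_inv']; exact hgo)
      have h3 := commute_conj_of_commute h2 n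
      have e : n * (n⁻¹ * g * n) * n⁻¹ = g := by group
      rw [e] at h3
      exact h3.eq
    · rw [conj_pow, hk]; group
  have hNY : N ≤ Subgroup.normalizer (Y : Set G) := by
    intro n hn
    rw [mem_normalizer_iff_cj_eq]
    apply le_antisymm (hcjle n hn)
    have h2 := hcjle n⁻¹ (N.inv_mem hn)
    have h3 := cj_mono h2 n
    rwa [cj_cj, mul_inv_cancel, cj_one] at h3
  have hRY : R ≤ Y := by
    intro f hf
    apply Subgroup.subset_closure
    refine ⟨hRN hf, hRK f hf, ?_⟩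
    obtain ⟨k, hk⟩ := hR ⟨f, hf⟩
    refine ⟨k, ?_⟩
    have := congrArg Subtype.val hk
    simpa using this
  have hYR : Y ≤ Subgroup.normalizer (R : Set G) := hYP.trans (hCP.trans hMR)
  have h1 : R ≤ Cfsg.pCoreOf r Y := le_pCoreOf_of_normal_pgroup hRY hR hYR
  have h2 : Cfsg.pCoreOf r Y ≤ Cfsg.pCoreOf r N :=
    le_pCoreOf_of_normal_pgroup ((pCoreOf_le Y).trans hYN) (pCoreOf_isPGroup Y)
      (hNY.trans (normalizer_le_normalizer_pCoreOf Y))
  exact h1.trans h2

/-- **Consequence of the chain lemma**, relative form. In addition let `R ≤ N` be an `r`-subgroup commuting with the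
`r'`-elements of `K`, `C_G(P) ≤ M` and `M ≤ N_G(R)`. Then `R ≤ O_r(N)`. -/
theorem pcore_le_of_chain' [Finite G] {p r : ℕ} [hp : Fact p.Prime] [hr : Fact r.Prime] (hne : r ≠ p)
    (M N K P R : Subgroup G)
    (hNK : N ≤ Subgroup.normalizer (K : Set G)) (hCK : N ⊓ Subgroup.centralizer (K : Set G) ≤ K)
    (hPN : P ≤ N) (hP : IsPGroup p P)
    (hPK : ∀ f ∈ P, ∀ g ∈ K, (orderOf g).Coprime p → f * g = g * f)
    (hRN : R ≤ N) (hR : IsPGroup r R)
    (hRK : ∀ f ∈ R, ∀ g ∈ K, (orderOf g).Coprime r → f * g = g * f)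
    (hCP : N ⊓ Subgroup.centralizer (P : Set G) ≤ M) (hMR : M ≤ Subgroup.normalizer (R : Set G)) :
    R ≤ Cfsg.pCoreOf r N := by
  set S : Set G := {x | x ∈ N ∧ (∀ g ∈ K, (orderOf g).Coprime r → x * g = g * x) ∧
    ∃ k : ℕ, x ^ r ^ k = 1} with hS
  set Y := Subgroup.closure S with hY
  have hYP : Y ≤ Subgroup.centralizer (P : Set G) := by
    rw [hY, Subgroup.closure_le]
    rintro x ⟨hxN, hxK, k, hk⟩
    rw [SetLike.mem_coe, Subgroup.mem_centralizer_iff]
    intro f hf
    have hcop : (r ^ k).Coprime p := Nat.Coprime.pow_left k ((Nat.coprime_primes hr.out hp.out).mpr hne)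
    exact (chain_centralize hne hr.out N K P hNK hCK hPN hP hPK hxN hxK hcop hk f hf).symm
  have hYN : Y ≤ N := by
    rw [hY, Subgroup.closure_le]
    rintro x ⟨hxN, -, -⟩
    exact hxN
  have hcjle : ∀ n ∈ N, cj Y n ≤ Y := by
    intro n hn
    show Y.map (MulAut.conj n).toMonoidHom ≤ Y
    rw [hY, MonoidHom.map_closure, Subgroup.closure_le]
    rintro _ ⟨x, ⟨hxN, hxK, k, hk⟩, rfl⟩
    apply Subgroup.subset_closure
    simp only [MulEquiv.coe_toMonoidHom, MulAut.conj_apply]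
    refine ⟨N.mul_mem (N.mul_mem hn hxN) (N.inv_mem hn), ?_, k, ?_⟩
    · intro g hg hgo
      have hg' : n⁻¹ * g * n ∈ K := conj_inv_mem_of_le_normalizer hNK hn hg
      have h2 : Commute x (n⁻¹ * g * n) := hxK _ hg' (by rw [orderOf_conj_inv']; exact hgo)
      have h3 := commute_conj_of_commute h2 n
      have e : n * (n⁻¹ * g * n) * n⁻¹ = g := by group
      rw [e] at h3
      exact h3.eq
    · rw [conj_pow, hk]; group
  have hNY : N ≤ Subgroup.normalizer (Y : Set G) := by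
    intro n hn
    rw [mem_normalizer_iff_cj_eq]
    apply le_antisymm (hcjle n hn)
    have h2 := hcjle n⁻¹ (N.inv_mem hn)
    have h3 := cj_mono h2 n
    rwa [cj_cj, mul_inv_cancel, cj_one] at h3
  have hRY : R ≤ Y := by
    intro f hf
    apply Subgroup.subset_closure
    refine ⟨hRN hf, hRK f hf, ?_⟩
    obtain ⟨k, hk⟩ := hR ⟨f, hf⟩
    refine ⟨k, ?_⟩
    have := congrArg Subtype.val hk
    simpa using this
  have hYR : Y ≤ Subgroup.normalizer (R : Set G) := (le_inf hYN hYP).trans (hCP.trans hMR)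
  have h1 : R ≤ Cfsg.pCoreOf r Y := le_pCoreOf_of_normal_pgroup hRY hR hYR
  have h2 : Cfsg.pCoreOf r Y ≤ Cfsg.pCoreOf r N :=
    le_pCoreOf_of_normal_pgroup ((pCoreOf_le Y).trans hYN) (pCoreOf_isPGroup Y)
      (hNY.trans (normalizer_le_normalizer_pCoreOf Y))
  exact h1.trans h2

end Cfsg.Agent.Helper23
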