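import Mathlib
import Cfsg.Agent.S1247
import Cfsg.Agent.Lib.Helper23.BenderChain
import Cfsg.Agent.Lib.Helper22.Fitting

/-!
# Bender's maximal subgroup theorem: the set-up lemmas (helper23)
-/

set_option autoImplicit false

namespace Cfsg.Agent.Helper23

open Cfsg
open scoped commutatorElement

section General

variable {G : Type*} [Group G] [Finite G]

/-- `F*(A)` as a subgroup of `G`. -/
abbrev fsOf (A : Subgroup G) : Subgroup G := (generalizedFittingSubgroup ↥A).map A.subtype

theorem fsOf_le (A : Subgroup G) : fsOf A ≤ A := Subgroup.map_subtype_le _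

theorem pCoreOf_le_fsOf (A : Subgroup G) (p : ℕ) [Fact p.Prime] : pCoreOf p A ≤ fsOf A := by
  unfold pCoreOf fsOf
  apply Subgroup.map_mono
  exact (Cfsg.Agent.Helper70.pCore_le_fittingSubgroup).trans
    Cfsg.Agent.Helper29.fittingSubgroup_le_generalizedFittingSubgroup

theorem le_normalizer_fsOf (A : Subgroup G) : A ≤ Subgroup.normalizer ((fsOf A : Subgroup G) : Set G) := by
  have : (generalizedFittingSubgroup ↥A).Normal := Cfsg.Agent.Helper29.generalizedFittingSubgroup_normal
  exact Cfsg.Agent.S1247.le_normalizer_map_subtype A _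

/-- `C_A(F*(A)) ≤ F*(A)`, in the ambient group. -/
theorem inf_centralizer_fsOf_le (A : Subgroup G) :
    A ⊓ Subgroup.centralizer ((fsOf A : Subgroup G) : Set G) ≤ fsOf A := by
  rintro x ⟨hxA, hxC⟩
  have h1 : (⟨x, hxA⟩ : ↥A) ∈ Subgroup.centralizer ((generalizedFittingSubgroup ↥A : Subgroup ↥A) : Set ↥A) := by
    rw [Subgroup.mem_centralizer_iff]
    intro y hy
    apply Subtype.ext
    have := (Subgroup.mem_centralizer_iff.mp hxC) (y : G) (Subgroup.mem_map_of_mem A.subtype hy)
    simpa using this
  have h2 := Cfsg.Agent.Helper21.centralizer_generalizedFittingSubgroup_le h1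
  exact ⟨⟨x, hxA⟩, h2, rfl⟩

/-- `E(A)` as a subgroup of `G`. -/
abbrev layerOf (A : Subgroup G) : Subgroup G := (layer ↥A).map A.subtype

theorem layerOf_le_fsOf (A : Subgroup G) : layerOf A ≤ fsOf A :=
  Subgroup.map_mono Cfsg.Agent.Helper29.layer_le_generalizedFittingSubgroup

/-- If `F*(A) ≤ B`, `F*(B) ≤ A` and each `O_q(A)` commutes with the `q'`-elements of `F*(B)`, then
`E(B) ≤ E(A)`. -/
theorem layerOf_le_layerOf (A B : Subgroup G) (hAB : fsOf A ≤ B) (hBA : fsOf B ≤ A)
    (hcomm : ∀ q : ℕ, q.Prime → ∀ x ∈ pCoreOf q A, ∀ g ∈ fsOf B, (orderOf g).Coprime q →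
      x * g = g * x) :
    layerOf B ≤ layerOf A := by
  show (layer ↥B).map B.subtype ≤ layerOf A
  rw [Subgroup.map_le_iff_le_comap]
  show sSup {K : Subgroup ↥B | IsComponent K} ≤ _
  apply sSup_le
  intro L hL
  have hL' : IsComponent L := hL
  set EA := layerOf A with hEA
  have hLfs : L ≤ generalizedFittingSubgroup ↥B :=
    (Cfsg.Agent.Helper21.component_le_layer hL').trans
      Cfsg.Agent.Helper29.layer_le_generalizedFittingSubgroup
  have hLB : L.map B.subtype ≤ A := (Subgroup.map_mono hLfs).trans hBA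
  have hAn : A ≤ Subgroup.normalizer ((EA : Subgroup G) : Set G) :=
    Cfsg.Agent.S1247.le_normalizer_map_subtype A (layer ↥A)
  have hn : L ≤ Subgroup.normalizer ((EA.subgroupOf B : Subgroup ↥B) : Set ↥B) := by
    have := Cfsg.Agent.S1247.subgroupOf_le_normalizer_subgroupOf B (hLB.trans hAn)
    rwa [Subgroup.subgroupOf, Subgroup.comap_map_eq_self_of_injective B.subtype_injective] at this
  rcases Cfsg.Agent.Helper21.component_le_or_commutator_eq_bot_of_le_normalizer L
    (EA.subgroupOf B) hL' hn with h | h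
  · exact h
  · exfalso
    -- elements of L commute with elements of EA
    have hLE : ∀ l ∈ L, ∀ e ∈ EA, (l : G) * e = e * (l : G) := by
      intro l hl e he
      have heB : e ∈ B := hAB (layerOf_le_fsOf A he)
      have hmem : (⟨e, heB⟩ : ↥B) ∈ EA.subgroupOf B := Subgroup.mem_subgroupOf.mpr he
      have h1 : ⁅l, (⟨e, heB⟩ : ↥B)⁆ ∈ ⁅L, EA.subgroupOf B⁆ :=
        Subgroup.commutator_mem_commutator hl hmem
      rw [h, Subgroup.mem_bot, commutatorElement_eq_one_iff_mul_comm] at h1
      exact congrArg Subtype.val h1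
    -- elements of L commute with O_q(A)
    have hLF : ∀ q : ℕ, q.Prime → ∀ x ∈ pCoreOf q A, ∀ l ∈ L, x * (l : G) = (l : G) * x := by
      intro q hq x hx l hl
      have := Fact.mk hq
      have : Group.IsPerfect ↥L := hL'.2.1
      have hgen := Cfsg.Agent.Helper30.pprimeGen_eq_top_of_perfect (H := ↥L) q
      have hrange := Cfsg.Agent.Helper30.range_le_of_pprime_mem q hgen (B.subtype.comp L.subtype)
        (Subgroup.centralizer {x}) ?_
      · have hmem : (l : G) ∈ (B.subtype.comp L.subtype).range := ⟨⟨l, hl⟩, rfl⟩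
        have h2 := hrange hmem
        rw [Subgroup.mem_centralizer_iff] at h2
        exact h2 x rfl
      · intro y hy
        rw [Subgroup.mem_centralizer_iff]
        rintro _ rfl
        apply hcomm q hq _ hx
        · exact Subgroup.mem_map_of_mem B.subtype (hLfs y.2)
        · show (orderOf ((y : ↥B) : G)).Coprime q
          rw [Subgroup.orderOf_coe, Subgroup.orderOf_coe]
          exact hy
    have hcent : (L.map B.subtype).subgroupOf A ≤
        Subgroup.centralizer ((generalizedFittingSubgroup ↥A : Subgroup ↥A) : Set ↥A) := by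
      rw [← Subgroup.le_centralizer_iff]
      unfold generalizedFittingSubgroup
      apply sup_le
      · intro e he
        rw [Subgroup.mem_centralizer_iff]
        intro l hl
        obtain ⟨l', hl', hll⟩ := Subgroup.mem_subgroupOf.mp hl
        apply Subtype.ext
        have := hLE l' hl' (e : G) (Subgroup.mem_map_of_mem A.subtype he)
        simp only [Subgroup.coe_mul]
        rw [← hll]
        exact this
      · rw [Cfsg.Agent.Helper22.fittingSubgroup_eq_iSup_pCore]
        apply iSup_le
        rintro ⟨q, hq⟩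
        intro x hx
        rw [Subgroup.mem_centralizer_iff]
        intro l hl
        obtain ⟨l', hl', hll⟩ := Subgroup.mem_subgroupOf.mp hl
        apply Subtype.ext
        have := hLF q hq (x : G) (Subgroup.mem_map_of_mem A.subtype hx) l' hl'
        simp only [Subgroup.coe_mul]
        rw [← hll]
        exact this.symm
    have hle := hcent.trans Cfsg.Agent.Helper21.centralizer_generalizedFittingSubgroup_le
    apply Cfsg.Agent.Helper21.component_not_le_of_commutative L hL'
    rw [Subgroup.commutator_eq_bot_iff_le_centralizer]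
    intro a ha
    rw [Subgroup.mem_centralizer_iff]
    intro b hb
    have haA : (a : G) ∈ A := hLB (Subgroup.mem_map_of_mem B.subtype ha)
    have hbA : (b : G) ∈ A := hLB (Subgroup.mem_map_of_mem B.subtype hb)
    have ha' : (⟨(a : G), haA⟩ : ↥A) ∈ (L.map B.subtype).subgroupOf A :=
      Subgroup.mem_subgroupOf.mpr (Subgroup.mem_map_of_mem B.subtype ha)
    have hb' : (⟨(b : G), hbA⟩ : ↥A) ∈ (L.map B.subtype).subgroupOf A :=
      Subgroup.mem_subgroupOf.mpr (Subgroup.mem_map_of_mem B.subtype hb)
    have h1 := Subgroup.mem_centralizer_iff.mp (hcent ha') ⟨(b : G), hbA⟩ (hle hb')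
    apply Subtype.ext
    have := congrArg Subtype.val h1
    simpa using this

end General

section Simple

variable {G : Type*} [Group G] [Finite G] [IsSimpleGroup G]

/-- **Consequence of S1247**: if `F*(A) ≤ B` and `F*(B) ≤ A` then `O_p(B)` commutes with the
`p'`-elements of `F*(A)`. -/
theorem pCoreOf_commute_fsOf (hna : ¬ IsMulCommutative G) (A : Subgroup G) (hA : IsCoatom A)
    (B : Subgroup G) (hAB : fsOf A ≤ B) (hBA : fsOf B ≤ A) (p : ℕ) [hp : Fact p.Prime] :
    ∀ x ∈ pCoreOf p B, ∀ g ∈ fsOf A, (orderOf g).Coprime p → x * g = g * x := by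
  have hsn : ((fsOf A).subgroupOf (fsOf A)).IsSubnormal := by
    rw [Subgroup.subgroupOf_self]; exact Subgroup.IsSubnormal.top
  obtain ⟨ha, hb⟩ := Cfsg.Agent.S1247.result hna A hA (fsOf A) le_rfl hsn inf_le_left B hAB
  intro x hx g hg hgo
  by_cases hdvd : p ∣ Nat.card (fittingSubgroup ↥A)
  · obtain ⟨n, hn, rfl⟩ := hg
    have hy : n ∈ (pResidual p ↥(generalizedFittingSubgroup ↥A)).map
        (generalizedFittingSubgroup ↥A).subtype := by
      refine ⟨⟨n, hn⟩, ?_, rfl⟩
      apply Subgroup.subset_closure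
      show (orderOf (⟨n, hn⟩ : ↥(generalizedFittingSubgroup ↥A))).Coprime p
      rw [← Subgroup.orderOf_coe, ← Subgroup.orderOf_coe]
      exact hgo
    exact hb p hp.out hdvd x hx n hy
  · have h1 := ha p hp.out hdvd
    have hxA : x ∈ A := hBA (pCoreOf_le_fsOf B p hx)
    have : x ∈ (pCore p ↥B).map B.subtype ⊓ A := ⟨hx, hxA⟩
    rw [h1, Subgroup.mem_bot] at this
    rw [this]; simp

end Simple

end Cfsg.Agent.Helper23
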