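import Mathlib
import Cfsg.Agent.Lib.Helper2.SR0

/-!
# SR project (S2281), tail of block K (helper23): K10 -- K14 from K5 (`QQ_full`) and K9 (`MM_top`)

Core versions, taking the statements of K5 and K9 as explicit hypotheses, so that they do not
depend on any other piece:
* `Q_le_of`      (K10)  `eich e0 w c ∈ H` for all `w ⊥ e0`, all `c`
* `orb_out_of`   (K11)  every `v` with `ω v e0 ≠ 0` has a nonzero multiple in the orbit of `e0`
* `WW_out_of`    (K12)  all transvections with such a centre lie in `H`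
* `WW_all_of`    (K13)  all transvections lie in `H`
* `core_top_of`  (K14)  `H = ⊤`  (S0765)
-/

set_option autoImplicit false
set_option linter.unusedSectionVars false

namespace Cfsg.Agent.Helper23.SR

open Matrix Cfsg Cfsg.Agent.Helper13 Cfsg.Agent.Helper84.SpRoot Cfsg.Agent.Helper5.SpAut
open Cfsg.Agent.Helper2.SR

section K
variable {F : Type*} [Field F] {n : ℕ}
  {H : Subgroup (Matrix.symplecticGroup (Fin n) F)} {u l : Matrix.symplecticGroup (Fin n) F}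
  {e0 e1 p : Fin n ⊕ Fin n → F} {κ γ : F}

/-- (K10), core: from the statements of K5 and K9 -/
theorem Q_le_of (hQQ : ∀ w : Fin n ⊕ Fin n → F, Cfsg.sympForm n F w e0 = 0 → w ∈ QQ H e0)
    (hMM : ∀ c : F, c ∈ MM H e0) :
    ∀ (w : Fin n ⊕ Fin n → F) (c : F), Cfsg.sympForm n F w e0 = 0 → eich e0 w c ∈ H := by
  intro w c hw
  obtain ⟨_, c', hc'⟩ := hQQ w hw
  have h1 : sympT e0 (c - c') ∈ H := hMM (c - c')
  have h2 : eich e0 w c' * eich e0 0 (c - c') = eich e0 w c := by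
    rw [eich_mul hw (sympForm_zero_left e0), add_zero, sympForm_zero_left]
    congr 1
    ring
  rw [← h2, eich_zero_eq_sympT]
  exact H.mul_mem hc' h1

/-- (K11), core -/
theorem orb_out_of (hyp : Hyp H u l e0 e1 p κ γ)
    (hQ : ∀ (w : Fin n ⊕ Fin n → F) (c : F), Cfsg.sympForm n F w e0 = 0 → eich e0 w c ∈ H) :
    ∀ v : Fin n ⊕ Fin n → F, Cfsg.sympForm n F v e0 ≠ 0 →
      ∃ t : F, t ≠ 0 ∧ t • v ∈ Orb H e0 := by
  intro v hv
  have hα0 : Cfsg.sympForm n F (l.val *ᵥ e1) e0 ≠ 0 := hyp.out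
  obtain ⟨α, hα⟩ : ∃ α, α = Cfsg.sympForm n F (l.val *ᵥ e1) e0 := ⟨_, rfl⟩
  obtain ⟨β, hβ⟩ : ∃ β, β = Cfsg.sympForm n F v e0 := ⟨_, rfl⟩
  rw [← hα] at hα0
  rw [← hβ] at hv
  refine ⟨α / β, div_ne_zero hα0 hv, ?_⟩
  obtain ⟨w0, hw0⟩ : ∃ w0, w0 = l.val *ᵥ e1 := ⟨_, rfl⟩
  rw [← hw0] at hα
  have hx' : Cfsg.sympForm n F ((α / β) • v) e0 = α := by
    rw [sympForm_smul_left, ← hβ]
    field_simp
  have hd : Cfsg.sympForm n F ((α / β) • v - w0) e0 = 0 := by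
    rw [sympForm_sub_left, hx', ← hα, sub_self]
  have hw : Cfsg.sympForm n F (α⁻¹ • ((α / β) • v - w0)) e0 = 0 := by
    rw [sympForm_smul_left, hd, mul_zero]
  have hmem := hQ (α⁻¹ • ((α / β) • v - w0))
    (-(Cfsg.sympForm n F w0 (α⁻¹ • ((α / β) • v - w0))) / α) hw
  refine ⟨eich e0 (α⁻¹ • ((α / β) • v - w0))
      (-(Cfsg.sympForm n F w0 (α⁻¹ • ((α / β) • v - w0))) / α) * l * l,
    H.mul_mem (H.mul_mem hmem hyp.hl) hyp.hl, ?_⟩
  rw [mul_act, mul_act, hyp.le0, ← hw0, eich_act hw, ← hα, smul_smul, mul_inv_cancel₀ hα0,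
    one_smul, div_mul_cancel₀ _ hα0]
  module

/-- (K12), core -/
theorem WW_out_of (hyp : Hyp H u l e0 e1 p κ γ) (hMM : ∀ c : F, c ∈ MM H e0)
    (hQ : ∀ (w : Fin n ⊕ Fin n → F) (c : F), Cfsg.sympForm n F w e0 = 0 → eich e0 w c ∈ H) :
    ∀ v : Fin n ⊕ Fin n → F, Cfsg.sympForm n F v e0 ≠ 0 → v ∈ WW H := by
  intro v hv c
  obtain ⟨t, ht, h, hh, hhe⟩ := orb_out_of hyp hQ v hv
  have key : ∀ c' : F, sympT (t • v) c' ∈ H := by
    intro c'
    rw [← hhe, ← conj_sympT]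
    exact H.mul_mem (H.mul_mem hh (hMM c')) (H.inv_mem hh)
  have h2 := key (c / t ^ 2)
  rw [sympT_smul] at h2
  have h3 : c / t ^ 2 * t ^ 2 = c := by
    field_simp
  rw [h3] at h2
  exact h2

/-- (K13), core -/
theorem WW_all_of (hyp : Hyp H u l e0 e1 p κ γ) (hMM : ∀ c : F, c ∈ MM H e0)
    (hQ : ∀ (w : Fin n ⊕ Fin n → F) (c : F), Cfsg.sympForm n F w e0 = 0 → eich e0 w c ∈ H) :
    ∀ v : Fin n ⊕ Fin n → F, v ≠ 0 → v ∈ WW H := by
  intro v hv0
  by_cases hv : Cfsg.sympForm n F v e0 ≠ 0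
  · exact WW_out_of hyp hMM hQ v hv
  rw [not_not] at hv
  have he0 : e0 ≠ 0 := ne_zero_right hyp.out
  obtain ⟨y1, hy1⟩ := exists_partner he0
  obtain ⟨y2, hy2⟩ := exists_partner hv0
  have hex : ∃ y, Cfsg.sympForm n F y e0 ≠ 0 ∧ Cfsg.sympForm n F y v ≠ 0 := by
    have h1 : Cfsg.sympForm n F y1 e0 = -1 := by rw [sympForm_swap, hy1]
    have h2 : Cfsg.sympForm n F y2 v = -1 := by rw [sympForm_swap, hy2]
    have hm1 : (-1 : F) ≠ 0 := neg_ne_zero.2 one_ne_zero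
    by_cases a : Cfsg.sympForm n F y1 v = 0
    · by_cases b : Cfsg.sympForm n F y2 e0 = 0
      · refine ⟨y1 + y2, ?_, ?_⟩
        · rw [sympForm_add_left, h1, b, add_zero]; exact hm1
        · rw [sympForm_add_left, a, h2, zero_add]; exact hm1
      · exact ⟨y2, b, by rw [h2]; exact hm1⟩
    · exact ⟨y1, by rw [h1]; exact hm1, a⟩
  obtain ⟨y, hye, hyv⟩ := hex
  have hyW : y ∈ WW H := WW_out_of hyp hMM hQ y hye
  have hvy : Cfsg.sympForm n F (v - y) e0 ≠ 0 := by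
    rw [sympForm_sub_left, hv, zero_sub]
    exact neg_ne_zero.2 hye
  have hvyW : v - y ∈ WW H := WW_out_of hyp hMM hQ (v - y) hvy
  have hvy' : Cfsg.sympForm n F v y ≠ 0 := by
    rw [sympForm_swap]
    exact neg_ne_zero.2 hyv
  intro c
  have hact : (sympT y (Cfsg.sympForm n F v y)⁻¹).val *ᵥ (v - y) = v := by
    rw [sympT_act, sympForm_sub_left, sympForm_self, sub_zero, inv_mul_cancel₀ hvy', one_smul]
    abel
  rw [← hact, ← conj_sympT]
  exact H.mul_mem (H.mul_mem (hyW _) (hvyW c)) (H.inv_mem (hyW _))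

/-- (K14), core -/
theorem core_top_of (hyp : Hyp H u l e0 e1 p κ γ) (hMM : ∀ c : F, c ∈ MM H e0)
    (hQ : ∀ (w : Fin n ⊕ Fin n → F) (c : F), Cfsg.sympForm n F w e0 = 0 → eich e0 w c ∈ H) :
    H = ⊤ := by
  rw [eq_top_iff, ← Cfsg.Agent.S0765.result n, Subgroup.closure_le]
  rintro A ⟨w, c, hA⟩
  have hAe : A = sympT w c := Subtype.ext hA
  rw [hAe]
  by_cases hw : w = 0
  · rw [hw, sympT_zero_vec]
    exact H.one_mem
  · exact WW_all_of hyp hMM hQ w hw c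

/-- K10 -- K14 in one step: `H = ⊤` from the statements of K5 and K9 -/
theorem core_top_of_QQ_MM (hyp : Hyp H u l e0 e1 p κ γ)
    (hQQ : ∀ w : Fin n ⊕ Fin n → F, Cfsg.sympForm n F w e0 = 0 → w ∈ QQ H e0)
    (hMM : ∀ c : F, c ∈ MM H e0) : H = ⊤ :=
  core_top_of hyp hMM (Q_le_of hQQ hMM)

end K

end Cfsg.Agent.Helper23.SR
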