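import Mathlib
import Cfsg.Agent.Lib.Helper12.SUOT0
import Cfsg.Agent.Lib.Helper12.SUOT_T14

/-!
# SUOT piece T9 (helper12 sub-server for S2282): the third conjugate, hypothesis form.

`exists_g_of`: if `u` fixes `b_0` and `u b_1 = b_1 + (al - al^q) b_0`, then
`g = eich b_0 (mu • b_1) 0` conjugates `u` to `eich b_0 0 kap * u` for a suitable `mu`.
-/

set_option autoImplicit false

namespace Cfsg.Agent.Helper23.SUOT

open Matrix Cfsg Cfsg.Agent.Helper13 Cfsg.Agent.Helper87.PsuA Cfsg.Agent.Helper12.SUOT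

variable {F : Type*} [Field F] [Fintype F] {q n : ℕ}

theorem exists_g_of (hF : Fintype.card F = q ^ 2) {b : Fin n → Fin n → F} (hb : HB q b)
    (hn : 5 ≤ n) (al : F) (hal : al ^ q ≠ al) (kap : F) (hkap : kap + kap ^ q = 0)
    (u : ↥(Cfsg.SU n F q))
    (hu0 : actv u (b ⟨0, by omega⟩) = b ⟨0, by omega⟩)
    (hu1 : actv u (b ⟨1, by omega⟩) = b ⟨1, by omega⟩ + (al - al ^ q) • b ⟨0, by omega⟩) :
    ∃ g : ↥(Cfsg.SU n F q),
      g * u * g⁻¹ = eich hF (b ⟨0, by omega⟩) 0 kap * u := by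
  have h00 : Cfsg.hermForm n F q (b ⟨0, by omega⟩) (b ⟨0, by omega⟩) = 0 := by
    rw [hb, if_neg]
    intro h
    have := congrArg Fin.val h
    simp only [Fin.val_rev] at this
    omega
  have h01 : Cfsg.hermForm n F q (b ⟨0, by omega⟩) (b ⟨1, by omega⟩) = 0 := by
    rw [hb, if_neg]
    intro h
    have := congrArg Fin.val h
    simp only [Fin.val_rev] at this
    omega
  have h11 : Cfsg.hermForm n F q (b ⟨1, by omega⟩) (b ⟨1, by omega⟩) = 0 := by
    rw [hb, if_neg]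
    intro h
    have := congrArg Fin.val h
    simp only [Fin.val_rev] at this
    omega
  generalize b ⟨0, by omega⟩ = b0 at *
  generalize b ⟨1, by omega⟩ = b1 at *
  have hδ : al - al ^ q ≠ 0 := sub_ne_zero.mpr (fun h => hal h.symm)
  have hδq : (al - al ^ q) ^ q = -(al - al ^ q) := by
    rw [frob_sub hF, frob_frob hF]; ring
  have hkq : kap ^ q = -kap := by linear_combination hkap
  have h0q : (0 : F) ^ q = 0 := frob_zero hF
  -- the parameters
  obtain ⟨c, hc⟩ : ∃ c : F, c ^ q - c = kap := by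
    refine ⟨-(kap / (al - al ^ q)) * al, ?_⟩
    rw [mul_pow, frob_neg hF, div_pow, hδq, hkq]
    field_simp
    ring
  obtain ⟨mu, hmu⟩ : ∃ mu : F, mu * (al - al ^ q) = c := ⟨c / (al - al ^ q), by field_simp⟩
  have hw0 : Cfsg.hermForm n F q b0 (mu • b1) = 0 := by
    rw [hermForm_smul_right, h01, mul_zero]
  have hww : Cfsg.hermForm n F q (mu • b1) (mu • b1) = 0 := by
    rw [hermForm_smul_left, hermForm_smul_right, h11, mul_zero, mul_zero]
  have ha0 : (0 : F) + (0 : F) ^ q + Cfsg.hermForm n F q (mu • b1) (mu • b1) = 0 := by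
    rw [hww, h0q]; ring
  have hak : kap + kap ^ q + Cfsg.hermForm n F q (0 : Fin n → F) 0 = 0 := by
    rw [H_zero_right hF, hkap]; ring
  have ha1 : (0 + c - c ^ q) + (0 + c - c ^ q) ^ q +
      Cfsg.hermForm n F q (mu • b1) (mu • b1) = 0 := by
    rw [hww, frob_sub hF, frob_add hF, frob_frob hF, h0q]; ring
  -- conjugating `g` by `u`
  have hconj : u * eich hF b0 (mu • b1) 0 * u⁻¹ = eich hF b0 (mu • b1) (0 + c - c ^ q) := by
    rw [eich_conj hF h00 hw0 ha0, hu0, actv_smul, hu1, ← eich_add_smul hF h00 hw0 ha0]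
    congr 1
    rw [smul_add, smul_smul, hmu]
  have hmul : eich hF b0 0 kap * eich hF b0 (mu • b1) (0 + c - c ^ q) =
      eich hF b0 (mu • b1) 0 := by
    rw [eich_mul hF h00 (H_zero_right hF b0) hak hw0 ha1, zero_add, H_zero_right hF]
    congr 1
    linear_combination (-1 : F) * hc
  have key : eich hF b0 (mu • b1) 0 =
      eich hF b0 0 kap * (u * eich hF b0 (mu • b1) 0 * u⁻¹) := by
    rw [hconj, hmul]
  refine ⟨eich hF b0 (mu • b1) 0, ?_⟩
  calc eich hF b0 (mu • b1) 0 * u * (eich hF b0 (mu • b1) 0)⁻¹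
      = (eich hF b0 0 kap * (u * eich hF b0 (mu • b1) 0 * u⁻¹)) * u *
          (eich hF b0 (mu • b1) 0)⁻¹ :=
        congrArg (fun z => z * u * (eich hF b0 (mu • b1) 0)⁻¹) key
    _ = eich hF b0 0 kap * u := by group

/-- (T9), verbatim -/
theorem exists_g (hF : Fintype.card F = q ^ 2) {b : Fin n → Fin n → F} (hb : HB q b)
    (hn : 5 ≤ n) (al : F) (hal : al ^ q ≠ al) (kap : F) (hkap : kap + kap ^ q = 0) :
    ∃ g : ↥(Cfsg.SU n F q),
      g * uEl q b al * g⁻¹ = eich hF (b ⟨0, by omega⟩) 0 kap * uEl q b al := by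
  have hu0 : actv (uEl q b al) (b ⟨0, by omega⟩) = b ⟨0, by omega⟩ := by
    have h := uEl_key hF hb al (b ⟨0, by omega⟩)
    rw [Nm_b_zero hF hb ⟨0, by omega⟩ rfl, smul_zero, smul_zero, add_zero] at h
    exact h
  have hu1 : actv (uEl q b al) (b ⟨1, by omega⟩) =
      b ⟨1, by omega⟩ + (al - al ^ q) • b ⟨0, by omega⟩ := by
    have h := uEl_key hF hb al (b ⟨1, by omega⟩)
    rw [Nm_b_succ hF hb ⟨0, by omega⟩ ⟨1, by omega⟩ rfl, actv_add, actv_smul, hu0] at h
    rw [sub_smul]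
    exact eq_sub_of_add_eq h |>.trans (by abel)
  exact exists_g_of hF hb hn al hal kap hkap (uEl q b al) hu0 hu1

end Cfsg.Agent.Helper23.SUOT
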