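import Mathlib
import Cfsg.Agent.Lib.Helper5.OAut10
import Cfsg.Agent.Lib.Helper13.OrthPermP
import Cfsg.Agent.Lib.Helper2.OrthRootGen
import Cfsg.Agent.Lib.Lead.OmegaCenter

set_option autoImplicit false
set_option linter.unusedSectionVars false

/-!
# (BR-C) for helper5's orthogonal-automorphism plan: the three standard forms satisfy `Ctx`

Exact signatures of `tools/oaut_br_sigs_helper5.lean.txt`: `ctx_odd`, `ctx_plus`, `ctx_minus`
(here in namespace `Cfsg.Agent.Helper23.OAutBR`), plus the generic constructor `ctx_of_hyp`.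
-/

namespace Cfsg.Agent.Helper23.OAutBR

open Matrix QuadraticMap Cfsg.Agent.Helper13 Cfsg.Agent.Helper43 Module
open Cfsg.Agent.Helper5.OAut

variable {F : Type*} [Field F] [Fintype F] {ι : Type} [Fintype ι] [DecidableEq ι]

/-- Generic constructor of `Ctx Q`: nondegenerate, a hyperbolic family of length `≥ 3` that
together with vectors orthogonal to it contains the standard basis, and dimension `≥ 7`. -/
theorem ctx_of_hyp (Q : QuadraticForm F (ι → F)) (hQ : (polarBilin Q).Nondegenerate)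
    {k : ℕ} (e f : Fin k → (ι → F)) (hef : IsHypFamily Q e f) (hk : 3 ≤ k)
    (hn : 7 ≤ Fintype.card ι)
    (hspan : ∀ a : ι, (∃ i, (Pi.single a 1 : ι → F) = e i) ∨
      (∃ i, (Pi.single a 1 : ι → F) = f i) ∨
      ((∀ i, polar (⇑Q) (e i) (Pi.single a 1) = 0) ∧
        (∀ i, polar (⇑Q) (f i) (Pi.single a 1) = 0))) : Ctx Q := by
  refine ⟨hQ, omega_eq_EK Q hQ e f hef hk (by omega), ⟨k, e, f, hef, hk⟩, hn, ?_⟩
  intro z hz
  obtain ⟨c, hc⟩ := Cfsg.Agent.Lead.OmegaCenter.scalar_of_commute Q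
    (Cfsg.Agent.Lead.OmegaCenter.omat Q z) hef hk hspan (by
      rintro M ⟨g, hg, rfl⟩
      have h1 : z * ⟨g, hg⟩ = ⟨g, hg⟩ * z := (Subgroup.mem_center_iff.1 hz ⟨g, hg⟩).symm
      have h2 := congrArg (Cfsg.Agent.Lead.OmegaCenter.omat Q) h1
      rw [Cfsg.Agent.Lead.OmegaCenter.omat_mul, Cfsg.Agent.Lead.OmegaCenter.omat_mul] at h2
      exact h2)
  refine ⟨c, fun x => ?_⟩
  show Cfsg.Agent.Lead.OmegaCenter.omat Q z *ᵥ x = c • x
  rw [hc, Matrix.smul_mulVec, Matrix.one_mulVec]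

theorem hspanOdd (m : ℕ) : ∀ x : Unit ⊕ (Fin m ⊕ Fin m),
    (∃ i, (Pi.single x 1 : Unit ⊕ (Fin m ⊕ Fin m) → F) =
      (fun i => (Pi.single (Sum.inr (Sum.inl i)) 1 : Unit ⊕ (Fin m ⊕ Fin m) → F)) i) ∨
    (∃ i, (Pi.single x 1 : Unit ⊕ (Fin m ⊕ Fin m) → F) =
      (fun i => (Pi.single (Sum.inr (Sum.inr i)) 1 : Unit ⊕ (Fin m ⊕ Fin m) → F)) i) ∨
    ((∀ i, polar (⇑(stdOdd F m))
        ((fun i => (Pi.single (Sum.inr (Sum.inl i)) 1 : Unit ⊕ (Fin m ⊕ Fin m) → F)) i)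
        (Pi.single x 1) = 0) ∧
      (∀ i, polar (⇑(stdOdd F m))
        ((fun i => (Pi.single (Sum.inr (Sum.inr i)) 1 : Unit ⊕ (Fin m ⊕ Fin m) → F)) i)
        (Pi.single x 1) = 0)) := by
  intro x
  rcases x with u | i | i
  · refine Or.inr (Or.inr ⟨fun i => ?_, fun i => ?_⟩)
    · rw [polar_comm]; exact stdOdd_polar_zero_e F m i
    · rw [polar_comm]; exact stdOdd_polar_zero_f F m i
  · exact Or.inl ⟨i, rfl⟩
  · exact Or.inr (Or.inl ⟨i, rfl⟩)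

theorem hspanPlus (m : ℕ) : ∀ a : Fin m ⊕ Fin m,
    (∃ i, (Pi.single a 1 : Fin m ⊕ Fin m → F) =
      (fun i => (Pi.single (Sum.inl i) 1 : Fin m ⊕ Fin m → F)) i) ∨
    (∃ i, (Pi.single a 1 : Fin m ⊕ Fin m → F) =
      (fun i => (Pi.single (Sum.inr i) 1 : Fin m ⊕ Fin m → F)) i) ∨
    ((∀ i, polar (⇑(stdPlus F m))
        ((fun i => (Pi.single (Sum.inl i) 1 : Fin m ⊕ Fin m → F)) i) (Pi.single a 1) = 0) ∧
      (∀ i, polar (⇑(stdPlus F m))
        ((fun i => (Pi.single (Sum.inr i) 1 : Fin m ⊕ Fin m → F)) i) (Pi.single a 1) = 0)) := by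
  intro a
  rcases a with i | i
  · exact Or.inl ⟨i, rfl⟩
  · exact Or.inr (Or.inl ⟨i, rfl⟩)

theorem hspanMinus (k : ℕ) (a b : F) : ∀ x : (Fin k ⊕ Fin k) ⊕ Fin 2,
    (∃ i, (Pi.single x 1 : (Fin k ⊕ Fin k) ⊕ Fin 2 → F) =
      (fun i => (Pi.single (Sum.inl (Sum.inl i)) 1 : (Fin k ⊕ Fin k) ⊕ Fin 2 → F)) i) ∨
    (∃ i, (Pi.single x 1 : (Fin k ⊕ Fin k) ⊕ Fin 2 → F) =
      (fun i => (Pi.single (Sum.inl (Sum.inr i)) 1 : (Fin k ⊕ Fin k) ⊕ Fin 2 → F)) i) ∨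
    ((∀ i, polar (⇑(stdMinus F k a b))
        ((fun i => (Pi.single (Sum.inl (Sum.inl i)) 1 : (Fin k ⊕ Fin k) ⊕ Fin 2 → F)) i)
        (Pi.single x 1) = 0) ∧
      (∀ i, polar (⇑(stdMinus F k a b))
        ((fun i => (Pi.single (Sum.inl (Sum.inr i)) 1 : (Fin k ⊕ Fin k) ⊕ Fin 2 → F)) i)
        (Pi.single x 1) = 0)) := by
  intro x
  rcases x with (i | i) | t
  · exact Or.inl ⟨i, rfl⟩
  · exact Or.inr (Or.inl ⟨i, rfl⟩)
  · exact Or.inr (Or.inr ⟨fun i => stdMinus_polar_cross F k a b (Sum.inl i) t,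
      fun i => stdMinus_polar_cross F k a b (Sum.inr i) t⟩)

/-- (BR-C), odd dimension. -/
theorem ctx_odd (h2 : (2 : F) ≠ 0) {m : ℕ} (hm : 3 ≤ m) : Ctx (stdOdd F m) :=
  ctx_of_hyp (stdOdd F m) (stdOdd_nondegenerate F m h2) _ _ (stdOdd_isHypFamily F m) hm
    (by simp only [Fintype.card_sum, Fintype.card_fin, Fintype.card_unit]; omega) (hspanOdd m)

/-- (BR-C), plus type. -/
theorem ctx_plus {m : ℕ} (hm : 5 ≤ m) : Ctx (stdPlus F m) :=
  ctx_of_hyp (stdPlus F m) (stdPlus_nondegenerate F m) _ _ (stdPlus_isHypFamily F m)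
    (by omega) (by simp only [Fintype.card_sum, Fintype.card_fin]; omega) (hspanPlus m)

/-- (BR-C), minus type. -/
theorem ctx_minus {m : ℕ} (hm : 3 ≤ m) {a b : F} (hab : AnisoPair a b) :
    Ctx (stdMinus F m a b) :=
  ctx_of_hyp (stdMinus F m a b) (stdMinus_nondegenerate m hab) _ _
    (stdMinus_isHypFamily F m a b) hm
    (by simp only [Fintype.card_sum, Fintype.card_fin]; omega) (hspanMinus m a b)

end Cfsg.Agent.Helper23.OAutBR

/-! verification that the signatures are the requested ones -/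
namespace Cfsg.Agent.Helper23.OAutBRCheck

open Matrix QuadraticMap Cfsg.Agent.Helper13 Cfsg.Agent.Helper43 Module
open Cfsg.Agent.Helper5.OAut

variable {F : Type*} [Field F] [Fintype F] {ι : Type} [Fintype ι] [DecidableEq ι]
  {Q : QuadraticForm F (ι → F)}

theorem ctx_odd (h2 : (2 : F) ≠ 0) {m : ℕ} (hm : 3 ≤ m) : Ctx (stdOdd F m) := by
  exact Cfsg.Agent.Helper23.OAutBR.ctx_odd h2 hm

theorem ctx_plus {m : ℕ} (hm : 5 ≤ m) : Ctx (stdPlus F m) := by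
  exact Cfsg.Agent.Helper23.OAutBR.ctx_plus hm

theorem ctx_minus {m : ℕ} (hm : 3 ≤ m) {a b : F} (hab : AnisoPair a b) :
    Ctx (stdMinus F m a b) := by
  exact Cfsg.Agent.Helper23.OAutBR.ctx_minus hm hab

end Cfsg.Agent.Helper23.OAutBRCheck
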