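import Mathlib
import Cfsg.Agent.Lib.Helper5.OAut8

/-!
(NG-span), requested by helper5 (#2742): the perp `N = ⟨u,v⟩^⊥` of a hyperbolic pair is spanned by
its singular vectors.
-/

set_option autoImplicit false

namespace Cfsg.Agent.Helper23.OAutNG

open Matrix QuadraticMap Cfsg.Agent.Helper13 Cfsg.Agent.Helper43 Module Cfsg.Agent.Helper5.OAut

variable {F : Type*} [Field F] [Fintype F] {ι : Type} [Fintype ι] [DecidableEq ι]
  {Q : QuadraticForm F (ι → F)}

theorem NG_span (C : Ctx Q) {u v : ι → F} (hu : Q u = 0) (hv : Q v = 0)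
    (huv : polar (⇑Q) u v = 1) {x : ι → F} (hux : polar (⇑Q) u x = 0)
    (hvx : polar (⇑Q) v x = 0) :
    x ∈ Submodule.span F {w : ι → F | Q w = 0 ∧ polar (⇑Q) u w = 0 ∧ polar (⇑Q) v w = 0} := by
  obtain ⟨w, hw0, hw, huw, hvw⟩ := NG_ex C u v
  obtain ⟨w', hw', huw', hvw', hww'⟩ := NG_part C hu hv huv hw0 hw huw hvw
  obtain ⟨-, h2, h3⟩ := NG_proj hw hw' hww' x
  have huy : polar (⇑Q) u (x - polar (⇑Q) w' x • w - polar (⇑Q) w x • w') = 0 := by
    rw [h3 u huw huw', hux]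
  have hvy : polar (⇑Q) v (x - polar (⇑Q) w' x • w - polar (⇑Q) w x • w') = 0 := by
    rw [h3 v hvw hvw', hvx]
  generalize hy : x - polar (⇑Q) w' x • w - polar (⇑Q) w x • w' = y at h2 huy hvy
  have hw'w : polar (⇑Q) w' w = 1 := by rw [polar_comm, hww']
  have hw'z : polar (⇑Q) w' (y + w) = 1 := by rw [polar_add_right, h2, hw'w, zero_add]
  have hs := NG_singularize hw' hw'z
  have hwS : w ∈ Submodule.span F
      {w : ι → F | Q w = 0 ∧ polar (⇑Q) u w = 0 ∧ polar (⇑Q) v w = 0} :=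
    Submodule.subset_span ⟨hw, huw, hvw⟩
  have hw'S : w' ∈ Submodule.span F
      {w : ι → F | Q w = 0 ∧ polar (⇑Q) u w = 0 ∧ polar (⇑Q) v w = 0} :=
    Submodule.subset_span ⟨hw', huw', hvw'⟩
  have hsS : (y + w) - Q (y + w) • w' ∈ Submodule.span F
      {w : ι → F | Q w = 0 ∧ polar (⇑Q) u w = 0 ∧ polar (⇑Q) v w = 0} := by
    apply Submodule.subset_span
    refine ⟨hs, ?_, ?_⟩
    · rw [polar_sub_right, polar_add_right, polar_smul_right, huy, huw, huw']; simp
    · rw [polar_sub_right, polar_add_right, polar_smul_right, hvy, hvw, hvw']; simp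
  have hx : x = ((y + w) - Q (y + w) • w') + (polar (⇑Q) w' x - 1) • w
      + (polar (⇑Q) w x + Q (y + w)) • w' := by
    rw [← hy]
    module
  rw [hx]
  exact Submodule.add_mem _ (Submodule.add_mem _ hsS (Submodule.smul_mem _ _ hwS))
    (Submodule.smul_mem _ _ hw'S)

end Cfsg.Agent.Helper23.OAutNG
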