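import Mathlib
import Cfsg.Prelude.Def_LieTypeDatum
import Cfsg.Agent.Lib.Helper43.GF.Cent
import Cfsg.Agent.Lib.Helper40.OrthEvenFinal
import Cfsg.Agent.Lib.Helper5.OrthLag12
import Cfsg.Agent.Lib.Helper5.OMFChar2
import Cfsg.Agent.Lib.Helper68.GFSP1
import Cfsg.Agent.S0790

/-!
# GF server of helper43 (S2717), third batch: piece (C) `PhiGO_mem_inn_iff_smul`
-/

set_option autoImplicit false
set_option linter.unusedVariables false

namespace Cfsg.Agent.Helper23.GF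

open Matrix QuadraticMap Cfsg.Agent.Helper43 Cfsg.Agent.Helper43.GF Cfsg.Agent.Helper5.OrthAut
  Cfsg.Agent.Helper40.OrthEven Cfsg.Agent.Helper40.AutPOm

/-- a vector on which the plus form does not vanish. -/
theorem gfc_exists_ne_zero {F : Type*} [Field F] {m : ℕ} (hm : 1 ≤ m) :
    ∃ v : Fin m ⊕ Fin m → F, stdPlus F m v ≠ 0 := by
  classical
  have i0 : Fin m := ⟨0, by omega⟩
  refine ⟨fun x => Sum.elim (fun i => if i = i0 then 1 else 0) (fun i => if i = i0 then 1 else 0) x, ?_⟩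
  rw [stdPlus_apply]
  unfold Cfsg.quadFormPlus
  simp

theorem PhiGO_mem_inn_iff_smul {F : Type*} [Field F] [Fintype F] (h2 : (2 : F) ≠ 0) {m : ℕ} (hm : 4 ≤ m)
    (hq : Fintype.card F % 4 = 1)
    (hperf : commutator ↥(Cfsg.Omega F ⇑(stdPlus F m)) = ⊤)
    (hcent : ∀ Z : Matrix (Fin m ⊕ Fin m) (Fin m ⊕ Fin m) F,
      (∀ s : ↥(Cfsg.Omega F ⇑(stdPlus F m)),
        Z * omat (⇑(stdPlus F m)) s = omat (⇑(stdPlus F m)) s * Z) →
      ∃ c : F, Z = c • (1 : Matrix (Fin m ⊕ Fin m) (Fin m ⊕ Fin m) F))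
    (G : ↥(GO (stdPlus F m))) (μ lam : F) (hlam : lam ≠ 0) (hμ : μ ^ 2 = lam)
    (hG : ∀ v, stdPlus F m (((G : GL (Fin m ⊕ Fin m) F) :
      Matrix (Fin m ⊕ Fin m) (Fin m ⊕ Fin m) F) *ᵥ v) = lam * stdPlus F m v) :
    PhiGO (⇑(stdPlus F m)) G ∈ Cfsg.Inn (Cfsg.POmega F ⇑(stdPlus F m)) ↔
      ∃ s : GL (Fin m ⊕ Fin m) F, s ∈ OmGL (⇑(stdPlus F m)) ∧
        ((G : GL (Fin m ⊕ Fin m) F) : Matrix (Fin m ⊕ Fin m) (Fin m ⊕ Fin m) F) =
          μ • (s : Matrix (Fin m ⊕ Fin m) (Fin m ⊕ Fin m) F) := by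
  classical
  have hμ0 : μ ≠ 0 := by
    intro h
    apply hlam
    rw [← hμ, h]
    simp
  -- `-1 ∈ Ω`
  have hodd : Odd (Fintype.card F) := Nat.odd_iff.2 (by omega)
  have hq2 : Fintype.card F % 2 = 1 := by omega
  have hnegiff := Cfsg.Agent.S0790.result (F := F) rfl hodd m (by omega)
  have hneg : ∃ g : ↥(Cfsg.isometryGroup F ⇑(stdPlus F m)), g ∈ Cfsg.Omega F ⇑(stdPlus F m) ∧
      ((g : GL (Fin m ⊕ Fin m) F) : Matrix (Fin m ⊕ Fin m) (Fin m ⊕ Fin m) F) = -1 := by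
    apply hnegiff.2
    rw [pow_mod_four_eq_one_iff _ _ hq2]
    rintro ⟨-, h3⟩
    omega
  obtain ⟨n1, hn1Ω, hn1⟩ := hneg
  have hn1mem : (n1 : GL (Fin m ⊕ Fin m) F) ∈ OmGL ⇑(stdPlus F m) :=
    (mem_OmGL _ _).2 ⟨⟨n1, hn1Ω⟩, rfl⟩
  constructor
  · intro hinn
    rw [inn_eq] at hinn
    obtain ⟨g, hg, hgPhi⟩ := hinn
    have hg' : (g : GL (Fin m ⊕ Fin m) F) ∈ OmGL ⇑(stdPlus F m) := Subgroup.mem_subgroupOf.1 hg
    have hker : g⁻¹ * ⟨G.1, sim_le_NO _ G.2⟩ ∈ (Phi ⇑(stdPlus F m)).ker := by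
      rw [MonoidHom.mem_ker, map_mul, map_inv, hgPhi, PhiGO_apply, inv_mul_cancel]
    rw [ker_Phi _ hperf hcent, Subgroup.mem_subgroupOf] at hker
    obtain ⟨c, hc⟩ := exists_sclHom_of_mem hker
    have hGc : (G.1 : GL (Fin m ⊕ Fin m) F) = (g : GL (Fin m ⊕ Fin m) F) * sclHom c := by
      rw [← hc]
      simp
    have hGmat : ((G : GL (Fin m ⊕ Fin m) F) : Matrix (Fin m ⊕ Fin m) (Fin m ⊕ Fin m) F) =
        (c : F) • ((g : GL (Fin m ⊕ Fin m) F) : Matrix (Fin m ⊕ Fin m) (Fin m ⊕ Fin m) F) := by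
      rw [hGc, Units.val_mul, sclHom_coe, Matrix.mul_smul, Matrix.mul_one]
    have hgiso : (g : GL (Fin m ⊕ Fin m) F) ∈ Cfsg.isometryGroup F ⇑(stdPlus F m) :=
      OmGL_le_iso _ hg'
    obtain ⟨v, hv⟩ := gfc_exists_ne_zero (F := F) (m := m) (by omega)
    have h1 := hG v
    rw [hGmat, Matrix.smul_mulVec, QuadraticMap.map_smul, (mem_iso_iff _ _).1 hgiso v,
      smul_eq_mul] at h1
    have h2' : (c : F) * c = μ ^ 2 := by
      rw [hμ]
      exact mul_right_cancel₀ hv h1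
    have h3 : (c : F) = μ ∨ (c : F) = -μ := by
      have h4 : ((c : F) - μ) * ((c : F) + μ) = 0 := by linear_combination h2'
      rcases mul_eq_zero.1 h4 with h | h
      · left; exact sub_eq_zero.1 h
      · right; exact eq_neg_of_add_eq_zero_left h
    rcases h3 with h3 | h3
    · exact ⟨g, hg', by rw [hGmat, h3]⟩
    · refine ⟨n1 * g, Subgroup.mul_mem _ hn1mem hg', ?_⟩
      rw [hGmat, h3, Units.val_mul, hn1]
      simp
  · rintro ⟨s, hs, hGs⟩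
    have hsGO : s ∈ GO (stdPlus F m) := iso_le_sim _ (OmGL_le_iso _ hs)
    have heq : PhiGO ⇑(stdPlus F m) G = PhiGO ⇑(stdPlus F m) ⟨s, hsGO⟩ := by
      rw [PhiGO_eq_iff (stdPlus F m) hperf hcent]
      have h1 : (s : GL (Fin m ⊕ Fin m) F)⁻¹ * G.1 = sclHom (Units.mk0 μ hμ0) := by
        rw [inv_mul_eq_iff_eq_mul]
        apply Units.ext
        rw [Units.val_mul, sclHom_coe, Matrix.mul_smul, Matrix.mul_one, Units.val_mk0]
        exact hGs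
      show (s : GL (Fin m ⊕ Fin m) F)⁻¹ * G.1 ∈ Cfsg.Geo.scalars (Fin m ⊕ Fin m) F
      rw [h1]
      exact sclHom_mem _
    rw [heq, inn_eq]
    exact ⟨⟨s, sim_le_NO _ hsGO⟩, Subgroup.mem_subgroupOf.2 hs, rfl⟩

end Cfsg.Agent.Helper23.GF
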