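import Mathlib

/-!
# GF server of helper43 (S2717), second batch: piece (SP2a) `gf_arith`

Pure finite-field arithmetic in odd characteristic: `F ⊃ emb F₀` a quadratic extension of finite
fields, `X² + a₀ X + b₀` anisotropic over `F₀`.
-/

set_option autoImplicit false

namespace Cfsg.Agent.Helper23.GF

open Polynomial in
/-- The norm form `w² - D v²` (`D ≠ 0`) of a finite field of odd order is universal. -/
theorem gf_exists_norm {K : Type*} [Field K] [Fintype K] (hodd : Fintype.card K % 2 = 1)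
    (D lam : K) (hD : D ≠ 0) : ∃ w v : K, w ^ 2 - D * v ^ 2 = lam := by
  obtain ⟨w, v, h⟩ := FiniteField.exists_root_sum_quadratic (f := (X : K[X]) ^ 2)
    (g := C (-D) * X ^ 2 + C 0 * X + C (-lam)) (degree_X_pow 2)
    (degree_quadratic (neg_ne_zero.2 hD)) hodd
  refine ⟨w, v, ?_⟩
  simp at h
  linear_combination h

/-- `2 ≠ 0` gives `ringChar ≠ 2`. -/
theorem gf_ringChar_ne_two {K : Type*} [Field K] (h2 : (2 : K) ≠ 0) : ringChar K ≠ 2 := by
  intro h
  apply h2
  have := CharP.cast_eq_zero K (ringChar K)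
  rw [h] at this
  exact_mod_cast this

/-- Every element of the subfield of index 2 is a square in the big field. -/
theorem gf_isSquare_emb {F₀ F : Type*} [Field F₀] [Fintype F₀] [Field F] [Fintype F] (emb : F₀ →+* F)
    (h2 : (2 : F) ≠ 0) {k : ℕ} (hk : Fintype.card F₀ = 2 * k + 1)
    (hq2 : Fintype.card F / 2 = 2 * k * (k + 1)) (x : F₀) : IsSquare (emb x) := by
  by_cases hx : x = 0
  · rw [hx, map_zero]; exact IsSquare.zero
  · have hx' : emb x ≠ 0 := fun h => hx ((map_eq_zero emb).1 h)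
    rw [FiniteField.isSquare_iff (gf_ringChar_ne_two h2) hx', hq2, pow_mul, ← map_pow]
    have h1 : x ^ (2 * k) = 1 := by
      have := FiniteField.pow_card_sub_one_eq_one x hx
      rwa [hk, Nat.add_sub_cancel] at this
    rw [h1, map_one, one_pow]

theorem gf_arith {F₀ F : Type*} [Field F₀] [Fintype F₀] [Field F] [Fintype F] (emb : F₀ →+* F)
    (hcard : Fintype.card F = Fintype.card F₀ ^ 2) (h2 : (2 : F) ≠ 0) (a₀ b₀ : F₀)
    (hab : ∀ z₁ z₂ : F₀, z₁ ^ 2 + a₀ * z₁ * z₂ + b₀ * z₂ ^ 2 = 0 → z₁ = 0 ∧ z₂ = 0) :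
    ∃ (θ θ' μ : F) (u v lam : F₀), θ + θ' = - emb a₀ ∧ θ * θ' = emb b₀ ∧ θ ≠ θ' ∧
      u ^ 2 + a₀ * u * v + b₀ * v ^ 2 = lam ∧ ¬ IsSquare lam ∧ μ ^ 2 = emb lam ∧
      ¬ IsSquare (emb u - emb v * θ) ∧ (IsSquare μ ↔ Fintype.card F₀ % 4 = 3) := by
  classical
  have hF : ringChar F ≠ 2 := gf_ringChar_ne_two h2
  have h20 : (2 : F₀) ≠ 0 := by
    intro h
    apply h2
    rw [← map_ofNat emb 2, h, map_zero]
  have hF₀ : ringChar F₀ ≠ 2 := gf_ringChar_ne_two h20
  have hodd := FiniteField.odd_card_of_char_ne_two hF₀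
  obtain ⟨k, hk⟩ : ∃ k, Fintype.card F₀ = 2 * k + 1 := ⟨Fintype.card F₀ / 2, by omega⟩
  have hk2 : Fintype.card F₀ / 2 = k := by omega
  have hq2 : Fintype.card F / 2 = 2 * k * (k + 1) := by
    rw [hcard, hk]
    have : (2 * k + 1) ^ 2 = 2 * (2 * k * (k + 1)) + 1 := by ring
    omega
  have hneg : (-1 : F) ≠ 1 := Ring.neg_one_ne_one_of_char_ne_two hF
  -- the discriminant is a nonsquare
  obtain ⟨D₀, hD₀⟩ : ∃ D : F₀, D = a₀ ^ 2 - 4 * b₀ := ⟨_, rfl⟩
  have hDns : ¬ IsSquare D₀ := by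
    rintro ⟨d, hd⟩
    have := hab (-a₀ + d) 2 (by linear_combination (-1 : F₀) * hd + hD₀)
    exact h20 this.2
  have hD0 : D₀ ≠ 0 := by
    intro h
    apply hDns
    rw [h]
    exact IsSquare.zero
  have hDk : D₀ ^ k = -1 := by
    rcases FiniteField.pow_dichotomy hF₀ hD0 with h | h
    · exact absurd ((FiniteField.isSquare_iff hF₀ hD0).2 h) hDns
    · rwa [hk2] at h
  -- its square root in `F`
  obtain ⟨δ, hδ⟩ := gf_isSquare_emb emb h2 hk hq2 D₀
  have hδ0 : δ ≠ 0 := by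
    intro h
    rw [h, mul_zero] at hδ
    exact hD0 ((map_eq_zero emb).1 hδ)
  have hδq : δ ^ Fintype.card F₀ = -δ := by
    rw [hk, pow_succ, pow_mul, sq, ← hδ, ← map_pow, hDk, map_neg, map_one, neg_one_mul]
  have hD₀' : emb D₀ = emb a₀ ^ 2 - 4 * emb b₀ := by
    rw [hD₀, map_sub, map_pow, map_mul, map_ofNat]
  -- Frobenius
  obtain ⟨p, hp⟩ := CharP.exists F₀
  have := hp
  obtain ⟨n, hpp, hn⟩ := FiniteField.card F₀ p
  have : Fact p.Prime := ⟨hpp⟩
  have : CharP F p := charP_of_injective_ringHom emb.injective p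
  have hfrob : ∀ x y : F, (x - y) ^ Fintype.card F₀ = x ^ Fintype.card F₀ - y ^ Fintype.card F₀ := by
    intro x y
    rw [hn]
    exact sub_pow_char_pow x y n
  have hfix : ∀ x : F₀, (emb x) ^ Fintype.card F₀ = emb x := by
    intro x
    rw [← map_pow, FiniteField.pow_card]
  -- the nonsquare `lam` and its representation
  obtain ⟨lam, hlam⟩ := FiniteField.exists_nonsquare hF₀
  have hlam0 : lam ≠ 0 := by
    intro h
    apply hlam
    rw [h]
    exact IsSquare.zero
  have hlamk : lam ^ k = -1 := by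
    rcases FiniteField.pow_dichotomy hF₀ hlam0 with h | h
    · exact absurd ((FiniteField.isSquare_iff hF₀ hlam0).2 h) hlam
    · rwa [hk2] at h
  obtain ⟨w, v', hwv⟩ := gf_exists_norm hodd D₀ lam hD0
  obtain ⟨μ, hμ⟩ := gf_isSquare_emb emb h2 hk hq2 lam
  have hμ0 : μ ≠ 0 := by
    intro h
    rw [h, mul_zero] at hμ
    exact hlam0 ((map_eq_zero emb).1 hμ)
  -- ζ
  have hζN : (emb w - emb v' * δ) ^ Fintype.card F₀ * (emb w - emb v' * δ) = emb lam := by
    rw [hfrob, mul_pow, hfix, hfix, hδq, ← hwv]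
    simp only [map_sub, map_mul, map_pow]
    linear_combination (emb v') ^ 2 * hδ
  have hζ0 : emb w - emb v' * δ ≠ 0 := by
    intro h
    rw [h, mul_zero] at hζN
    exact hlam0 ((map_eq_zero emb).1 hζN.symm)
  refine ⟨(-emb a₀ + δ) / 2, (-emb a₀ - δ) / 2, μ, w - a₀ * v', 2 * v', lam, ?_, ?_, ?_, ?_, hlam,
    ?_, ?_, ?_⟩
  · field_simp
    ring
  · rw [div_mul_div_comm, div_eq_iff (mul_ne_zero h2 h2)]
    linear_combination hδ - hD₀'
  · intro h
    have h3 := (div_left_inj' h2).1 h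
    have h4 : (2 : F) * δ = 0 := by linear_combination h3
    rcases mul_eq_zero.1 h4 with h5 | h5
    · exact h2 h5
    · exact hδ0 h5
  · linear_combination hwv + v' ^ 2 * hD₀
  · rw [sq]; exact hμ.symm
  · have hζ : emb (w - a₀ * v') - emb (2 * v') * ((-emb a₀ + δ) / 2) = emb w - emb v' * δ := by
      simp only [map_sub, map_mul, map_ofNat]
      field_simp
      ring
    rw [hζ, FiniteField.isSquare_iff hF hζ0, hq2]
    have e : 2 * k * (k + 1) = (Fintype.card F₀ + 1) * k := by rw [hk]; ring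
    rw [e, pow_mul, pow_succ, hζN, ← map_pow, hlamk, map_neg, map_one]
    exact hneg
  · rw [FiniteField.isSquare_iff hF hμ0, hq2]
    have e : 2 * k * (k + 1) = 2 * (k * (k + 1)) := by ring
    rw [e, pow_mul, sq, ← hμ, pow_mul, ← map_pow, hlamk, map_neg, map_one,
      neg_one_pow_eq_one_iff_even hneg, Nat.even_iff]
    omega

end Cfsg.Agent.Helper23.GF
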