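import Mathlib
import Cfsg.Agent.Lib.Helper14.GLIDefs
import Cfsg.Agent.Lib.Helper12.GLIMONO

/-!
# GLI (NONPOW) core: from a cyclic basis `b (k, j) = x ^ j (e k)` with `x ^ r = z • 1` to a
decomposition into `t` subspaces of dimension `a` permuted by `x` (helper14 server, S5958)
-/

set_option autoImplicit false

namespace Cfsg.Agent.Helper23.GLI

open Module Polynomial Cfsg.Agent.Helper14.GLI

/-- fibres of the first projection of an equivalence `ι ≃ κ × α` have `card α` elements -/
theorem h23_fiber_card {ι κ α : Type*} [Fintype ι] [Fintype α] [DecidableEq κ]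
    (E : ι ≃ κ × α) (j : κ) :
    (Finset.univ.filter (fun i => (E i).1 = j)).card = Fintype.card α := by
  classical
  rw [← Finset.card_univ (α := α)]
  symm
  apply Finset.card_bij (fun (y : α) _ => E.symm (j, y))
  · intro y _
    simp
  · intro y _ y' _ h
    have h' := E.symm.injective h
    exact (Prod.mk.inj h').2
  · intro i hi
    simp only [Finset.mem_filter, Finset.mem_univ, true_and] at hi
    refine ⟨(E i).2, Finset.mem_univ _, ?_⟩
    rw [← hi]
    simp

theorem h23_nonpow_core {F V : Type*} [Field F] [AddCommGroup V] [Module F V]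
    (x : V →ₗ[F] V) (r' : ℕ) (hr : (r' + 1).Prime) (z : F) (hz0 : z ≠ 0)
    (hxr : x ^ (r' + 1) = z • 1)
    (n₁ : ℕ) (e : Fin n₁ → V) (b : Basis (Fin n₁ × Fin (r' + 1)) F V)
    (hb : ∀ (k : Fin n₁) (j : Fin (r' + 1)), b (k, j) = (x ^ (j : ℕ)) (e k))
    (a t : ℕ) (ha : 0 < a) (hat : n₁ * (r' + 1) = a * t) :
    ∃ D : Fin t → Submodule F V, IsIndepFam ⊤ D ∧ (∀ j, finrank F (D j) = a) ∧
      ∃ σ : Equiv.Perm (Fin t), ∀ j, (D j).map x = D (σ j) := by
  classical
  -- the monomial structure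
  let π : Equiv.Perm (Fin n₁ × Fin (r' + 1)) := (Equiv.refl _).prodCongr (finRotate (r' + 1))
  let lam : Fin n₁ × Fin (r' + 1) → F := fun i => if i.2 = Fin.last r' then z else 1
  have hlam : ∀ i, lam i ≠ 0 := by
    intro i
    show (if i.2 = Fin.last r' then z else 1) ≠ 0
    split_ifs
    · exact hz0
    · exact one_ne_zero
  have hx : ∀ i, x (b i) = lam i • b (π i) := by
    rintro ⟨k, j⟩
    show x (b (k, j)) = (if j = Fin.last r' then z else 1) • b (k, finRotate (r' + 1) j)
    rw [hb, hb]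
    have hstep : x ((x ^ (j : ℕ)) (e k)) = (x ^ ((j : ℕ) + 1)) (e k) := by
      rw [pow_succ', Module.End.mul_apply]
    rw [hstep]
    by_cases hj : j = Fin.last r'
    · rw [if_pos hj, hj, finRotate_last]
      simp only [Fin.val_last, Fin.val_zero, pow_zero, Module.End.one_apply]
      rw [hxr]
      simp
    · rw [if_neg hj, one_smul]
      have : ((finRotate (r' + 1) j : Fin (r' + 1)) : ℕ) = (j : ℕ) + 1 :=
        coe_finRotate_of_ne_last hj
      rw [this]
  by_cases hra : (r' + 1) ∣ a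
  · -- case 1 : a = (r'+1) * a'
    obtain ⟨a', ha'⟩ := hra
    have ha'0 : 0 < a' := by
      rcases Nat.eq_zero_or_pos a' with h | h
      · rw [h, mul_zero] at ha'; omega
      · exact h
    have hn₁ : n₁ = t * a' := by
      have h1 : n₁ * (r' + 1) = (t * a') * (r' + 1) := by rw [hat, ha']; ring
      exact Nat.eq_of_mul_eq_mul_right (Nat.succ_pos r') h1
    let e₁ : Fin n₁ ≃ Fin t × Fin a' := (finCongr hn₁).trans finProdFinEquiv.symm
    let E : Fin n₁ × Fin (r' + 1) ≃ Fin t × (Fin a' × Fin (r' + 1)) :=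
      (e₁.prodCongr (Equiv.refl _)).trans (Equiv.prodAssoc _ _ _)
    have hβ : ∀ j : Fin t, (Finset.univ.filter
        (fun i : Fin n₁ × Fin (r' + 1) => (E i).1 = j)).card = a := by
      intro j
      rw [h23_fiber_card E j, Fintype.card_prod, Fintype.card_fin, Fintype.card_fin, ha']
      ring
    obtain ⟨D, hD, hDa, hDx⟩ := Cfsg.Agent.Helper12.GLI.mono_decomp b x π lam hlam hx a
      (fun i => (E i).1) hβ 1 (by
        rintro ⟨k, j⟩
        rfl)
    exact ⟨D, hD, hDa, 1, hDx⟩
  · -- case 2 : a ∣ n₁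
    have hcop : Nat.Coprime a (r' + 1) :=
      (Nat.Coprime.symm ((Nat.Prime.coprime_iff_not_dvd hr).2 hra))
    have hdvd : a ∣ n₁ := hcop.dvd_of_dvd_mul_right (Dvd.intro t hat.symm)
    obtain ⟨s, hs⟩ := hdvd
    have ht : s * (r' + 1) = t := by
      have h1 : a * (s * (r' + 1)) = a * t := by rw [← hat, hs]; ring
      exact Nat.eq_of_mul_eq_mul_left ha h1
    have hn₁ : n₁ = s * a := by rw [hs]; ring
    let e₁ : Fin n₁ ≃ Fin s × Fin a := (finCongr hn₁).trans finProdFinEquiv.symm
    let e₂ : Fin s × Fin (r' + 1) ≃ Fin t := finProdFinEquiv.trans (finCongr ht)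
    let E : Fin n₁ × Fin (r' + 1) ≃ Fin t × Fin a :=
      { toFun := fun i => (e₂ ((e₁ i.1).1, i.2), (e₁ i.1).2)
        invFun := fun p => (e₁.symm ((e₂.symm p.1).1, p.2), (e₂.symm p.1).2)
        left_inv := by
          rintro ⟨k, j⟩
          simp
        right_inv := by
          rintro ⟨g, i⟩
          simp }
    have hβ : ∀ j : Fin t, (Finset.univ.filter
        (fun i : Fin n₁ × Fin (r' + 1) => (E i).1 = j)).card = a := by
      intro j
      rw [h23_fiber_card E j, Fintype.card_fin]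
    let τ : Equiv.Perm (Fin t) :=
      e₂.symm.trans (((Equiv.refl _).prodCongr (finRotate (r' + 1))).trans e₂)
    obtain ⟨D, hD, hDa, hDx⟩ := Cfsg.Agent.Helper12.GLI.mono_decomp b x π lam hlam hx a
      (fun i => (E i).1) hβ τ (by
        rintro ⟨k, j⟩
        show e₂ ((e₁ k).1, finRotate (r' + 1) j)
          = e₂ (((Equiv.refl _).prodCongr (finRotate (r' + 1))) (e₂.symm (e₂ ((e₁ k).1, j))))
        rw [Equiv.symm_apply_apply]
        rfl)
    exact ⟨D, hD, hDa, τ, hDx⟩

end Cfsg.Agent.Helper23.GLI
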