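import Mathlib
import Cfsg.Agent.Lib.Helper14.GLIDefs
import Cfsg.Agent.Lib.Helper33.GLICYCB
import Cfsg.Agent.Lib.Helper23.GLINONPOWCore

/-!
# GLI (NONPOW): `x ^ r = z • 1` with `z` not an `r`-th power ⟹ a decomposition into `t` subspaces
of dimension `a` permuted by `x` (helper14 server, S5958)
-/

set_option autoImplicit false

namespace Cfsg.Agent.Helper23.GLI

open Module Polynomial Cfsg.Agent.Helper14.GLI

theorem nonpow_decomp {F V : Type*} [Field F] [AddCommGroup V] [Module F V]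
    [FiniteDimensional F V] (x : V →ₗ[F] V) (r : ℕ) [Fact r.Prime] (z : F)
    (hz : ∀ w : F, w ^ r ≠ z) (hxr : x ^ r = z • 1)
    (a t : ℕ) (ha : 0 < a) (hat : finrank F V = a * t) :
    ∃ D : Fin t → Submodule F V, IsIndepFam ⊤ D ∧ (∀ j, finrank F (D j) = a) ∧
      ∃ σ : Equiv.Perm (Fin t), ∀ j, (D j).map x = D (σ j) := by
  classical
  have hrp : r.Prime := Fact.out
  obtain ⟨n₁, e, b, hb⟩ := Cfsg.Agent.Helper33.GLI.exists_cyclic_basis x r z hz hxr
  have hz0 : z ≠ 0 := by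
    intro h
    apply hz 0
    rw [h, zero_pow hrp.ne_zero]
  have hdim : n₁ * r = a * t := by
    rw [← hat, Module.finrank_eq_card_basis b, Fintype.card_prod, Fintype.card_fin,
      Fintype.card_fin]
  obtain ⟨r', hr'⟩ : ∃ r', r = r' + 1 := Nat.exists_eq_succ_of_ne_zero hrp.ne_zero
  subst hr'
  exact h23_nonpow_core x r' hrp z hz0 hxr n₁ e b hb a t ha hdim

end Cfsg.Agent.Helper23.GLI
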