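import Mathlib
import Cfsg.Agent.Lib.Helper93.MD0

/-!
# MD server of helper93 (S2140): piece (T2) `exists_unique_orbit_below`

Exactly one orbit of the group `E_u` of transvections with centre `u` has its stabiliser inside the
index-`p` subgroup `Mt τ u v`.  Self-contained (re-proves the counting facts it needs, prefix `t2_`).
-/

set_option autoImplicit false
set_option linter.unusedVariables false
set_option linter.unusedSectionVars false

namespace Cfsg.Agent.Helper23.MD

open Module Cfsg.Agent.Helper93.McL Cfsg.Agent.Helper93.MD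

variable {F V : Type*} [Field F] [Fintype F] [AddCommGroup V] [Module F V] [FiniteDimensional F V]

/-- kernel–range counting for additive homomorphisms. -/
theorem t2_card_ker_mul_card_range {H K : Type*} [AddGroup H] [AddGroup K] (g : H →+ K) :
    Nat.card ↥g.ker * Nat.card ↥g.range = Nat.card H := by
  rw [← AddSubgroup.index_ker, AddSubgroup.card_mul_index]

theorem t2_card_PhiA {u : V} (hu : u ≠ 0) (hn : 1 ≤ finrank F V) :
    Nat.card ↥(PhiA u : AddSubgroup (Dual F V)) = Fintype.card F ^ (finrank F V - 1) := by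
  classical
  let g : Dual F V →+ F :=
    { toFun := fun φ => φ u
      map_zero' := by simp
      map_add' := by intros; simp }
  have hker : g.ker = PhiA u := by
    ext φ
    rw [AddMonoidHom.mem_ker]
    rfl
  have hsurj : Function.Surjective g := by
    intro c
    obtain ⟨ψ, hψ⟩ := Module.Projective.exists_dual_eq_one F hu
    refine ⟨c • ψ, ?_⟩
    show (c • ψ) u = c
    simp [hψ]
  have hrange : Nat.card ↥g.range = Fintype.card F := by
    rw [AddMonoidHom.range_eq_top.2 hsurj, AddSubgroup.card_top, Nat.card_eq_fintype_card]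
  have h1 := t2_card_ker_mul_card_range g
  rw [hker, hrange] at h1
  have h2 : Nat.card (Dual F V) = Fintype.card F ^ finrank F V := by
    rw [Module.natCard_eq_pow_finrank (K := F), Subspace.dual_finrank_eq, Nat.card_eq_fintype_card]
  rw [h2] at h1
  have hq : 0 < Fintype.card F := Fintype.card_pos
  obtain ⟨k, hk⟩ : ∃ k, finrank F V = k + 1 := ⟨finrank F V - 1, by omega⟩
  rw [hk, pow_succ] at h1
  rw [hk, Nat.add_sub_cancel]
  exact Nat.eq_of_mul_eq_mul_right hq h1

section act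

variable {Ω : Type*} [Fintype Ω] [MulAction ↥(SLV F V) Ω]

theorem t2_stv_zero (u : V) : (stv u (0 : Dual F V) : ↥(SLV F V)) = 1 :=
  Subtype.ext (tv_zero_right u)

theorem t2_stv_add {u : V} {φ ψ : Dual F V} (h : φ u = 0) (h' : ψ u = 0) :
    (stv u (φ + ψ) : ↥(SLV F V)) = stv u φ * stv u ψ :=
  Subtype.ext (tv_mul_axis h h').symm

/-- (T1) double counting. -/
theorem t2_sum_card_inf {u : V}
    (f : ℕ) (hf : ∀ φ : Dual F V, φ u = 0 → φ ≠ 0 → fp Ω (stv u φ) = f)
    (N : AddSubgroup (Dual F V)) (hN : N ≤ PhiA u) :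
    ∑ ω : Ω, Nat.card ↥(N ⊓ Bst u ω) = Fintype.card Ω + (Nat.card ↥N - 1) * f := by
  classical
  have : Finite (Dual F V) := Module.finite_of_finite F
  let _ : Fintype (Dual F V) := Fintype.ofFinite _
  have hfp : ∀ g : ↥(SLV F V), fp Ω g = (Finset.univ.filter fun ω : Ω => g • ω = ω).card := by
    intro g
    unfold fp
    rw [Nat.card_eq_fintype_card, Fintype.card_subtype]
    rfl
  have h1 : ∀ ω : Ω, Nat.card ↥(N ⊓ Bst u ω) =
      ∑ φ : Dual F V, if (φ ∈ N ∧ stv u φ • ω = ω) then 1 else 0 := by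
    intro ω
    rw [← Finset.card_filter, Nat.card_eq_fintype_card, Fintype.card_subtype]
    congr 1
    ext φ
    simp only [Finset.mem_filter, Finset.mem_univ, true_and]
    constructor
    · rintro ⟨h1, h2⟩; exact ⟨h1, h2.2⟩
    · rintro ⟨h1, h2⟩; exact ⟨h1, hN h1, h2⟩
  simp_rw [h1]
  rw [Finset.sum_comm]
  have h2 : ∀ φ : Dual F V, (∑ ω : Ω, if (φ ∈ N ∧ stv u φ • ω = ω) then 1 else 0) =
      if φ ∈ N then fp Ω (stv u φ) else 0 := by
    intro φ
    by_cases h : φ ∈ N
    · simp only [h, true_and, if_true]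
      rw [hfp, Finset.card_filter]
    · simp [h]
  simp_rw [h2]
  rw [← Finset.sum_filter]
  have h0 : (0 : Dual F V) ∈ Finset.univ.filter (fun φ : Dual F V => φ ∈ N) := by
    simp [N.zero_mem]
  rw [← Finset.add_sum_erase _ _ h0]
  have h3 : fp Ω (stv u (0 : Dual F V)) = Fintype.card Ω := by
    rw [hfp, t2_stv_zero]
    simp
  have h4 : ∑ φ ∈ (Finset.univ.filter (fun φ : Dual F V => φ ∈ N)).erase 0, fp Ω (stv u φ) =
      (Nat.card ↥N - 1) * f := by
    rw [Finset.sum_const_nat (m := f), Finset.card_erase_of_mem h0]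
    · congr 2
      rw [Nat.card_eq_fintype_card, Fintype.card_subtype]
    · intro φ hφ
      rw [Finset.mem_erase, Finset.mem_filter] at hφ
      exact hf φ (hN hφ.2.2) hφ.1
  rw [h3, h4]

/-- index `p` of `Mt ⊓ B` in `B` when `B ≰ Mt`. -/
theorem t2_card_inf_Mt {p : ℕ} [Fact p.Prime] (τ : F →+ ZMod p) (u v : V)
    (B : AddSubgroup (Dual F V)) (hB : B ≤ PhiA u) (hnot : ¬ B ≤ Mt τ u v) :
    p * Nat.card ↥(Mt τ u v ⊓ B) = Nat.card ↥B := by
  classical
  let g : ↥B →+ ZMod p :=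
    { toFun := fun φ => τ (φ.1 v)
      map_zero' := by simp
      map_add' := by intro a b; simp }
  have hker : Nat.card ↥g.ker = Nat.card ↥(Mt τ u v ⊓ B) := by
    apply Nat.card_congr
    exact
      { toFun := fun x => ⟨x.1.1, ⟨⟨hB x.1.2, (AddMonoidHom.mem_ker.1 x.2)⟩, x.1.2⟩⟩
        invFun := fun y => ⟨⟨y.1, y.2.2⟩, AddMonoidHom.mem_ker.2 y.2.1.2⟩
        left_inv := fun x => rfl
        right_inv := fun y => rfl }
  have hrange : Nat.card ↥g.range = p := by
    have hdvd : Nat.card ↥g.range ∣ p := by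
      have := AddSubgroup.card_addSubgroup_dvd_card g.range
      rwa [Nat.card_zmod] at this
    rcases (Nat.dvd_prime Fact.out).1 hdvd with h | h
    · exfalso
      apply hnot
      intro φ hφ
      refine ⟨hB hφ, ?_⟩
      have hmem : g ⟨φ, hφ⟩ ∈ g.range := ⟨_, rfl⟩
      rw [AddSubgroup.eq_bot_of_card_eq _ h, AddSubgroup.mem_bot] at hmem
      exact hmem
    · exact h
  have h1 := t2_card_ker_mul_card_range g
  rw [hker, hrange] at h1
  rw [mul_comm]
  exact h1

/-- the additive action of `PhiA u` on `Ω` by transvections. -/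
@[reducible] noncomputable def t2Act (u : V) : AddAction ↥(PhiA u : AddSubgroup (Dual F V)) Ω where
  vadd φ ω := stv u φ.1 • ω
  zero_vadd ω := by
    show stv u (0 : Dual F V) • ω = ω
    rw [t2_stv_zero, one_smul]
  add_vadd φ ψ ω := by
    show stv u (φ.1 + ψ.1) • ω = stv u φ.1 • stv u ψ.1 • ω
    rw [t2_stv_add φ.2 ψ.2, mul_smul]

/-- points of one `E_u`-orbit have the same stabiliser. -/
theorem t2_Bst_smul {u : V} {φ : Dual F V} (hφ : φ u = 0) (ω : Ω) :
    (Bst u (stv u φ • ω) : AddSubgroup (Dual F V)) = Bst u ω := by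
  ext ψ
  rw [mem_Bst, mem_Bst]
  constructor
  · rintro ⟨h1, h2⟩
    refine ⟨h1, ?_⟩
    have hc : stv u ψ * stv u φ = stv u φ * stv u ψ := by
      rw [← t2_stv_add h1 hφ, ← t2_stv_add hφ h1, add_comm]
    rw [← mul_smul, hc, mul_smul] at h2
    exact (MulAction.injective (stv u φ)) h2
  · rintro ⟨h1, h2⟩
    refine ⟨h1, ?_⟩
    have hc : stv u ψ * stv u φ = stv u φ * stv u ψ := by
      rw [← t2_stv_add h1 hφ, ← t2_stv_add hφ h1, add_comm]
    rw [← mul_smul, hc, mul_smul, h2]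

/-- orbit–stabiliser for `E_u`. -/
theorem t2_orbit_stab (u : V) (ω₀ : Ω) [DecidableEq Ω]
    [Fintype ↥(PhiA u : AddSubgroup (Dual F V))] :
    (Finset.univ.image (fun φ : ↥(PhiA u : AddSubgroup (Dual F V)) => stv u φ.1 • ω₀)).card *
      Nat.card ↥(Bst u ω₀ : AddSubgroup (Dual F V)) = Nat.card ↥(PhiA u : AddSubgroup (Dual F V)) := by
  let _ : AddAction ↥(PhiA u : AddSubgroup (Dual F V)) Ω := t2Act u
  have h1 := AddSubgroup.card_mul_index
    (AddAction.stabilizer ↥(PhiA u : AddSubgroup (Dual F V)) ω₀)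
  rw [AddAction.index_stabilizer] at h1
  have h2 : (AddAction.orbit ↥(PhiA u : AddSubgroup (Dual F V)) ω₀).ncard =
      (Finset.univ.image (fun φ : ↥(PhiA u : AddSubgroup (Dual F V)) => stv u φ.1 • ω₀)).card := by
    rw [← Set.ncard_coe_finset]
    congr 1
    rw [Finset.coe_image, Finset.coe_univ, Set.image_univ]
    rfl
  have h3 : Nat.card ↥(AddAction.stabilizer ↥(PhiA u : AddSubgroup (Dual F V)) ω₀) =
      Nat.card ↥(Bst u ω₀ : AddSubgroup (Dual F V)) := by
    apply Nat.card_congr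
    exact
      { toFun := fun x => ⟨x.1.1, ⟨x.1.2, AddAction.mem_stabilizer_iff.1 x.2⟩⟩
        invFun := fun y => ⟨⟨y.1, y.2.1⟩, AddAction.mem_stabilizer_iff.2 y.2.2⟩
        left_inv := fun x => rfl
        right_inv := fun y => rfl }
  rw [h2, h3] at h1
  rw [mul_comm]
  exact h1

variable {p : ℕ} [Fact p.Prime] [CharP F p]

theorem exists_unique_orbit_below (hn : 3 ≤ finrank F V) {u : V} (hu : u ≠ 0) (f : ℕ)
    (hf : ∀ φ : Dual F V, φ u = 0 → φ ≠ 0 → fp Ω (stv u φ) = f)
    (hm : Fintype.card Ω = f + Fintype.card F ^ (finrank F V - 1))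
    (τ : F →+ ZMod p) (hτ : τ ≠ 0) {v : V} (hv : v ∉ Submodule.span F {u}) :
    ∃ ω₀ : Ω, Bst u ω₀ ≤ Mt τ u v ∧
      ∀ ω : Ω, Bst u ω ≤ Mt τ u v → ∃ φ : Dual F V, φ u = 0 ∧ stv u φ • ω₀ = ω := by
  classical
  have : Finite (Dual F V) := Module.finite_of_finite F
  let _ : Fintype (Dual F V) := Fintype.ofFinite _
  have hp : p.Prime := Fact.out
  set Q : ℕ := Fintype.card F ^ (finrank F V - 1) with hQ
  have hcardA : Nat.card ↥(PhiA u : AddSubgroup (Dual F V)) = Q := t2_card_PhiA hu (by omega)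
  have hBA : ∀ ω : Ω, (Bst u ω : AddSubgroup (Dual F V)) ≤ PhiA u := fun ω φ hφ => hφ.1
  have hMA : Mt τ u v ≤ PhiA u := fun φ hφ => hφ.1
  -- `PhiA u ≰ Mt`
  have hAM : ¬ (PhiA u : AddSubgroup (Dual F V)) ≤ Mt τ u v := by
    intro h
    obtain ⟨ψ, hψv, hψu⟩ := Submodule.exists_dual_map_eq_bot_of_notMem hv inferInstance
    have hψu' : ψ u = 0 := by
      have : ψ u ∈ (Submodule.span F {u}).map ψ :=
        Submodule.mem_map_of_mem (Submodule.subset_span rfl)
      rw [hψu, Submodule.mem_bot] at this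
      exact this
    apply hτ
    ext c
    have h1 : ((c / ψ v) • ψ) ∈ (PhiA u : AddSubgroup (Dual F V)) := by
      show ((c / ψ v) • ψ) u = 0
      simp [hψu']
    have h2 := (h h1).2
    have h3 : ((c / ψ v) • ψ) v = c := by
      simp [div_mul_cancel₀ _ hψv]
    rw [h3] at h2
    simpa using h2
  have hpM : p * Nat.card ↥(Mt τ u v) = Q := by
    have := t2_card_inf_Mt τ u v (PhiA u) le_rfl hAM
    rwa [inf_eq_left.2 hMA, hcardA] at this
  -- the two instances of (T1)
  have e1 := t2_sum_card_inf (Ω := Ω) f hf (PhiA u) le_rfl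
  have e2 := t2_sum_card_inf (Ω := Ω) f hf (Mt τ u v) hMA
  rw [hcardA] at e1
  simp_rw [inf_eq_right.2 (hBA _)] at e1
  -- split the sums
  set Good : Finset Ω := Finset.univ.filter (fun ω : Ω => Bst u ω ≤ Mt τ u v) with hGood
  set X : ℕ := ∑ ω ∈ Good, Nat.card ↥(Bst u ω : AddSubgroup (Dual F V)) with hX
  have hpos : ∀ ω : Ω, 0 < Nat.card ↥(Bst u ω : AddSubgroup (Dual F V)) := fun ω => Nat.card_pos
  have hMpos : 0 < Nat.card ↥(Mt τ u v) := Nat.card_pos
  have hQpos : 0 < Q := by rw [← hcardA]; exact Nat.card_pos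
  have hXQ : X = Q := by
    set Y : ℕ := ∑ ω ∈ Finset.univ.filter (fun ω : Ω => ¬ Bst u ω ≤ Mt τ u v), Nat.card ↥(Bst u ω : AddSubgroup (Dual F V)) with hY
    set Y' : ℕ := ∑ ω ∈ Finset.univ.filter (fun ω : Ω => ¬ Bst u ω ≤ Mt τ u v),
      Nat.card ↥(Mt τ u v ⊓ Bst u ω) with hY'
    have s1 : ∑ ω : Ω, Nat.card ↥(Bst u ω : AddSubgroup (Dual F V)) = X + Y := by
      rw [hX, hY, hGood, Finset.sum_filter_add_sum_filter_not]
    have s2 : ∑ ω : Ω, Nat.card ↥(Mt τ u v ⊓ Bst u ω) = X + Y' := by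
      rw [← Finset.sum_filter_add_sum_filter_not Finset.univ (fun ω : Ω => Bst u ω ≤ Mt τ u v)]
      congr 1
      apply Finset.sum_congr rfl
      intro ω hω
      rw [Finset.mem_filter] at hω
      rw [inf_eq_right.2 hω.2]
    have s3 : p * Y' = Y := by
      rw [hY', hY, Finset.mul_sum]
      apply Finset.sum_congr rfl
      intro ω hω
      rw [Finset.mem_filter] at hω
      exact t2_card_inf_Mt τ u v (Bst u ω) (hBA ω) hω.2
    rw [s1] at e1
    rw [s2] at e2
    -- arithmetic in ℤ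
    have e1' : (X : ℤ) + Y = Fintype.card Ω + ((Q : ℤ) - 1) * f := by
      have := congrArg (fun n : ℕ => (n : ℤ)) e1
      simp only [Nat.cast_add, Nat.cast_mul] at this
      rw [Nat.cast_sub hQpos] at this
      simpa using this
    have e2' : (X : ℤ) + Y' = Fintype.card Ω + ((Nat.card ↥(Mt τ u v) : ℤ) - 1) * f := by
      have := congrArg (fun n : ℕ => (n : ℤ)) e2
      simp only [Nat.cast_add, Nat.cast_mul] at this
      rw [Nat.cast_sub hMpos] at this
      simpa using this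
    have e3' : (p : ℤ) * Y' = Y := by exact_mod_cast s3
    have e4' : (p : ℤ) * (Nat.card ↥(Mt τ u v) : ℤ) = Q := by exact_mod_cast hpM
    have e5' : (Fintype.card Ω : ℤ) = f + Q := by exact_mod_cast hm
    have key : ((p : ℤ) - 1) * ((X : ℤ) - Q) = 0 := by
      linear_combination (p : ℤ) * e2' - e1' - e3' + (f : ℤ) * e4' + ((p : ℤ) - 1) * e5'
    have hp1 : ((p : ℤ) - 1) ≠ 0 := by
      have : (2 : ℤ) ≤ p := by exact_mod_cast hp.two_le
      omega
    have := (mul_eq_zero.1 key).resolve_left hp1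
    have h' : (X : ℤ) = Q := by linarith
    exact_mod_cast h'
  -- a good point
  have hne : Good.Nonempty := by
    by_contra h
    rw [Finset.not_nonempty_iff_eq_empty] at h
    rw [hX, h, Finset.sum_empty] at hXQ
    omega
  obtain ⟨ω₀, hω₀⟩ := hne
  have hω₀' : Bst u ω₀ ≤ Mt τ u v := (Finset.mem_filter.1 hω₀).2
  refine ⟨ω₀, hω₀', ?_⟩
  -- its orbit
  let _ : Fintype ↥(PhiA u : AddSubgroup (Dual F V)) := Fintype.ofFinite _
  set O : Finset Ω :=
    Finset.univ.image (fun φ : ↥(PhiA u : AddSubgroup (Dual F V)) => stv u φ.1 • ω₀) with hO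
  have hOB : ∀ ω ∈ O, (Bst u ω : AddSubgroup (Dual F V)) = Bst u ω₀ := by
    intro ω hω
    rw [hO, Finset.mem_image] at hω
    obtain ⟨φ, -, rfl⟩ := hω
    exact t2_Bst_smul φ.2 ω₀
  have hOG : O ⊆ Good := by
    intro ω hω
    rw [hGood, Finset.mem_filter]
    refine ⟨Finset.mem_univ _, ?_⟩
    rw [hOB ω hω]
    exact hω₀'
  have hOsum : ∑ ω ∈ O, Nat.card ↥(Bst u ω : AddSubgroup (Dual F V)) = Q := by
    rw [Finset.sum_congr rfl (fun ω hω => by rw [hOB ω hω]), Finset.sum_const, smul_eq_mul,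
      t2_orbit_stab u ω₀, hcardA]
  have hdiff : ∑ ω ∈ Good \ O, Nat.card ↥(Bst u ω : AddSubgroup (Dual F V)) = 0 := by
    have := Finset.sum_sdiff (f := fun ω => Nat.card ↥(Bst u ω : AddSubgroup (Dual F V))) hOG
    rw [hOsum] at this
    rw [hX] at hXQ
    omega
  intro ω hω
  have hωG : ω ∈ Good := by
    rw [hGood, Finset.mem_filter]
    exact ⟨Finset.mem_univ _, hω⟩
  have hωO : ω ∈ O := by
    by_contra h
    have h1 : ω ∈ Good \ O := Finset.mem_sdiff.2 ⟨hωG, h⟩
    have h2 := (Finset.sum_eq_zero_iff.1 hdiff) ω h1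
    have h3 := hpos ω
    omega
  rw [hO, Finset.mem_image] at hωO
  obtain ⟨φ, -, hφ⟩ := hωO
  exact ⟨φ.1, φ.2, hφ⟩

end act

end Cfsg.Agent.Helper23.MD
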