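import Mathlib
import Cfsg.Agent.Lib.Helper22.Radical

/-!
# Group-theoretic end of the Brauer–Suzuki theorem for `Q₈` Sylow 2-subgroups

If every group `G` with Sylow 2-subgroup `≅ Q₈`, `O(G) = 1`, no normal 2-complement and
non-central involution `z` has a proper normal subgroup containing `z`, then for every `G`
with Sylow 2-subgroup `≅ Q₈` and `O(G) = 1` the centre has order 2.
-/

set_option autoImplicit false

namespace Cfsg.Agent.Helper23.BSQ8End

open Subgroup

/-! ### Facts about `QuaternionGroup 2` -/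

theorem q8_invol : ∀ q : QuaternionGroup 2, q * q = 1 → q ≠ 1 → q = QuaternionGroup.a 2 := by
  decide

theorem q8_central : ∀ q : QuaternionGroup 2, (∀ y : QuaternionGroup 2, y * q = q * y) →
    q * q = 1 := by
  decide

theorem orderOf_conj'' {H : Type*} [Group H] (g x : H) : orderOf (g * x * g⁻¹) = orderOf x := by
  have := MulEquiv.orderOf_eq (MulAut.conj g) x
  simpa [MulAut.conj_apply] using this

theorem isPGroup_zpowers_of_orderOf_two {H : Type*} [Group H] (w : H) (hw : orderOf w = 2) :
    IsPGroup 2 (Subgroup.zpowers w) :=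
  IsPGroup.of_card (n := 1) (by rw [Nat.card_zpowers, hw, pow_one])

theorem zpowers_normal_of_mem_center {H : Type*} [Group H] (w : H) (hw : w ∈ Subgroup.center H) :
    (Subgroup.zpowers w).Normal := by
  constructor
  intro y hy g
  have hyc : y ∈ Subgroup.center H := by
    obtain ⟨k, rfl⟩ := Subgroup.mem_zpowers_iff.mp hy
    exact Subgroup.zpow_mem _ hw k
  have : g * y * g⁻¹ = y := by
    rw [Subgroup.mem_center_iff] at hyc
    rw [hyc g]; group
  rw [this]; exact hy

/-! ### A normal subgroup with cyclic Sylow 2-subgroups (copied from helper4's BS/Center) -/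

theorem isPGroup_of_cyclic_sylow' {G : Type*} [Group G] [Finite G] (M : Subgroup G)
    [hMn : M.Normal]
    (T : Sylow 2 M) (hT : IsCyclic T) (heven : 2 ∣ Nat.card M)
    (hO : ∀ N : Subgroup G, N.Normal → Odd (Nat.card N) → N = ⊥) : IsPGroup 2 M := by
  have hmin : (Nat.card M).minFac = 2 := (Nat.minFac_eq_two_iff _).mpr heven
  set K₀ := (MonoidHom.transferSylow T (hT.normalizer_le_centralizer hmin)).ker with hK₀
  have hK₀odd : ¬ 2 ∣ Nat.card K₀ := MonoidHom.not_dvd_card_ker_transferSylow T _
  have hchar : ∀ c : M, Odd (orderOf c) → c ∈ K₀ := by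
    intro c hc
    rw [hK₀, MonoidHom.mem_ker]
    set f := MonoidHom.transferSylow T (hT.normalizer_le_centralizer hmin) with hf
    have h1 : orderOf (f c) ∣ orderOf c := orderOf_map_dvd f c
    obtain ⟨j, hj⟩ := T.isPGroup' (f c)
    have h2 : orderOf (f c) ∣ 2 ^ j := orderOf_dvd_of_pow_eq_one hj
    have hcop : Nat.Coprime (2 ^ j) (orderOf c) :=
      Nat.Coprime.pow_left j (Nat.coprime_two_left.mpr hc)
    have := Nat.eq_one_of_dvd_coprimes hcop h2 h1
    exact orderOf_eq_one_iff.mp this
  have hchar' : ∀ c : M, c ∈ K₀ → Odd (orderOf c) := by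
    intro c hc
    have h1 : orderOf c ∣ Nat.card K₀ := Subgroup.orderOf_dvd_natCard K₀ hc
    rw [← Nat.not_even_iff_odd, even_iff_two_dvd]
    intro h2
    exact hK₀odd (h2.trans h1)
  set O : Subgroup G := K₀.map M.subtype with hOdef
  have hOn : O.Normal := by
    constructor
    rintro _ ⟨c, hc, rfl⟩ g
    have hmem : g * (c : G) * g⁻¹ ∈ M := hMn.conj_mem _ c.2 g
    refine ⟨⟨g * (c : G) * g⁻¹, hmem⟩, ?_, rfl⟩
    apply hchar
    rw [← Subgroup.orderOf_coe]
    simp only
    rw [orderOf_conj'', Subgroup.orderOf_coe]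
    exact hchar' c hc
  have hOcard : Nat.card O = Nat.card K₀ :=
    (Nat.card_congr (K₀.equivMapOfInjective _ (Subgroup.subtype_injective _)).toEquiv).symm
  have hOodd : Odd (Nat.card O) := by
    rw [hOcard, ← Nat.not_even_iff_odd, even_iff_two_dvd]
    exact hK₀odd
  have hObot := hO O hOn hOodd
  have hodd1 : ∀ c : M, Odd (orderOf c) → c = 1 := by
    intro c hc
    have h1 : (c : G) ∈ O := ⟨c, hchar c hc, rfl⟩
    rw [hObot, Subgroup.mem_bot] at h1
    exact Subtype.ext h1
  intro x
  obtain ⟨k, m, hm, hkm⟩ := Nat.exists_eq_two_pow_mul_odd (orderOf_pos x).ne'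
  refine ⟨k, ?_⟩
  apply hodd1
  have h1 : (x ^ 2 ^ k) ^ m = 1 := by
    rw [← pow_mul, ← hkm, pow_orderOf_eq_one]
  have h2 : orderOf (x ^ 2 ^ k) ∣ m := orderOf_dvd_of_pow_eq_one h1
  exact Odd.of_dvd_nat hm h2

/-! ### `O(G) = 1` passes to normal subgroups -/

theorem pPrimeCore_two_eq_bot {G : Type*} [Group G] [Finite G]
    (hO : ∀ N : Subgroup G, N.Normal → Odd (Nat.card N) → N = ⊥) : Cfsg.pPrimeCore 2 G = ⊥ := by
  apply hO
  · exact Subgroup.sSup_normal _ (fun H hH => hH.1)
  · have := Cfsg.Agent.Helper22.card_pPrimeCore_coprime (G := G) 2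
    exact Nat.coprime_two_right.mp this

theorem hO_of_normal {G : Type*} [Group G] [Finite G]
    (hO : ∀ N : Subgroup G, N.Normal → Odd (Nat.card N) → N = ⊥) (K : Subgroup G) [hK : K.Normal]
    (N : Subgroup K) (hN : N.Normal) (hodd : Odd (Nat.card N)) : N = ⊥ := by
  have hcard : Nat.card (N.map K.subtype) = Nat.card N :=
    (Nat.card_congr (N.equivMapOfInjective _ (Subgroup.subtype_injective _)).toEquiv).symm
  have hle : N.map K.subtype ≤ Cfsg.pPrimeCore 2 G := by
    apply Cfsg.Agent.Helper22.le_pPrimeCore_of_subnormal (K := K) hK.isSubnormal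
    · rintro _ ⟨c, -, rfl⟩
      exact c.2
    · intro k hk
      rw [Subgroup.mem_normalizer_iff]
      intro h
      constructor
      · rintro ⟨c, hc, rfl⟩
        refine ⟨⟨k, hk⟩ * c * ⟨k, hk⟩⁻¹, hN.conj_mem c hc _, rfl⟩
      · rintro ⟨c, hc, hc'⟩
        refine ⟨⟨k, hk⟩⁻¹ * c * ⟨k, hk⟩⁻¹⁻¹, hN.conj_mem c hc _, ?_⟩
        have : (K.subtype c : G) = k * h * k⁻¹ := hc'
        simp only [Subgroup.coe_subtype, Subgroup.coe_mul, Subgroup.coe_inv, inv_inv] at this ⊢
        rw [this]; group
    · rw [hcard]; exact Nat.coprime_two_right.mpr hodd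
  rw [pPrimeCore_two_eq_bot hO, le_bot_iff] at hle
  rw [eq_bot_iff]
  intro c hc
  have : (c : G) ∈ N.map K.subtype := ⟨c, hc, rfl⟩
  rw [hle, Subgroup.mem_bot] at this
  rw [Subgroup.mem_bot]
  exact Subtype.ext this

/-! ### Sylow `Q₈` -/

section

variable {G : Type*} [Group G] [Finite G] (S : Sylow 2 G)
  (e : (S : Subgroup G) ≃* QuaternionGroup 2)

include e in
theorem invol_unique (u w : G) (hu : u ∈ (S : Subgroup G)) (hw : w ∈ (S : Subgroup G))
    (hu2 : orderOf u = 2) (hw2 : orderOf w = 2) : u = w := by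
  have key : ∀ x : G, ∀ hx : x ∈ (S : Subgroup G), orderOf x = 2 →
      e ⟨x, hx⟩ = QuaternionGroup.a 2 := by
    intro x hx hx2
    apply q8_invol
    · rw [← map_mul]
      have : (⟨x, hx⟩ : (S : Subgroup G)) * ⟨x, hx⟩ = 1 := by
        apply Subtype.ext
        show x * x = 1
        rw [← pow_two, ← hx2]; exact pow_orderOf_eq_one x
      rw [this, map_one]
    · intro h
      have h' : (⟨x, hx⟩ : (S : Subgroup G)) = 1 := by
        apply e.injective; rw [h, map_one]
      have : x = 1 := congrArg Subtype.val h'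
      rw [this, orderOf_one] at hx2
      omega
  have := e.injective ((key u hu hu2).trans (key w hw hw2).symm)
  exact congrArg Subtype.val this

include e in
theorem sq_eq_one_of_central (x : G) (hx : x ∈ (S : Subgroup G)) (hc : ∀ g : G, g * x = x * g) :
    x * x = 1 := by
  have h := q8_central (e ⟨x, hx⟩) (by
    intro y
    obtain ⟨s, rfl⟩ := e.surjective y
    rw [← map_mul, ← map_mul]
    congr 1
    apply Subtype.ext
    exact hc s)
  rw [← map_mul] at h
  have h' : (⟨x, hx⟩ : (S : Subgroup G)) * ⟨x, hx⟩ = 1 := by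
    apply e.injective; rw [h, map_one]
  exact congrArg Subtype.val h'

include e in
theorem card_sylow_eq : Nat.card (S : Subgroup G) = 8 := by
  rw [Nat.card_congr e.toEquiv, Nat.card_eq_fintype_card, QuaternionGroup.card]

include e in
/-- once the involution is central, the centre has order two -/
theorem card_center_of_central
    (hO : ∀ N : Subgroup G, N.Normal → Odd (Nat.card N) → N = ⊥)
    (z : G) (hzS : z ∈ (S : Subgroup G)) (hz : orderOf z = 2) (hzc : ∀ g : G, g * z = z * g) :
    Nat.card (Subgroup.center G) = 2 := by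
  have hodd1 : ∀ x ∈ Subgroup.center G, Odd (orderOf x) → x = 1 := by
    intro x hx hodd
    have hNn : (Subgroup.zpowers x).Normal := by
      constructor
      intro y hy g
      have hyc : y ∈ Subgroup.center G := by
        obtain ⟨k, rfl⟩ := Subgroup.mem_zpowers_iff.mp hy
        exact Subgroup.zpow_mem _ hx k
      have : g * y * g⁻¹ = y := by
        rw [Subgroup.mem_center_iff] at hyc
        rw [hyc g]; group
      rw [this]; exact hy
    have hcard : Odd (Nat.card (Subgroup.zpowers x)) := by rw [Nat.card_zpowers]; exact hodd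
    have := hO _ hNn hcard
    have hx' : x ∈ Subgroup.zpowers x := Subgroup.mem_zpowers x
    rw [this, Subgroup.mem_bot] at hx'
    exact hx'
  have hZ2 : IsPGroup 2 (Subgroup.center G) := by
    intro x
    obtain ⟨k, m, hm, hkm⟩ := Nat.exists_eq_two_pow_mul_odd (orderOf_pos x).ne'
    refine ⟨k, ?_⟩
    have h1 : (x ^ 2 ^ k) ^ m = 1 := by
      rw [← pow_mul, ← hkm, pow_orderOf_eq_one]
    have h2 : orderOf (x ^ 2 ^ k) ∣ m := orderOf_dvd_of_pow_eq_one h1
    have h3 : Odd (orderOf ((x ^ 2 ^ k : Subgroup.center G) : G)) := by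
      rw [Subgroup.orderOf_coe]
      exact Odd.of_dvd_nat hm h2
    have := hodd1 _ (x ^ 2 ^ k).2 h3
    exact Subtype.ext this
  have hZS : Subgroup.center G ≤ (S : Subgroup G) := hZ2.le_sylow_of_normal S
  have hZeq : Subgroup.center G = Subgroup.zpowers z := by
    apply le_antisymm
    · intro x hx
      have hxS := hZS hx
      have hxc : ∀ g : G, g * x = x * g := fun g => (Subgroup.mem_center_iff.mp hx g)
      have hsq := sq_eq_one_of_central S e x hxS hxc
      by_cases hx1 : x = 1
      · rw [hx1]; exact Subgroup.one_mem _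
      · have hox : orderOf x = 2 := orderOf_eq_prime (by rw [pow_two]; exact hsq) hx1
        rw [invol_unique S e x z hxS hzS hox hz]
        exact Subgroup.mem_zpowers z
    · rw [Subgroup.zpowers_le, Subgroup.mem_center_iff]
      exact hzc
  rw [hZeq, Nat.card_zpowers, hz]

end

/-! ### The induction -/

theorem invol_central_of_hyp.{u}
    (hyp : ∀ (G : Type u) [Group G] [Finite G] (S : Sylow 2 G)
      (e : (S : Subgroup G) ≃* QuaternionGroup 2)
      (hO : ∀ N : Subgroup G, N.Normal → Odd (Nat.card N) → N = ⊥)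
      (hnc : ∀ N : Subgroup G, N.Normal → ¬ Subgroup.IsComplement' N (S : Subgroup G))
      (z : G) (hzS : z ∈ (S : Subgroup G)) (hz : orderOf z = 2) (hzc : z ∉ Subgroup.center G),
      ∃ K : Subgroup G, K.Normal ∧ K ≠ ⊤ ∧ z ∈ K) :
    ∀ (n : ℕ) (G : Type u) [Group G] [Finite G], Nat.card G = n → ∀ (S : Sylow 2 G)
      (e : (S : Subgroup G) ≃* QuaternionGroup 2)
      (hO : ∀ N : Subgroup G, N.Normal → Odd (Nat.card N) → N = ⊥)
      (z : G) (hzS : z ∈ (S : Subgroup G)) (hz : orderOf z = 2), z ∈ Subgroup.center G := by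
  intro n
  induction n using Nat.strong_induction_on with
  | _ n ih =>
  intro G _ _ hn S e hO z hzS hz
  by_contra hzc
  have hsuff : ¬ ∀ g : G, g * z * g⁻¹ = z := by
    intro h
    apply hzc
    rw [Subgroup.mem_center_iff]
    intro g
    have := h g
    calc g * z = (g * z * g⁻¹) * g := by group
      _ = z * g := by rw [this]
  apply hsuff
  by_cases hnc : ∀ N : Subgroup G, N.Normal → ¬ Subgroup.IsComplement' N (S : Subgroup G)
  · obtain ⟨K, hKn, hKtop, hzK⟩ := hyp G S e hO hnc z hzS hz hzc
    have := hKn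
    have hzK2 : orderOf (⟨z, hzK⟩ : K) = 2 := by
      rw [← Subgroup.orderOf_coe]; exact hz
    obtain ⟨T, hT⟩ := (isPGroup_zpowers_of_orderOf_two _ hzK2).exists_le_sylow
    have hzT : (⟨z, hzK⟩ : K) ∈ T := hT (Subgroup.mem_zpowers _)
    set T₀ : Subgroup G := (T : Subgroup K).map K.subtype with hT₀
    have hT₀p : IsPGroup 2 T₀ := T.isPGroup'.map _
    have hTcard : Nat.card T₀ = Nat.card (T : Subgroup K) :=
      (Nat.card_congr ((T : Subgroup K).equivMapOfInjective _
        (Subgroup.subtype_injective _)).toEquiv).symm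
    obtain ⟨S', hS'⟩ := hT₀p.exists_le_sylow
    obtain ⟨g₀, rfl⟩ := MulAction.exists_smul_eq G S S'
    let e' : ((g₀ • S : Sylow 2 G) : Subgroup G) ≃* QuaternionGroup 2 :=
      (Sylow.equivSMul S g₀).symm.trans e
    have hzS' : z ∈ ((g₀ • S : Sylow 2 G) : Subgroup G) := hS' ⟨⟨z, hzK⟩, hzT, rfl⟩
    suffices h : ∀ g : G, g * z * g⁻¹ ∈ ((g₀ • S : Sylow 2 G) : Subgroup G) by
      intro g
      exact invol_unique (g₀ • S) e' _ _ (h g) hzS' (by rw [orderOf_conj'', hz]) hz
    have heven : 2 ∣ Nat.card K := by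
      have := orderOf_dvd_natCard (⟨z, hzK⟩ : K)
      rwa [hzK2] at this
    by_cases hcard : Nat.card T₀ = 8
    · have hTS : T₀ = ((g₀ • S : Sylow 2 G) : Subgroup G) := by
        apply Subgroup.eq_of_le_of_card_ge hS'
        rw [hcard, card_sylow_eq (g₀ • S) e']
      let eT : (T : Subgroup K) ≃* QuaternionGroup 2 :=
        ((T : Subgroup K).equivMapOfInjective _ (Subgroup.subtype_injective _)).trans
          ((MulEquiv.subgroupCongr hTS).trans e')
      have hKcard : Nat.card K < n := by
        rw [← hn]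
        exact lt_of_le_of_ne (Subgroup.card_le_card_group K)
          (fun h => hKtop ((Subgroup.card_eq_iff_eq_top K).mp h))
      have hzcK : (⟨z, hzK⟩ : K) ∈ Subgroup.center K :=
        ih (Nat.card K) hKcard K rfl T eT
          (fun N hN hodd => hO_of_normal hO K N hN hodd) ⟨z, hzK⟩ hzT hzK2
      intro g
      have hwK : g * z * g⁻¹ ∈ K := hKn.conj_mem z hzK g
      have hwc : (⟨g * z * g⁻¹, hwK⟩ : K) ∈ Subgroup.center K := by
        rw [Subgroup.mem_center_iff]
        intro k
        have hk' : g⁻¹ * (k : G) * g ∈ K := by simpa using hKn.conj_mem k k.2 g⁻¹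
        have := Subgroup.mem_center_iff.mp hzcK ⟨g⁻¹ * k * g, hk'⟩
        have h1 : g⁻¹ * (k : G) * g * z = z * (g⁻¹ * k * g) := congrArg Subtype.val this
        apply Subtype.ext
        show (k : G) * (g * z * g⁻¹) = g * z * g⁻¹ * k
        calc (k : G) * (g * z * g⁻¹) = g * (g⁻¹ * k * g * z) * g⁻¹ := by group
          _ = g * (z * (g⁻¹ * k * g)) * g⁻¹ := by rw [h1]
          _ = g * z * g⁻¹ * k := by group
      have hw2 : orderOf (⟨g * z * g⁻¹, hwK⟩ : K) = 2 := by
        rw [← Subgroup.orderOf_coe]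
        show orderOf (g * z * g⁻¹) = 2
        rw [orderOf_conj'', hz]
      have := zpowers_normal_of_mem_center _ hwc
      have hwT := (isPGroup_zpowers_of_orderOf_two _ hw2).le_sylow_of_normal T
        (Subgroup.mem_zpowers _)
      exact hS' ⟨_, hwT, rfl⟩
    · -- `T` is cyclic
      have hdvd : Nat.card T₀ ∣ 2 ^ 3 := by
        have := Subgroup.card_dvd_of_le hS'
        rwa [card_sylow_eq (g₀ • S) e'] at this
      obtain ⟨k, hk3, hk⟩ := (Nat.dvd_prime_pow Nat.prime_two).mp hdvd
      have h2T : 2 ∣ Nat.card (T : Subgroup K) := by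
        have := Subgroup.orderOf_dvd_natCard (T : Subgroup K) hzT
        rwa [hzK2] at this
      have hTcyc : IsCyclic (T : Subgroup K) := by
        rw [hTcard] at hk hcard
        interval_cases k
        · rw [hk] at h2T; omega
        · have : Fact (Nat.Prime 2) := ⟨Nat.prime_two⟩
          exact isCyclic_of_prime_card (p := 2) (by rw [hk]; norm_num)
        · have hk4 : Nat.card (T : Subgroup K) = 4 := by rw [hk]; norm_num
          have hex : ∃ x ∈ (T : Subgroup K), x ≠ 1 ∧ x ≠ (⟨z, hzK⟩ : K) := by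
            by_contra hcon
            push Not at hcon
            have hle : (T : Subgroup K) ≤ Subgroup.zpowers (⟨z, hzK⟩ : K) := by
              intro x hx
              by_cases hx1 : x = 1
              · rw [hx1]; exact Subgroup.one_mem _
              · rw [hcon x hx hx1]; exact Subgroup.mem_zpowers _
            have := Subgroup.card_le_of_le hle
            rw [Nat.card_zpowers, hzK2, hk4] at this
            omega
          obtain ⟨x, hxT, hx1, hxz⟩ := hex
          have hxo : orderOf (⟨x, hxT⟩ : (T : Subgroup K)) ∣ 2 ^ 2 := by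
            have := orderOf_dvd_natCard (⟨x, hxT⟩ : (T : Subgroup K))
            rwa [hk4] at this
          obtain ⟨j, hj2, hj⟩ := (Nat.dvd_prime_pow Nat.prime_two).mp hxo
          have hxo' : orderOf (⟨x, hxT⟩ : (T : Subgroup K)) = orderOf (x : G) := by
            rw [← Subgroup.orderOf_coe, ← Subgroup.orderOf_coe]
          interval_cases j
          · exfalso
            apply hx1
            have : (⟨x, hxT⟩ : (T : Subgroup K)) = 1 := orderOf_eq_one_iff.mp (by rw [hj]; norm_num)
            exact congrArg Subtype.val this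
          · exfalso
            apply hxz
            have hxS' : (x : G) ∈ ((g₀ • S : Sylow 2 G) : Subgroup G) := hS' ⟨x, hxT, rfl⟩
            have := invol_unique (g₀ • S) e' (x : G) z hxS' hzS' (by rw [← hxo', hj]; norm_num) hz
            exact Subtype.ext this
          · exact isCyclic_of_orderOf_eq_card (⟨x, hxT⟩ : (T : Subgroup K))
              (by rw [hj, hk4]; norm_num)
        · exfalso; apply hcard; rw [hk]; norm_num
      have hK2 : IsPGroup 2 K := isPGroup_of_cyclic_sylow' K T hTcyc heven hO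
      intro g
      exact (hK2.le_sylow_of_normal (g₀ • S)) (hKn.conj_mem z hzK g)
  · push Not at hnc
    obtain ⟨N, hNn, hNc⟩ := hnc
    have : Fact (Nat.Prime 2) := ⟨Nat.prime_two⟩
    have hNodd : Odd (Nat.card N) := by
      rw [← Nat.not_even_iff_odd, even_iff_two_dvd, ← hNc.index_eq_card]
      exact S.not_dvd_index
    have hNbot := hO N hNn hNodd
    subst hNbot
    have hStop : (S : Subgroup G) = ⊤ := Subgroup.isComplement'_bot_left.mp hNc
    intro g
    have h1 : g * z * g⁻¹ ∈ (S : Subgroup G) := by rw [hStop]; trivial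
    exact invol_unique S e _ _ h1 hzS (by rw [orderOf_conj'', hz]) hz

/-- **Lemma B** (group-theoretic end of Brauer–Suzuki for `Q₈`). -/
theorem card_center_eq_two_of_hyp.{u}
    (hyp : ∀ (G : Type u) [Group G] [Finite G] (S : Sylow 2 G)
      (e : (S : Subgroup G) ≃* QuaternionGroup 2)
      (hO : ∀ N : Subgroup G, N.Normal → Odd (Nat.card N) → N = ⊥)
      (hnc : ∀ N : Subgroup G, N.Normal → ¬ Subgroup.IsComplement' N (S : Subgroup G))
      (z : G) (hzS : z ∈ (S : Subgroup G)) (hz : orderOf z = 2) (hzc : z ∉ Subgroup.center G),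
      ∃ K : Subgroup G, K.Normal ∧ K ≠ ⊤ ∧ z ∈ K)
    (G : Type u) [Group G] [Finite G] (S : Sylow 2 G)
    (e : (S : Subgroup G) ≃* QuaternionGroup 2)
    (hO : ∀ N : Subgroup G, N.Normal → Odd (Nat.card N) → N = ⊥) :
    Nat.card (Subgroup.center G) = 2 := by
  -- the involution of `S`
  let z : G := ((e.symm (QuaternionGroup.a 2) : (S : Subgroup G)) : G)
  have hzS : z ∈ (S : Subgroup G) := (e.symm (QuaternionGroup.a 2)).2
  have hz : orderOf z = 2 := by
    show orderOf ((e.symm (QuaternionGroup.a 2) : (S : Subgroup G)) : G) = 2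
    rw [Subgroup.orderOf_coe, MulEquiv.orderOf_eq]
    exact orderOf_eq_prime (by decide) (by decide)
  have hzc := invol_central_of_hyp hyp (Nat.card G) G rfl S e hO z hzS hz
  exact card_center_of_central S e hO z hzS hz
    (fun g => (Subgroup.mem_center_iff.mp hzc g))

end Cfsg.Agent.Helper23.BSQ8End
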