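import Mathlib
import Cfsg.Agent.Lib.Helper1.Hall

/-!
Relative Hall conjugacy inside a solvable subgroup `L` of an arbitrary finite group `G`
(no solvability of `G` needed), in `Subgroup.map (MulAut.conj l)` form, plus small card helpers.
-/

set_option autoImplicit false

namespace Cfsg.Agent.Helper23.HallRel

universe u

open scoped Pointwise

theorem card_eq_card_mul_relIndex {G : Type*} [Group G] {H K : Subgroup G} (h : H ≤ K) :
    Nat.card K = Nat.card H * H.relIndex K := by
  have h1 := Subgroup.card_mul_index (H.subgroupOf K)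
  rw [Nat.card_congr (Subgroup.subgroupOfEquivOfLe h).toEquiv] at h1
  exact h1.symm

theorem card_subgroupOf_of_le {G : Type*} [Group G] {H K : Subgroup G} (h : H ≤ K) :
    Nat.card (H.subgroupOf K) = Nat.card H :=
  Nat.card_congr (Subgroup.subgroupOfEquivOfLe h).toEquiv

theorem card_map_conj {G : Type*} [Group G] (H : Subgroup G) (g : G) :
    Nat.card (H.map (MulAut.conj g).toMonoidHom) = Nat.card H :=
  Subgroup.card_map_of_injective (MulAut.conj g).injective

theorem mem_map_conj {G : Type*} [Group G] (H : Subgroup G) (g x : G) :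
    x ∈ H.map (MulAut.conj g).toMonoidHom ↔ g⁻¹ * x * g ∈ H := by
  constructor
  · rintro ⟨a, ha, rfl⟩
    simpa [MulAut.conj_apply, mul_assoc] using ha
  · intro hx
    refine ⟨g⁻¹ * x * g, hx, ?_⟩
    simp [MulAut.conj_apply, mul_assoc]

/-- Hall conjugacy relative to a solvable subgroup `L` of `G`. -/
theorem hall_rel_conj' {G : Type u} [Group G] [Finite G] (L A B : Subgroup G) [Group.IsSolvable L]
    (hA : A ≤ L) (hB : B ≤ L) (hcard : Nat.card B = Nat.card A)
    (hcop : (Nat.card A).Coprime (A.relIndex L)) :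
    ∃ l ∈ L, B = A.map (MulAut.conj l).toMonoidHom := by
  have hL : Nat.card L = Nat.card A * A.relIndex L := card_eq_card_mul_relIndex hA
  have cA : Nat.card (A.subgroupOf L) = Nat.card A := card_subgroupOf_of_le hA
  have cB : Nat.card (B.subgroupOf L) = Nat.card A := by rw [card_subgroupOf_of_le hB, hcard]
  obtain ⟨g, hg⟩ := Cfsg.Agent.Helper1.hall_conj (G := L) (Nat.card A) (A.relIndex L) hL hcop
    (A.subgroupOf L) (B.subgroupOf L) cA cB
  refine ⟨g, g.2, ?_⟩
  ext x
  rw [mem_map_conj]
  constructor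
  · intro hx
    have hxL : x ∈ L := hB hx
    have h1 : (⟨x, hxL⟩ : L) ∈ MulAut.conj g • A.subgroupOf L := by
      rw [hg]; exact hx
    rw [Subgroup.mem_pointwise_smul_iff_inv_smul_mem] at h1
    have h2 : (((MulAut.conj g)⁻¹ • (⟨x, hxL⟩ : L) : L) : G) ∈ A := h1
    simpa [MulAut.smul_def, MulAut.conj_inv_apply] using h2
  · intro hx
    have hxL : g⁻¹.1 * x * g.1 ∈ L := hA hx
    have hxL' : x ∈ L := by
      have := L.mul_mem (L.mul_mem g.2 hxL) (L.inv_mem g.2)
      simpa [mul_assoc] using this
    have h1 : (⟨x, hxL'⟩ : L) ∈ MulAut.conj g • A.subgroupOf L := by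
      rw [Subgroup.mem_pointwise_smul_iff_inv_smul_mem]
      show (((MulAut.conj g)⁻¹ • (⟨x, hxL'⟩ : L) : L) : G) ∈ A
      simpa [MulAut.smul_def, MulAut.conj_inv_apply] using hx
    rw [hg] at h1
    exact h1

end Cfsg.Agent.Helper23.HallRel
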