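import Mathlib
import Cfsg.Prelude.Def_OddOrder
import Cfsg.Prelude.Def_OddOrderLocal
import Cfsg.Agent.Lib.Helper45.BG143
import Cfsg.Agent.Lib.Helper76.EqOrd1
import Cfsg.Agent.Lib.Helper23.HallRel

/-!
# Bender-Glauberman 14.2: lemmas (L1), (L2), (L7) of `Lib/Helper54/BG142_PROOF.md` (helper23)

Hypothesis-parametrised: the frozen rows S1409, S1415, S1417(e), S1427, S1428 enter as explicit
hypotheses, each in the exact shape of the corresponding conjunct of the row (so the assembler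
passes a projection of `Cfsg.Agent.SNNNN.result hG M hM ...`).
-/

set_option autoImplicit false
set_option linter.unusedSectionVars false
set_option linter.unusedVariables false
set_option linter.style.haveILetI false

namespace Cfsg.Agent.Helper23.BG142

open Subgroup Cfsg Cfsg.Agent.Helper45.BGTools

variable {G : Type*} [Group G]

/-- (L7) normalizers in `M = Ms ⋊ E`: if `n = e * s` (`e ∈ E`, `s ∈ Ms`) normalizes `X ≤ E` then
`s` centralizes `X` and `e` normalizes `X`.  Pure (no finiteness). -/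
theorem normalizer_decomp {M Ms E X : Subgroup G} (hE : Cfsg.IsComplIn E Ms M)
    (hMs : M ≤ Subgroup.normalizer (Ms : Set G)) (hXE : X ≤ E) {n : G} (hnM : n ∈ M)
    (hnX : n ∈ Subgroup.normalizer (X : Set G)) :
    ∃ e ∈ E, ∃ s ∈ Ms, n = e * s ∧ s ∈ Subgroup.centralizer (X : Set G) ∧
      e ∈ Subgroup.normalizer (X : Set G) := by
  obtain ⟨hEM, hMsM, hinf, hprod⟩ := hE
  obtain ⟨e, he, s, hs, rfl⟩ := hprod n hnM
  have hcomm : ∀ x ∈ X, s * x = x * s := by
    intro x hx
    have h1 : (e * s) * x * (e * s)⁻¹ ∈ X := (Subgroup.mem_normalizer_iff.1 hnX x).1 hx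
    have hxM : x ∈ M := hEM (hXE hx)
    have hc0 : x * s⁻¹ * x⁻¹ ∈ Ms :=
      (Subgroup.mem_normalizer_iff.1 (hMs hxM) s⁻¹).1 (Ms.inv_mem hs)
    have hc : s * (x * s⁻¹ * x⁻¹) ∈ Ms := Ms.mul_mem hs hc0
    have hec : e * (s * (x * s⁻¹ * x⁻¹)) * e⁻¹ ∈ Ms :=
      (Subgroup.mem_normalizer_iff.1 (hMs (hEM he)) _).1 hc
    have hexe : e * x * e⁻¹ ∈ E := E.mul_mem (E.mul_mem he (hXE hx)) (E.inv_mem he)
    have heq : e * (s * (x * s⁻¹ * x⁻¹)) * e⁻¹ =
        ((e * s) * x * (e * s)⁻¹) * (e * x * e⁻¹)⁻¹ := by group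
    have hecE : e * (s * (x * s⁻¹ * x⁻¹)) * e⁻¹ ∈ E := by
      rw [heq]; exact E.mul_mem (hXE h1) (E.inv_mem hexe)
    have h1' : e * (s * (x * s⁻¹ * x⁻¹)) * e⁻¹ = 1 := by
      have hmem : e * (s * (x * s⁻¹ * x⁻¹)) * e⁻¹ ∈ E ⊓ Ms := ⟨hecE, hec⟩
      rw [hinf] at hmem
      exact Subgroup.mem_bot.1 hmem
    have h2 : s * (x * s⁻¹ * x⁻¹) = 1 := by
      have h3 : e⁻¹ * (e * (s * (x * s⁻¹ * x⁻¹)) * e⁻¹) * e = e⁻¹ * 1 * e := by rw [h1']
      have h4 : e⁻¹ * (e * (s * (x * s⁻¹ * x⁻¹)) * e⁻¹) * e = s * (x * s⁻¹ * x⁻¹) := by group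
      rw [h4] at h3
      rw [h3]; group
    calc s * x = s * (x * s⁻¹ * x⁻¹) * (x * s) := by group
      _ = x * s := by rw [h2, one_mul]
  have key : ∀ y ∈ X, (e * s) * y * (e * s)⁻¹ = e * y * e⁻¹ := by
    intro y hy
    calc (e * s) * y * (e * s)⁻¹ = e * (s * y) * s⁻¹ * e⁻¹ := by group
      _ = e * (y * s) * s⁻¹ * e⁻¹ := by rw [hcomm y hy]
      _ = e * y * e⁻¹ := by group
  refine ⟨e, he, s, hs, rfl, ?_, ?_⟩
  · rw [Subgroup.mem_centralizer_iff]
    intro x hx
    exact (hcomm x hx).symm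
  · rw [Subgroup.mem_normalizer_iff]
    intro x
    constructor
    · intro hx
      rw [← key x hx]
      exact (Subgroup.mem_normalizer_iff.1 hnX x).1 hx
    · intro hx
      have hn' := (Subgroup.mem_normalizer_iff.1 (Subgroup.inv_mem _ hnX) (e * x * e⁻¹)).1 hx
      have hyx : x = s * ((e * s)⁻¹ * (e * x * e⁻¹) * ((e * s)⁻¹)⁻¹) * s⁻¹ := by group
      have hfix : s * ((e * s)⁻¹ * (e * x * e⁻¹) * ((e * s)⁻¹)⁻¹) * s⁻¹ =
          (e * s)⁻¹ * (e * x * e⁻¹) * ((e * s)⁻¹)⁻¹ := by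
        rw [hcomm _ hn']; group
      rw [hyx, hfix]
      exact hn'

variable [Finite G]

/-- subgroups of maximal subgroups of a minimal simple group are solvable -/
theorem isSolvable_of_le_coatom (hG : Cfsg.IsMinSimpleOddOrder G) {M E : Subgroup G}
    (hM : IsCoatom M) (hEM : E ≤ M) : Group.IsSolvable E := by
  haveI hMs : Group.IsSolvable M := hG.2.2.2 M hM.1
  exact Group.isSolvable_of_isSolvable_injective (f := Subgroup.inclusion hEM)
    (Subgroup.inclusion_injective hEM)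

/-- (L1) with the by-product `Y ⊴ E`.  If `τ₂(M) ≠ ∅`, `s ∈ τ₃(M)` and `Y ≤ E` has order `s`, then
`Y` is normal in `E` and `C_{M_σ}(Y) = 1`.  Rows: S1409 (`.1.2`), S1415 (`.2.2`), S1417(e). -/
theorem tau3_normal_and_fix_bot_of (hG : Cfsg.IsMinSimpleOddOrder G) {M E : Subgroup G}
    (hM : IsCoatom M) (hE : Cfsg.IsComplIn E (Cfsg.sigmaCore M) M) {r s : ℕ}
    (hr : r ∈ Cfsg.tau2 M) (hs : s ∈ Cfsg.tau3 M)
    (h1409 : ∀ X : Subgroup G, Nat.card X = s → Subgroup.normalizer (X : Set G) ≤ M →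
      ¬ Cfsg.PRankLE s 1 M)
    (h1415 : ∀ E₃ : Subgroup G, Cfsg.IsPiHallOf (Cfsg.tau3 M) E₃ E →
      IsCyclic E₃ ∧ E₃ ≤ ⁅E, E⁆ ∧ E ≤ Subgroup.normalizer (E₃ : Set G))
    (h1417e : ∀ A : Subgroup G, (A ≤ M ∧ Cfsg.IsElementaryAbelian r A ∧ Nat.card A = r ^ 2) →
      ∀ Mstar : Subgroup G, IsCoatom Mstar → Mstar ≠ M → A ≤ Mstar →
        Cfsg.sigmaCore M ⊓ Mstar = ⊥)
    {Y : Subgroup G} (hYE : Y ≤ E) (hY : Nat.card Y = s) :
    E ≤ Subgroup.normalizer (Y : Set G) ∧
      Cfsg.sigmaCore M ⊓ Subgroup.centralizer (Y : Set G) = ⊥ := by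
  classical
  haveI : IsSimpleGroup G := hG.2.1
  have hsp : s.Prime := hs.1
  haveI : Fact s.Prime := ⟨hsp⟩
  have hEM : E ≤ M := hE.1
  obtain ⟨E₃, hE₃⟩ := Cfsg.Agent.Helper45.BG143.exists_hall (Cfsg.tau3 M) E
    (isSolvable_of_le_coatom hG hM hEM)
  obtain ⟨hcyc, -, hnrm⟩ := h1415 E₃ hE₃
  have hYp : IsPGroup s Y := IsPGroup.of_card (n := 1) (by rw [hY, pow_one])
  have hYE₃ : Y ≤ E₃ := by
    obtain ⟨m, hm, hmY⟩ := exists_conj_le (p := s) (M := E) (K := E₃) (X := Y)
      (hE₃.2.2 s hsp hs) hYE hYp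
    intro y hy
    have h1 : m * y * m⁻¹ ∈ E₃ := hmY (conj_mem_cjm hy)
    have h2 := (Subgroup.mem_normalizer_iff.1 (hnrm (E.inv_mem hm)) (m * y * m⁻¹)).1 h1
    have h3 : m⁻¹ * (m * y * m⁻¹) * m⁻¹⁻¹ = y := by group
    rwa [h3] at h2
  have hnormY : E ≤ Subgroup.normalizer (Y : Set G) := by
    intro e he
    have hle : cjm e Y ≤ E₃ := by
      intro x hx
      rw [mem_cjm] at hx
      have hx' := hYE₃ hx
      have h2 := (Subgroup.mem_normalizer_iff.1 (hnrm he) (e⁻¹ * x * e)).1 hx'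
      have h3 : e * (e⁻¹ * x * e) * e⁻¹ = x := by group
      rwa [h3] at h2
    haveI : IsCyclic E₃ := hcyc
    have heq : cjm e Y = Y :=
      Cfsg.Agent.Helper76.EqOrd.eq_of_card_eq_of_le_isCyclic E₃ (cjm e Y) Y hle hYE₃
        (card_cjm e Y)
    rw [Subgroup.mem_normalizer_iff]
    intro h
    constructor
    · intro hh
      have h1 := conj_mem_cjm (g := e) hh
      rwa [heq] at h1
    · intro hh
      rw [← heq, mem_cjm] at hh
      have h3 : e⁻¹ * (e * h * e⁻¹) * e = h := by group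
      rwa [h3] at hh
  refine ⟨hnormY, ?_⟩
  have hY1 : Y ≠ ⊥ := by
    rintro rfl
    rw [Subgroup.card_bot] at hY
    exact hsp.one_lt.ne hY
  have hNne : Subgroup.normalizer (Y : Set G) ≠ ⊤ := by
    intro h
    have hn : Y.Normal := Subgroup.normalizer_eq_top_iff.mp h
    rcases hn.eq_bot_or_eq_top with h1 | h1
    · exact hY1 h1
    · exact hM.1 (top_le_iff.mp (h1 ▸ (hYE.trans hEM)))
  obtain ⟨H, hH, hNH⟩ :=
    (eq_top_or_exists_le_coatom (Subgroup.normalizer (Y : Set G))).resolve_left hNne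
  have hHM : H ≠ M := by
    rintro rfl
    exact h1409 Y hY hNH hs.2.2.2
  obtain ⟨A, hAE, hAel, hAc⟩ := Cfsg.Agent.Helper45.BG143.exists_elemAb_in_compl hr hE
  have hAH : A ≤ H := hAE.trans (hnormY.trans hNH)
  have hbot := h1417e A ⟨hAE.trans hEM, hAel, hAc⟩ H hH hHM hAH
  rw [eq_bot_iff, ← hbot]
  exact inf_le_inf_left _ ((Subgroup.centralizer_le_normalizer _).trans hNH)

/-- (L2) a cyclic Hall `τ₁(M)`-subgroup `E₁` of `E` is semiprime on `M_σ`: `C_{M_σ}(e) = C_{M_σ}(E₁)`
for all `e ∈ E₁#`.  Rows: S1415 (`.2.1`, as `hcyc`), S1427, S1428 (both in the exact shape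
`Cfsg.Agent.S1427.result hG M hM E hE`, `Cfsg.Agent.S1428.result hG M hM E hE`). -/
theorem tau1_semiprime_of {M E E₁ : Subgroup G}
    (hE₁ : Cfsg.IsPiHallOf (Cfsg.tau1 M) E₁ E) (hcyc : IsCyclic E₁)
    (h1427 : ∀ (q : ℕ) [Fact q.Prime] (S : Sylow q E), (S : Subgroup E) ≠ ⊥ →
      IsCyclic (S : Subgroup E) → ∀ x ∈ (S : Subgroup E).map E.subtype, x ≠ 1 →
        Cfsg.sigmaCore M ⊓ Subgroup.centralizer ({x} : Set G) =
          Cfsg.sigmaCore M ⊓
            Subgroup.centralizer (((S : Subgroup E).map E.subtype : Subgroup G) : Set G))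
    (h1428 : ∀ (p : ℕ), p ∈ Cfsg.tau1 M → ∀ P : Subgroup G, P ≤ E → Nat.card P = p →
      ∀ R : Subgroup G, R ≤ E ⊓ Subgroup.centralizer (P : Set G) → (Nat.card R).Prime →
        Cfsg.sigmaCore M ⊓ Subgroup.centralizer (P : Set G) ≤
          Cfsg.sigmaCore M ⊓ Subgroup.centralizer (R : Set G)) :
    ∀ e ∈ E₁, e ≠ 1 →
      Cfsg.sigmaCore M ⊓ Subgroup.centralizer ({e} : Set G) =
        Cfsg.sigmaCore M ⊓ Subgroup.centralizer (E₁ : Set G) := by
  classical
  intro e he he1
  have hE₁E : E₁ ≤ E := hE₁.1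
  apply le_antisymm
  · intro c hc
    have hcσ : c ∈ Cfsg.sigmaCore M := hc.1
    have hce : c ∈ Subgroup.centralizer ({e} : Set G) := hc.2
    refine Subgroup.mem_inf.2 ⟨hcσ, ?_⟩
    -- `E₁` is commutative
    have hcomm' : ∀ a b : E₁, a * b = b * a := by
      obtain ⟨g, hg⟩ := hcyc.exists_generator
      intro a b
      obtain ⟨i, rfl⟩ := Subgroup.mem_zpowers_iff.1 (hg a)
      obtain ⟨j, rfl⟩ := Subgroup.mem_zpowers_iff.1 (hg b)
      exact (Commute.zpow_zpow_self g i j)
    have hcomm : ∀ a ∈ E₁, ∀ b ∈ E₁, a * b = b * a := fun a ha b hb =>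
      congrArg Subtype.val (hcomm' ⟨a, ha⟩ ⟨b, hb⟩)
    -- the subgroup `X` of prime order `p` of `⟨e⟩`
    have hne : orderOf e ≠ 1 := by rwa [Ne, orderOf_eq_one_iff]
    obtain ⟨p, hp, hpe⟩ := Nat.exists_prime_and_dvd hne
    set x₀ : G := e ^ (orderOf e / p) with hx₀
    have hx₀o : orderOf x₀ = p := orderOf_pow_orderOf_div (orderOf_pos e).ne' hpe
    have hx₀E₁ : x₀ ∈ E₁ := E₁.pow_mem he _
    set X : Subgroup G := Subgroup.zpowers x₀ with hX
    have hXcard : Nat.card X = p := by rw [hX, Nat.card_zpowers, hx₀o]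
    have hXE₁ : X ≤ E₁ := by rw [hX, Subgroup.zpowers_le]; exact hx₀E₁
    have hpτ : p ∈ Cfsg.tau1 M := by
      apply hE₁.2.1 p hp
      rw [← hXcard]
      exact Subgroup.card_dvd_of_le hXE₁
    -- `c` centralizes `X`
    have hec : Commute e c := by
      rw [Subgroup.mem_centralizer_iff] at hce
      exact hce e rfl
    have hcX : c ∈ Subgroup.centralizer (X : Set G) := by
      rw [Subgroup.mem_centralizer_iff]
      intro h hh
      obtain ⟨k, rfl⟩ := Subgroup.mem_zpowers_iff.1 hh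
      exact ((hec.pow_left _).zpow_left k)
    -- the elements of `E₁` commuting with `c`
    set D : Subgroup G := E₁ ⊓ Subgroup.centralizer ({c} : Set G) with hD
    have hDE₁ : D ≤ E₁ := inf_le_left
    have key : ∀ q : ℕ, q.Prime → q ∣ Nat.card E₁ →
        q ^ (Nat.card E₁).factorization q ∣ Nat.card D := by
      intro q hq hqd
      haveI : Fact q.Prime := ⟨hq⟩
      obtain ⟨T⟩ : Nonempty (Sylow q E₁) := inferInstance
      set T' : Subgroup G := (T : Subgroup E₁).map E₁.subtype with hT'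
      have hT'card : Nat.card T' = q ^ (Nat.card E₁).factorization q := by
        rw [hT', Subgroup.card_subtype]
        exact T.card_eq_multiplicity
      have hT'E₁ : T' ≤ E₁ := by
        rw [hT']; exact Subgroup.map_subtype_le _
      have hT'E : T' ≤ E := hT'E₁.trans hE₁E
      -- the `q`-parts of `|E₁|` and `|E|` agree
      have hfac : (Nat.card E).factorization q = (Nat.card E₁).factorization q := by
        have h1 : Nat.card E = Nat.card E₁ * E₁.relIndex E :=
          Cfsg.Agent.Helper23.HallRel.card_eq_card_mul_relIndex hE₁E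
        have hq1 : q ∈ Cfsg.tau1 M := hE₁.2.1 q hq hqd
        have hnd : ¬ q ∣ E₁.relIndex E := hE₁.2.2 q hq hq1
        have hE₁0 : Nat.card E₁ ≠ 0 := Nat.card_pos.ne'
        have hr0 : E₁.relIndex E ≠ 0 := by
          intro h0
          rw [h0, mul_zero] at h1
          exact (Nat.card_pos (α := E)).ne' h1
        rw [h1, Nat.factorization_mul hE₁0 hr0, Finsupp.add_apply,
          Nat.factorization_eq_zero_of_not_dvd hnd, add_zero]
      have hScard : Nat.card (T'.subgroupOf E) = q ^ (Nat.card E).factorization q := by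
        rw [Cfsg.Agent.Helper23.HallRel.card_subgroupOf_of_le hT'E, hT'card, hfac]
      set S : Sylow q E := Sylow.ofCard (T'.subgroupOf E) hScard with hS
      have hSmap : ((S : Subgroup E).map E.subtype : Subgroup G) = T' := by
        rw [hS, Sylow.coe_ofCard, Subgroup.map_subgroupOf_eq_of_le hT'E]
      have hT'1 : T' ≠ ⊥ := by
        intro h
        rw [h, Subgroup.card_bot] at hT'card
        have hpos : 0 < (Nat.card E₁).factorization q :=
          hq.factorization_pos_of_dvd Nat.card_pos.ne' hqd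
        have : 1 < q ^ (Nat.card E₁).factorization q :=
          Nat.one_lt_pow hpos.ne' hq.one_lt
        omega
      have hS1 : (S : Subgroup E) ≠ ⊥ := by
        intro h
        apply hT'1
        rw [← hSmap, h, Subgroup.map_bot]
      have hScyc : IsCyclic (S : Subgroup E) := by
        haveI := hcyc
        let φ : ↥(S : Subgroup E) →* ↥E₁ :=
          (E.subtype.comp (S : Subgroup E).subtype).codRestrict E₁ (fun x => by
            apply hT'E₁
            rw [← hSmap]
            exact Subgroup.mem_map_of_mem _ x.2)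
        have hφ : Function.Injective φ := by
          intro a b hab
          have h1 : ((a : E) : G) = ((b : E) : G) := by
            have h0 := congrArg (fun t : ↥E₁ => (t : G)) hab
            exact h0
          exact Subtype.ext (Subtype.ext h1)
        exact isCyclic_of_injective φ hφ
      -- an element of order `q` of `T'`
      have hqT' : q ∣ Nat.card T' := by
        rw [hT'card]
        exact dvd_pow_self q (hq.factorization_pos_of_dvd Nat.card_pos.ne' hqd).ne'
      obtain ⟨y, hy⟩ := exists_prime_orderOf_dvd_card' (G := T') q hqT'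
      have hyo : orderOf (y : G) = q := by rw [Subgroup.orderOf_coe]; exact hy
      have hy1 : (y : G) ≠ 1 := by
        intro h
        rw [h, orderOf_one] at hyo
        exact hq.one_lt.ne hyo
      set R : Subgroup G := Subgroup.zpowers (y : G) with hR
      have hRcard : Nat.card R = q := by rw [hR, Nat.card_zpowers, hyo]
      have hRT' : R ≤ T' := by rw [hR, Subgroup.zpowers_le]; exact y.2
      have hRE : R ≤ E ⊓ Subgroup.centralizer (X : Set G) := by
        intro z hz
        refine Subgroup.mem_inf.2 ⟨hT'E (hRT' hz), ?_⟩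
        rw [Subgroup.mem_centralizer_iff]
        intro h hh
        exact hcomm h (hXE₁ hh) z (hT'E₁ (hRT' hz))
      have h28 := h1428 p hpτ X (hXE₁.trans hE₁E) hXcard R hRE (by rw [hRcard]; exact hq)
      have hcR : c ∈ Cfsg.sigmaCore M ⊓ Subgroup.centralizer (R : Set G) :=
        h28 (Subgroup.mem_inf.2 ⟨hcσ, hcX⟩)
      have hcy : c ∈ Cfsg.sigmaCore M ⊓ Subgroup.centralizer ({(y : G)} : Set G) := by
        refine Subgroup.mem_inf.2 ⟨hcσ, ?_⟩
        rw [Subgroup.mem_centralizer_iff]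
        intro h hh
        rw [Set.mem_singleton_iff] at hh
        subst hh
        exact (Subgroup.mem_centralizer_iff.1 (Subgroup.mem_inf.1 hcR).2) _
          (Subgroup.mem_zpowers _)
      have h27 := h1427 q S hS1 hScyc (y : G) (by rw [hSmap]; exact y.2) hy1
      rw [h27, hSmap] at hcy
      -- so `T' ≤ D`
      have hT'D : T' ≤ D := by
        intro t ht
        refine Subgroup.mem_inf.2 ⟨hT'E₁ ht, ?_⟩
        rw [Subgroup.mem_centralizer_iff]
        intro h hh
        rw [Set.mem_singleton_iff] at hh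
        subst hh
        exact ((Subgroup.mem_centralizer_iff.1 (Subgroup.mem_inf.1 hcy).2) t ht).symm
      rw [← hT'card]
      exact Subgroup.card_dvd_of_le hT'D
    have hdvd : Nat.card E₁ ∣ Nat.card D := by
      rw [← Nat.factorization_prime_le_iff_dvd Nat.card_pos.ne' Nat.card_pos.ne']
      intro q hq
      by_cases hqd : q ∣ Nat.card E₁
      · exact (hq.pow_dvd_iff_le_factorization Nat.card_pos.ne').1 (key q hq hqd)
      · rw [Nat.factorization_eq_zero_of_not_dvd hqd]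
        exact Nat.zero_le _
    have hDeq : D = E₁ :=
      Subgroup.eq_of_le_of_card_ge hDE₁ (Nat.le_of_dvd Nat.card_pos hdvd)
    rw [Subgroup.mem_centralizer_iff]
    intro h hh
    have hhD : h ∈ D := by rw [hDeq]; exact hh
    exact ((Subgroup.mem_centralizer_iff.1 (Subgroup.mem_inf.1 hhD).2) c rfl).symm
  · exact inf_le_inf_left _ (Subgroup.centralizer_le (Set.singleton_subset_iff.2 he))

end Cfsg.Agent.Helper23.BG142
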