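import Mathlib
import Cfsg.Agent.Lib.Helper67.BGCruxDefs
import Cfsg.Agent.Lib.Helper58.BG139R12
import Cfsg.Agent.Lib.Helper82.BG139R3
import Cfsg.Agent.Lib.Helper45.BG143
import Cfsg.Agent.Lib.Helper23.BG142L127

/-!
# CRUX (L8) of S1430/S1431, package (C1) of `tools/bgcrux_sigs_helper67.lean.txt` (server helper67)

`E = E₃ ⋊ E₁` when `τ₂(M) = ∅`.
-/

set_option autoImplicit false

namespace Cfsg.Agent.Helper23.BGCrux

open Subgroup Cfsg
open Cfsg.Agent.Helper52 (sylCard)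
open Cfsg.Agent.Helper67.BGCrux

variable {G : Type*} [Group G] [Finite G]

/-- **(C1)** `E = E₃ ⋊ E₁`. -/
theorem exists_EStruct (hG : IsMinSimpleOddOrder G) (rows : Rows G) {M E : Subgroup G}
    (hM : IsCoatom M) (hE : IsComplIn E (sigmaCore M) M) (h2 : tau2 M = ∅) :
    ∃ E1 E3 : Subgroup G, EStruct M E E1 E3 := by
  have hEsolv : Group.IsSolvable E :=
    Cfsg.Agent.Helper23.BG142.isSolvable_of_le_coatom hG hM hE.1
  obtain ⟨E1, hE1⟩ := Cfsg.Agent.Helper45.BG143.exists_hall (tau1 M) E hEsolv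
  obtain ⟨E3, hE3, hgen, hcop, hcard⟩ :=
    Cfsg.Agent.Helper58.BG139Req.exists_hall_tau3 hG M hM h2 E hE E1 hE1
  obtain ⟨_, hr1, hr3⟩ := rows.r1415 M hM E hE
  have hcyc1 : IsCyclic E1 := hr1 E1 hE1
  obtain ⟨hcyc3, hle, hnorm⟩ := hr3 E3 hE3
  have hc1 : IsMulCommutative E1 := by
    haveI := hcyc1
    exact ⟨⟨fun a b => (IsCyclic.commGroup (α := E1)).mul_comm a b⟩⟩
  have hc3 : IsMulCommutative E3 := by
    haveI := hcyc3
    exact ⟨⟨fun a b => (IsCyclic.commGroup (α := E3)).mul_comm a b⟩⟩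
  have hE1n : E1 ≤ normalizer (E3 : Set G) := hE1.1.trans hnorm
  refine ⟨E1, E3, ⟨hE1, hE3, hcyc1, hcyc3, hnorm, hle, ?_, ?_, ?_⟩⟩
  · intro e he
    have he' : e ∈ E3 ⊔ E1 := hgen he
    have hmem : e ∈ ((E3 ⊔ E1 : Subgroup G) : Set G) := he'
    rw [Subgroup.coe_mul_of_right_le_normalizer_left E3 E1 hE1n] at hmem
    obtain ⟨a, ha, b, hb, hab⟩ := Set.mem_mul.1 hmem
    exact ⟨a, ha, b, hb, hab.symm⟩
  · exact (Subgroup.disjoint_of_coprime_natCard hcop).eq_bot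
  · exact Cfsg.Agent.Helper82.BG139Req.inf_centralizer_eq_bot_of_le_commutator E E1 E3 hE1.1 hE3.1
      hgen hnorm hc3 hc1 hcop hle

end Cfsg.Agent.Helper23.BGCrux
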