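import Mathlib
import Cfsg.Agent.Lib.Helper67.BGCruxDefs
import Cfsg.Agent.Lib.Helper45.BG143
import Cfsg.Agent.Lib.Helper45.BGTools
import Cfsg.Agent.Lib.Helper23.BG142L127
import Cfsg.Agent.Lib.Helper22.BG11W2
import Cfsg.Agent.Lib.Helper50.Hyperplane
import Cfsg.Agent.Lib.Helper34.BG10d
import Cfsg.Agent.Lib.Helper55.BGHall
import Cfsg.Agent.Lib.Helper55.BGBasic
import Cfsg.Agent.Lib.Helper55.BGFit
import Cfsg.Agent.Lib.Helper76.EqOrd1
import Cfsg.Agent.S1405

/-!
# CRUX (L8) of S1430/S1431, package (C4) of `tools/bgcrux_sigs_helper67.lean.txt` (server helper67)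

A `t`-subgroup `T` of `E` with `t ∉ τ₁(H)` centralizes `C = C_{M_σ}(Y)`.
-/

set_option autoImplicit false

namespace Cfsg.Agent.Helper23.BGCrux

open Subgroup Cfsg
open Cfsg.Agent.Helper52 (sylCard)
open Cfsg.Agent.Helper67.BGCrux

variable {G : Type*} [Group G] [Finite G]

/-- `T` normalizes `C`, `C` normalizes `D ≥ T`, `C ⊓ D = ⊥`: then `T` centralizes `C`. -/
theorem c4_le_centralizer_of_normalizers {C T D : Subgroup G}
    (hTC : T ≤ normalizer (C : Set G)) (hCD : C ≤ normalizer (D : Set G)) (hTD : T ≤ D)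
    (hCD0 : C ⊓ D = ⊥) : T ≤ centralizer (C : Set G) := by
  intro x hx
  rw [Subgroup.mem_centralizer_iff]
  intro c hc
  have hc' : c ∈ C := hc
  have h1 : c * x * c⁻¹ ∈ D := (Subgroup.mem_normalizer_iff.1 (hCD hc') x).1 (hTD hx)
  have h2 : x * c⁻¹ * x⁻¹ ∈ C := (Subgroup.mem_normalizer_iff.1 (hTC hx) c⁻¹).1 (C.inv_mem hc')
  have hkD : c * x * c⁻¹ * x⁻¹ ∈ D := D.mul_mem h1 (D.inv_mem (hTD hx))
  have hkC : c * x * c⁻¹ * x⁻¹ ∈ C := by
    have h3 : c * x * c⁻¹ * x⁻¹ = c * (x * c⁻¹ * x⁻¹) := by group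
    rw [h3]; exact C.mul_mem hc' h2
  have hk : c * x * c⁻¹ * x⁻¹ ∈ C ⊓ D := Subgroup.mem_inf.2 ⟨hkC, hkD⟩
  rw [hCD0, Subgroup.mem_bot] at hk
  have h4 : c * x = (c * x * c⁻¹ * x⁻¹) * (x * c) := by group
  rw [h4, hk, one_mul]

/-- `T ≤ N(A)`, `T ≤ B`: then `T ≤ N(A ⊓ B)`. -/
theorem c4_le_normalizer_inf {A B T : Subgroup G} (hA : T ≤ normalizer (A : Set G)) (hB : T ≤ B) :
    T ≤ normalizer ((A ⊓ B : Subgroup G) : Set G) := by
  intro x hx
  rw [Subgroup.mem_normalizer_iff]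
  intro h
  have hxB : x ∈ B := hB hx
  constructor
  · intro hh
    obtain ⟨h1, h2⟩ := Subgroup.mem_inf.1 hh
    exact Subgroup.mem_inf.2 ⟨(Subgroup.mem_normalizer_iff.1 (hA hx) h).1 h1,
      B.mul_mem (B.mul_mem hxB h2) (B.inv_mem hxB)⟩
  · intro hh
    obtain ⟨h1, h2⟩ := Subgroup.mem_inf.1 hh
    refine Subgroup.mem_inf.2 ⟨(Subgroup.mem_normalizer_iff.1 (hA hx) h).2 h1, ?_⟩
    have h3 : h = x⁻¹ * (x * h * x⁻¹) * x := by group
    rw [h3]
    exact B.mul_mem (B.mul_mem (B.inv_mem hxB) h2) hxB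

/-- a `t`-subgroup of `E` lies in every normal subgroup `F` of `E` with `t ∤ |E : F|`. -/
theorem c4_le_of_normal_hall {E F T : Subgroup G} {t : ℕ} [Fact t.Prime]
    (hidx : ¬ t ∣ F.relIndex E) (hnrm : E ≤ normalizer (F : Set G))
    (hTE : T ≤ E) (hT : IsPGroup t T) : T ≤ F := by
  obtain ⟨m, hm, hmT⟩ := Cfsg.Agent.Helper45.BGTools.exists_conj_le (p := t) (M := E) (K := F)
    (X := T) hidx hTE hT
  intro y hy
  have h1 : m * y * m⁻¹ ∈ F := hmT (Cfsg.Agent.Helper45.BGTools.conj_mem_cjm hy)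
  have h2 := (Subgroup.mem_normalizer_iff.1 (hnrm (E.inv_mem hm)) (m * y * m⁻¹)).1 h1
  have h3 : m⁻¹ * (m * y * m⁻¹) * m⁻¹⁻¹ = y := by group
  rwa [h3] at h2

/-- whatever normalizes the cyclic group `F` normalizes each of its subgroups. -/
theorem c4_le_normalizer_of_le_cyclic {F T C : Subgroup G} (hcyc : IsCyclic F) (hTF : T ≤ F)
    (hCF : C ≤ normalizer (F : Set G)) : C ≤ normalizer (T : Set G) := by
  intro e he
  have hle : Cfsg.Agent.Helper45.BGTools.cjm e T ≤ F := by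
    intro x hx
    rw [Cfsg.Agent.Helper45.BGTools.mem_cjm] at hx
    have hx' := hTF hx
    have h2 := (Subgroup.mem_normalizer_iff.1 (hCF he) (e⁻¹ * x * e)).1 hx'
    have h3 : e * (e⁻¹ * x * e) * e⁻¹ = x := by group
    rwa [h3] at h2
  haveI : IsCyclic F := hcyc
  have heq : Cfsg.Agent.Helper45.BGTools.cjm e T = T :=
    Cfsg.Agent.Helper76.EqOrd.eq_of_card_eq_of_le_isCyclic F (Cfsg.Agent.Helper45.BGTools.cjm e T) T
      hle hTF (Cfsg.Agent.Helper45.BGTools.card_cjm e T)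
  rw [Subgroup.mem_normalizer_iff]
  intro h
  constructor
  · intro hh
    have h1 := Cfsg.Agent.Helper45.BGTools.conj_mem_cjm (g := e) hh
    rwa [heq] at h1
  · intro hh
    rw [← heq, Cfsg.Agent.Helper45.BGTools.mem_cjm] at hh
    have h3 : e⁻¹ * (e * h * e⁻¹) * e = h := by group
    rwa [h3] at hh

/-- **(C4)** a `t`-subgroup `T` of `E` with `t ∉ τ₁(H)` centralizes `C`. -/
theorem le_centralizer_of_not_tau1 (hG : IsMinSimpleOddOrder G) (rows : Rows G) (inp : Inputs G)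
    {M E Y H : Subgroup G} {s : ℕ} (cfg : Cfg M E Y s) (hs : HSide M E Y H s) {t : ℕ} [Fact t.Prime]
    {T : Subgroup G} (hT : IsPGroup t T) (hTE : T ≤ E) (ht : t ∉ tau1 H) :
    T ≤ centralizer ((sigmaCore M ⊓ centralizer (Y : Set G) : Subgroup G) : Set G) := by
  classical
  by_cases hT0 : T = ⊥
  · rw [hT0]; exact bot_le
  have htp : t.Prime := Fact.out
  have hM := cfg.hM
  have hH := hs.hH
  have hE := cfg.hE
  have hEM : E ≤ M := hE.1
  have hTM : T ≤ M := hTE.trans hEM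
  have hTH : T ≤ H := hTE.trans hs.hEH
  obtain ⟨hHallM, -, -⟩ := rows.r1350 M hM
  obtain ⟨hHallH, -, -⟩ := rows.r1350 H hH
  have hCeq : sigmaCore M ⊓ H = sigmaCore M ⊓ centralizer (Y : Set G) := hs.hMsH
  generalize hCdef : sigmaCore M ⊓ centralizer (Y : Set G) = C at hCeq ⊢
  have hCMs : C ≤ sigmaCore M := by rw [← hCdef]; exact inf_le_left
  have hCH : C ≤ H := by rw [← hCeq]; exact inf_le_right
  have hTC : T ≤ normalizer (C : Set G) := by
    rw [← hCeq]
    exact c4_le_normalizer_inf (hTM.trans (Cfsg.Agent.Helper55.BGB.le_normalizer_sigmaCore M)) hTH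
  -- the primes of `C` and of `T`
  have hCprime : ∀ p : ℕ, p.Prime → p ∣ Nat.card C → p ∈ sigma M := fun p hp hd =>
    Cfsg.Agent.Helper55.BGB.isPi_sigmaCore M p hp (hd.trans (Subgroup.card_dvd_of_le hCMs))
  obtain ⟨n, hn⟩ := IsPGroup.iff_card.1 hT
  have hTprime : ∀ p : ℕ, p.Prime → p ∣ Nat.card T → p = t := by
    intro p hp hd
    rw [hn] at hd
    exact (Nat.prime_dvd_prime_iff_eq hp htp).1 (hp.dvd_of_dvd_pow hd)
  have htT : t ∣ Nat.card T := by
    rcases Nat.eq_zero_or_pos n with h0 | hpos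
    · exfalso
      apply hT0
      rw [h0, pow_zero] at hn
      exact Subgroup.eq_bot_of_card_eq T hn
    · rw [hn]; exact dvd_pow_self t hpos.ne'
  -- `t ∉ σ(M)`
  have htσM : t ∉ sigma M := by
    intro hσ
    have h1 : T ≤ sigmaCore M :=
      Cfsg.Agent.Helper55.BGB.le_sigmaCore_of_isPGroup htp hHallM hσ hTM hT
    apply hT0
    rw [eq_bot_iff, ← hE.2.2.1]
    exact le_inf hTE h1
  -- `C` meets every `t`-group trivially
  have hCt : ∀ D : Subgroup G, IsPGroup t D → C ⊓ D = ⊥ := by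
    intro D hD
    obtain ⟨k, hk⟩ := IsPGroup.iff_card.1 hD
    apply (Subgroup.disjoint_of_coprime_natCard _).eq_bot
    rw [hk]
    exact Nat.Coprime.pow_right k
      ((Nat.Prime.coprime_iff_not_dvd htp).2 (fun hd => htσM (hCprime t htp hd))).symm
  by_cases hσ : t ∈ sigma H
  · -- `t ∈ σ(H)`
    have hTHs : T ≤ sigmaCore H :=
      Cfsg.Agent.Helper55.BGB.le_sigmaCore_of_isPGroup htp hHallH hσ hTH hT
    have hCn : C ≤ normalizer ((sigmaCore H : Subgroup G) : Set G) :=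
      hCH.trans (Cfsg.Agent.Helper55.BGB.le_normalizer_sigmaCore H)
    have hdis : C ⊓ sigmaCore H = ⊥ := by
      apply (Subgroup.disjoint_of_coprime_natCard _).eq_bot
      apply Nat.coprime_of_dvd
      intro k hk hk1 hk2
      exact hs.hdisj k (hCprime k hk hk1) (Cfsg.Agent.Helper55.BGB.isPi_sigmaCore H k hk hk2)
    exact c4_le_centralizer_of_normalizers hTC hCn hTHs hdis
  · -- `t ∉ σ(H)`
    have htH : t ∣ Nat.card H := htT.trans (Subgroup.card_dvd_of_le hTH)
    obtain ⟨hαH, -, hαleH, -, -⟩ := Cfsg.Agent.S1405.result hG H hH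
    have hr2H : PRankLE t 2 H :=
      Cfsg.Agent.Helper55.BGB.prankLE_two_of_not_mem_sigma htp hαH hαleH hσ
    -- a complement `EH` of `H_σ` in `H` containing `C ⊔ T`
    obtain ⟨E0, hE0⟩ := Cfsg.Agent.Helper55.BGB.exists_compl_sigmaCore hHallH
    have hsolvHs : Group.IsSolvable (sigmaCore H) :=
      Cfsg.Agent.Helper23.BG142.isSolvable_of_le_coatom hG hH hHallH.1
    have hCTH : C ⊔ T ≤ H := sup_le hCH hTH
    have hcop : (Nat.card (sigmaCore H)).Coprime (Nat.card ↥(C ⊔ T)) := by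
      apply Nat.coprime_of_dvd
      intro k hk hk1 hk2
      have hkσ : k ∈ sigma H := Cfsg.Agent.Helper55.BGB.isPi_sigmaCore H k hk hk1
      have hk3 : k ∣ Nat.card C * Nat.card T :=
        hk2.trans (Cfsg.Agent.Helper50.card_sup_dvd_of_le_normalizer C T hTC)
      rcases (Nat.Prime.dvd_mul hk).1 hk3 with h | h
      · exact hs.hdisj k (hCprime k hk h) hkσ
      · have hkt : k = t := hTprime k hk h
        rw [hkt] at hkσ
        exact hσ hkσ
    obtain ⟨EH, hEH, hCTE⟩ := Cfsg.Agent.Helper22.BG11.exists_compl_ge E0 hE0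
      (Cfsg.Agent.Helper55.BGB.le_normalizer_sigmaCore H) hCTH (Or.inl hsolvHs) hcop
    have hCE : C ≤ EH := le_sup_left.trans hCTE
    have hTEH : T ≤ EH := le_sup_right.trans hCTE
    by_cases hr1H : PRankLE t 1 H
    · -- `t ∈ τ₃(H)`
      have ht3 : t ∈ tau3 H := by
        refine ⟨htp, hσ, ?_, hr1H⟩
        by_contra hnd
        exact ht ⟨htp, hσ, htH, hnd, hr1H⟩
      have hsolvEH : Group.IsSolvable EH :=
        Cfsg.Agent.Helper23.BG142.isSolvable_of_le_coatom hG hH hEH.1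
      obtain ⟨F3, hF3⟩ := Cfsg.Agent.Helper45.BG143.exists_hall (tau3 H) EH hsolvEH
      obtain ⟨-, -, h3⟩ := rows.r1415 H hH EH hEH
      obtain ⟨hcyc, -, hnrm⟩ := h3 F3 hF3
      have hTF : T ≤ F3 := c4_le_of_normal_hall (hF3.2.2 t htp ht3) hnrm hTEH hT
      have hCT : C ≤ normalizer (T : Set G) :=
        c4_le_normalizer_of_le_cyclic hcyc hTF (hCE.trans hnrm)
      exact c4_le_centralizer_of_normalizers hTC hCT le_rfl (hCt T hT)
    · -- `t ∈ τ₂(H)`
      have ht2 : t ∈ tau2 H := ⟨htp, hσ, hr2H, hr1H⟩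
      obtain ⟨A, hAE, hAel, hAcard⟩ := Cfsg.Agent.Helper45.BG143.exists_elemAb_in_compl ht2 hEH
      obtain ⟨⟨hEN, hX⟩, -, -⟩ := rows.r1418 H hH EH hEH t ht2 A ⟨hAE, hAel, hAcard⟩
      -- `x ∈ T` of order `t`
      obtain ⟨x, hx⟩ := exists_prime_orderOf_dvd_card' t htT
      have hxT : (x : G) ∈ T := x.2
      have hRT : Subgroup.zpowers (x : G) ≤ T := Subgroup.zpowers_le.2 hxT
      have hRcard : Nat.card (Subgroup.zpowers (x : G)) = t := by
        rw [Nat.card_zpowers, Subgroup.orderOf_coe, hx]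
      have hRA : Subgroup.zpowers (x : G) ≤ A := hX _ (hRT.trans hTEH) hRcard
      have hAp : IsPGroup t A := IsPGroup.of_card (n := 2) hAcard
      have hRC : Subgroup.zpowers (x : G) ≤ centralizer (C : Set G) :=
        c4_le_centralizer_of_normalizers (hRT.trans hTC) (hCE.trans hEN) hRA (hCt A hAp)
      -- `M` has `t`-rank at most 1
      obtain ⟨hαM, -, hαleM, -, -⟩ := Cfsg.Agent.S1405.result hG M hM
      have hr2M : PRankLE t 2 M :=
        Cfsg.Agent.Helper55.BGB.prankLE_two_of_not_mem_sigma htp hαM hαleM htσM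
      have hr1M : PRankLE t 1 M := by
        by_contra hnr
        have hmem : t ∈ tau2 M := ⟨htp, htσM, hr2M, hnr⟩
        rw [cfg.h2] at hmem
        exact (Set.mem_empty_iff_false t).1 hmem
      -- a Sylow `t`-subgroup `S` of `E` over `T`, cyclic
      have hTsub : IsPGroup t (T.subgroupOf E) := hT.comap_subtype
      obtain ⟨S, hS⟩ := hTsub.exists_le_sylow
      have ht2' : t ≠ 2 := by
        intro h2
        have hodd : Odd (Nat.card G) := hG.1
        have hdvd : t ∣ Nat.card G := htT.trans (Subgroup.card_subgroup_dvd_card T)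
        rw [h2] at hdvd
        exact (Nat.not_even_iff_odd.2 hodd) (even_iff_two_dvd.2 hdvd)
      have hSrank : PRankLE t 1 ↥(S : Subgroup E) :=
        Cfsg.Agent.Helper55.BGB.prankLE_of_injective
          ((Subgroup.inclusion hEM).comp (S : Subgroup E).subtype)
          ((Subgroup.inclusion_injective hEM).comp (Subgroup.subtype_injective _)) hr1M
      have hSc : IsCyclic (S : Subgroup E) :=
        Cfsg.Agent.Helper34.BG.isCyclic_of_pRankLE_one ht2' S.isPGroup' hSrank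
      have hx1 : (x : G) ≠ 1 := by
        intro h1
        have h2 : orderOf (x : G) = 1 := by rw [h1, orderOf_one]
        rw [Subgroup.orderOf_coe, hx] at h2
        exact htp.one_lt.ne' h2
      have hTS : ∀ y ∈ T, y ∈ (S : Subgroup E).map E.subtype := fun y hy =>
        Subgroup.mem_map.2 ⟨⟨y, hTE hy⟩, hS (Subgroup.mem_subgroupOf.2 hy), rfl⟩
      have hS1 : (S : Subgroup E) ≠ ⊥ := by
        intro hbot
        have hmem : (⟨(x : G), hTE hxT⟩ : E) ∈ (S : Subgroup E) :=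
          hS (Subgroup.mem_subgroupOf.2 hxT)
        rw [hbot, Subgroup.mem_bot] at hmem
        exact hx1 (congrArg Subtype.val hmem)
      have h27 := rows.r1427 M hM E hE t S hS1 hSc (x : G) (hTS _ hxT) hx1
      intro y hy
      rw [Subgroup.mem_centralizer_iff]
      intro c hc
      have hc' : c ∈ C := hc
      have hc1 : c ∈ sigmaCore M ⊓ centralizer ({(x : G)} : Set G) := by
        refine Subgroup.mem_inf.2 ⟨hCMs hc', ?_⟩
        rw [Subgroup.mem_centralizer_iff]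
        intro h hh
        rw [Set.mem_singleton_iff] at hh
        rw [hh]
        have hxR : (x : G) ∈ Subgroup.zpowers (x : G) := Subgroup.mem_zpowers _
        exact ((Subgroup.mem_centralizer_iff.1 (hRC hxR)) c hc').symm
      rw [h27] at hc1
      have hc2 := (Subgroup.mem_inf.1 hc1).2
      exact ((Subgroup.mem_centralizer_iff.1 hc2) y (hTS y hy)).symm

end Cfsg.Agent.Helper23.BGCrux
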