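import Mathlib

/-!
Small group-theoretic and counting lemmas used for the Bender-Glauberman chain (S1369):
products of elementwise commuting subgroups, overlap of two large subsets, conjugates of coatoms,
order of `A ⊔ N` for `N` normal with `A ⊓ N = ⊥`, and the final arithmetic contradiction.
-/

set_option autoImplicit false

namespace Cfsg.Agent.Helper23.BGCount

/-- If `A` and `B` commute elementwise then every element of `A ⊔ B` is a product `a * b`. -/
theorem mem_sup_of_commute {G : Type*} [Group G] (A B : Subgroup G)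
    (hcomm : ∀ a ∈ A, ∀ b ∈ B, a * b = b * a) {z : G} (hz : z ∈ A ⊔ B) :
    ∃ a ∈ A, ∃ b ∈ B, z = a * b := by
  let S : Subgroup G :=
    { carrier := {z | ∃ a ∈ A, ∃ b ∈ B, z = a * b}
      one_mem' := ⟨1, A.one_mem, 1, B.one_mem, by simp⟩
      mul_mem' := by
        rintro x y ⟨a, ha, b, hb, rfl⟩ ⟨a', ha', b', hb', rfl⟩
        refine ⟨a * a', A.mul_mem ha ha', b * b', B.mul_mem hb hb', ?_⟩
        have h := hcomm a' ha' b hb
        calc a * b * (a' * b') = a * (b * a') * b' := by group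
          _ = a * (a' * b) * b' := by rw [h]
          _ = a * a' * (b * b') := by group
      inv_mem' := by
        rintro x ⟨a, ha, b, hb, rfl⟩
        refine ⟨a⁻¹, A.inv_mem ha, b⁻¹, B.inv_mem hb, ?_⟩
        have h := hcomm a⁻¹ (A.inv_mem ha) b⁻¹ (B.inv_mem hb)
        rw [mul_inv_rev, h] }
  have hA : A ≤ S := fun a ha => ⟨a, ha, 1, B.one_mem, by simp⟩
  have hB : B ≤ S := fun b hb => ⟨1, A.one_mem, b, hb, by simp⟩
  exact (sup_le hA hB) hz

/-- Two subsets each containing more than half of a finite type meet. -/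
theorem inter_nonempty_of_two_mul_ncard_gt {α : Type*} [Finite α] (A B : Set α)
    (hA : Nat.card α < 2 * A.ncard) (hB : Nat.card α < 2 * B.ncard) : (A ∩ B).Nonempty := by
  by_contra h
  rw [Set.not_nonempty_iff_eq_empty] at h
  have h1 := Set.ncard_union_add_ncard_inter A B
  rw [h, Set.ncard_empty, add_zero] at h1
  have h2 : (A ∪ B).ncard ≤ Nat.card α := by
    rw [← Set.ncard_univ]
    exact Set.ncard_le_ncard (Set.subset_univ _)
  omega

/-- In a product of two elementwise commuting subgroups of coprime orders, an element killed by a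
prime `q` lies in one of the factors. -/
theorem mem_or_mem_of_pow_prime_eq_one {G : Type*} [Group G] [Finite G] (A B : Subgroup G)
    (hcomm : ∀ a ∈ A, ∀ b ∈ B, a * b = b * a)
    (hcop : (Nat.card A).Coprime (Nat.card B)) {q : ℕ} (hq : q.Prime) {w : G}
    (hw : w ∈ A ⊔ B) (hwq : w ^ q = 1) : w ∈ A ∨ w ∈ B := by
  obtain ⟨a, ha, b, hb, rfl⟩ := mem_sup_of_commute A B hcomm hw
  have hab : Commute a b := hcomm a ha b hb
  have hbot : A ⊓ B = ⊥ := (Subgroup.disjoint_of_coprime_natCard hcop).eq_bot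
  rw [hab.mul_pow] at hwq
  have haq : a ^ q ∈ A ⊓ B := by
    refine ⟨A.pow_mem ha q, ?_⟩
    have : a ^ q = (b ^ q)⁻¹ := eq_inv_of_mul_eq_one_left hwq
    rw [this]
    exact B.inv_mem (B.pow_mem hb q)
  rw [hbot, Subgroup.mem_bot] at haq
  have hbq : b ^ q = 1 := by rw [haq, one_mul] at hwq; exact hwq
  by_cases hqA : q ∣ Nat.card A
  · -- then q ∤ |B|, so b = 1
    left
    have hqB : ¬ q ∣ Nat.card B := by
      intro h
      have := Nat.eq_one_of_dvd_coprimes hcop hqA h
      exact hq.one_lt.ne' this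
    have hbc : b ^ Nat.card B = 1 :=
      orderOf_dvd_iff_pow_eq_one.mp (Subgroup.orderOf_dvd_natCard B hb)
    have hg : Nat.gcd q (Nat.card B) = 1 := (Nat.Prime.coprime_iff_not_dvd hq).mpr hqB
    have := pow_gcd_eq_one.mpr ⟨hbq, hbc⟩
    rw [hg, pow_one] at this
    rw [this, mul_one]; exact ha
  · right
    have hac : a ^ Nat.card A = 1 :=
      orderOf_dvd_iff_pow_eq_one.mp (Subgroup.orderOf_dvd_natCard A ha)
    have hg : Nat.gcd q (Nat.card A) = 1 := (Nat.Prime.coprime_iff_not_dvd hq).mpr hqA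
    have := pow_gcd_eq_one.mpr ⟨haq, hac⟩
    rw [hg, pow_one] at this
    rw [this, one_mul]; exact hb

/-- Conjugates of coatoms are coatoms. -/
theorem isCoatom_map_conj {G : Type*} [Group G] {H : Subgroup G} (hH : IsCoatom H) (c : G) :
    IsCoatom (H.map (MulAut.conj c).toMonoidHom) :=
  ((MulAut.conj c).mapSubgroup.isCoatom_iff H).mpr hH

/-- `|A ⊔ N| = |A| |N|` for `N` normal with `A ⊓ N = ⊥`. -/
theorem card_sup_eq_mul_of_normal {X : Type*} [Group X] (A N : Subgroup X) [N.Normal]
    (h : A ⊓ N = ⊥) : Nat.card ↥(A ⊔ N) = Nat.card A * Nat.card N := by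
  have h1 : Nat.card ↥(A ⊔ N) = Nat.card N * N.relIndex (A ⊔ N) := by
    have h2 := Subgroup.card_mul_index (N.subgroupOf (A ⊔ N))
    rw [Nat.card_congr (Subgroup.subgroupOfEquivOfLe (le_sup_right : N ≤ A ⊔ N)).toEquiv] at h2
    exact h2.symm
  rw [h1, Subgroup.relIndex_sup_right, ← Subgroup.inf_relIndex_right, inf_comm, h,
    Subgroup.relIndex_bot_left, mul_comm]

/-- Integer form of the arithmetic behind "M and M* cannot both be of type P1". -/
theorem count_contra_int (k k' s s' i i' N a b c j j' : ℤ) (hk : 2 ≤ k) (hk' : 2 ≤ k')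
    (hN : 0 < N)
    (hi : i * (k * s) = N) (hi' : i' * (k' * s') = N) (hb : b = (s - 1) * i)
    (hc : c = (s' - 1) * i') (ha : k * k' * a = (k - 1) * (k' - 1) * N)
    (hsum : a + b + c ≤ N) (hs : s = k' * j) (hj : 3 ≤ j) (hs' : s' = k * j') (hj' : 3 ≤ j') :
    False := by
  have hkpos : 0 < k := by linarith
  have hk'pos : 0 < k' := by linarith
  have hjpos : 0 < j := by linarith
  have hj'pos : 0 < j' := by linarith
  have hspos : 0 < s := by rw [hs]; exact mul_pos hk'pos hjpos
  have hs'pos : 0 < s' := by rw [hs']; exact mul_pos hkpos hj'pos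
  have hD : 0 < k * k' * s * s' := mul_pos (mul_pos (mul_pos hkpos hk'pos) hspos) hs'pos
  have h1 : (a + b + c) * (k * k' * s * s') ≤ N * (k * k' * s * s') :=
    mul_le_mul_of_nonneg_right hsum hD.le
  have B1 : b * (k * s) = (s - 1) * N := by rw [hb, ← hi]; ring
  have C1 : c * (k' * s') = (s' - 1) * N := by rw [hc, ← hi']; ring
  have ea : a * (k * k' * s * s') = (k - 1) * (k' - 1) * N * s * s' := by
    linear_combination (s * s') * ha
  have eb : b * (k * k' * s * s') = (s - 1) * N * k' * s' := by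
    linear_combination (k' * s') * B1
  have ec : c * (k * k' * s * s') = (s' - 1) * N * k * s := by
    linear_combination (k * s) * C1
  have e : (a + b + c) * (k * k' * s * s')
      = N * (k * k' * s * s') + N * (s * s') - N * (k' * s' + k * s) := by
    rw [add_mul, add_mul, ea, eb, ec]; ring
  have h2 : N * (s * s') ≤ N * (k' * s' + k * s) := by
    rw [e] at h1
    linarith
  have h3 : s * s' ≤ k' * s' + k * s := le_of_mul_le_mul_left h2 hN
  rw [hs, hs'] at h3
  have h4 : (k * k') * (j * j') ≤ (k * k') * (j' + j) := by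
    have e1 : (k * k') * (j * j') = k' * j * (k * j') := by ring
    have e2 : (k * k') * (j' + j) = k' * (k * j') + k * (k' * j) := by ring
    rw [e1, e2]; exact h3
  have h5 : j * j' ≤ j' + j := le_of_mul_le_mul_left h4 (mul_pos hkpos hk'pos)
  nlinarith [mul_nonneg (sub_nonneg.mpr hj) (sub_nonneg.mpr hj')]

/-- The arithmetic behind "M and M* cannot both be of type P1". -/
theorem count_contra (k k' s s' i i' N a b c j j' : ℕ) (hk : 2 ≤ k) (hk' : 2 ≤ k') (hN : 0 < N)
    (hi : i * (k * s) = N) (hi' : i' * (k' * s') = N) (hb : b = (s - 1) * i)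
    (hc : c = (s' - 1) * i') (ha : k * k' * a = (k * k' - k - k' + 1) * N)
    (hsum : a + b + c ≤ N) (hs : s = k' * j) (hj : 3 ≤ j) (hs' : s' = k * j') (hj' : 3 ≤ j') :
    False := by
  have hspos : 1 ≤ s := by rw [hs]; exact Nat.mul_pos (by omega) (by omega)
  have hs'pos : 1 ≤ s' := by rw [hs']; exact Nat.mul_pos (by omega) (by omega)
  have hkk : k + k' ≤ k * k' := by
    obtain ⟨x, rfl⟩ : ∃ x, k = x + 2 := ⟨k - 2, by omega⟩
    obtain ⟨y, rfl⟩ : ∃ y, k' = y + 2 := ⟨k' - 2, by omega⟩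
    have e1 : (x + 2) * (y + 2) = x * y + 2 * x + 2 * y + 4 := by ring
    rw [e1]
    omega
  have hmZ : ((k * k' - k - k' + 1 : ℕ) : ℤ) = ((k : ℤ) - 1) * ((k' : ℤ) - 1) := by
    have h1 : k ≤ k * k' := by omega
    have h2 : k' ≤ k * k' - k := by omega
    rw [Nat.cast_add, Nat.cast_sub h2, Nat.cast_sub h1, Nat.cast_mul, Nat.cast_one]
    ring
  have hsZ : ((s - 1 : ℕ) : ℤ) = (s : ℤ) - 1 := by
    rw [Nat.cast_sub hspos, Nat.cast_one]
  have hs'Z : ((s' - 1 : ℕ) : ℤ) = (s' : ℤ) - 1 := by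
    rw [Nat.cast_sub hs'pos, Nat.cast_one]
  refine count_contra_int (k : ℤ) k' s s' i i' N a b c j j' (by exact_mod_cast hk)
    (by exact_mod_cast hk') (by exact_mod_cast hN) (by exact_mod_cast hi) (by exact_mod_cast hi')
    ?_ ?_ ?_ (by exact_mod_cast hsum) (by exact_mod_cast hs) (by exact_mod_cast hj)
    (by exact_mod_cast hs') (by exact_mod_cast hj')
  · rw [hb, Nat.cast_mul, hsZ]
  · rw [hc, Nat.cast_mul, hs'Z]
  · rw [← hmZ]; exact_mod_cast ha

end Cfsg.Agent.Helper23.BGCount
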