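import Mathlib
import Cfsg.Prelude.Def_OddOrderLocal
import Cfsg.Agent.Lib.Helper23.HallRel
import Cfsg.Agent.Lib.Helper23.BGCount

/-!
Further helpers for S1369: order of `K ⊔ M_σ`, the trivial-complement case of a σ-decomposition,
decomposition of elements of `K K* - (K ∪ K*)`, conjugation bookkeeping and a three-set count.
-/

set_option autoImplicit false

namespace Cfsg.Agent.Helper23.BGCount

open Cfsg

theorem sigmaCore_le' {G : Type*} [Group G] (M : Subgroup G) : Cfsg.sigmaCore M ≤ M := by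
  unfold Cfsg.sigmaCore
  exact Subgroup.map_subtype_le _

theorem sigmaCore_subgroupOf' {G : Type*} [Group G] (M : Subgroup G) :
    (Cfsg.sigmaCore M).subgroupOf M = Cfsg.piCore (Cfsg.sigma M) M := by
  ext x
  rw [Subgroup.mem_subgroupOf]
  unfold Cfsg.sigmaCore
  constructor
  · rintro ⟨y, hy, hyx⟩
    have : y = x := Subtype.ext hyx
    rw [← this]; exact hy
  · intro hx
    exact ⟨x, hx, rfl⟩

/-- `|K M_σ| = |K| |M_σ|` when the orders are coprime. -/
theorem card_sup_sigmaCore {G : Type*} [Group G] [Finite G] (M K : Subgroup G) (hKM : K ≤ M)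
    (hcop : (Nat.card K).Coprime (Nat.card ↥(Cfsg.sigmaCore M))) :
    Nat.card ↥(K ⊔ Cfsg.sigmaCore M) = Nat.card K * Nat.card ↥(Cfsg.sigmaCore M) := by
  have hσM := sigmaCore_le' M
  have hBM : K ⊔ Cfsg.sigmaCore M ≤ M := sup_le hKM hσM
  have hσeq := sigmaCore_subgroupOf' M
  have hB' : (K ⊔ Cfsg.sigmaCore M).subgroupOf M
      = K.subgroupOf M ⊔ Cfsg.piCore (Cfsg.sigma M) M := by
    rw [Subgroup.subgroupOf_sup hKM hσM, hσeq]
  have hcσ : Nat.card ↥(Cfsg.piCore (Cfsg.sigma M) M) = Nat.card ↥(Cfsg.sigmaCore M) := by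
    rw [← hσeq, HallRel.card_subgroupOf_of_le hσM]
  have hcK : Nat.card ↥(K.subgroupOf M) = Nat.card K := HallRel.card_subgroupOf_of_le hKM
  have hdisj : K.subgroupOf M ⊓ Cfsg.piCore (Cfsg.sigma M) M = ⊥ := by
    apply (Subgroup.disjoint_of_coprime_natCard _).eq_bot
    rw [hcK, hcσ]; exact hcop
  rw [← HallRel.card_subgroupOf_of_le hBM, hB', card_sup_eq_mul_of_normal _ _ hdisj, hcK, hcσ]

/-- If the complement `U` in a σ-decomposition is trivial then `M = K M_σ`. -/
theorem sup_sigmaCore_eq_of_bot {G : Type*} [Group G] (M K : Subgroup G)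
    (h : Cfsg.IsSigmaDecomposition M K ⊥) : K ⊔ Cfsg.sigmaCore M = M := by
  obtain ⟨-, hBM, -, hprod⟩ := h.compl
  apply le_antisymm hBM
  intro m hm
  obtain ⟨a, ha, b, hb, rfl⟩ := hprod m hm
  rw [Subgroup.mem_bot] at ha
  rw [ha, one_mul]; exact hb

/-- Elements of `K K* - (K ∪ K*)` are products `x y` with `x ≠ 1`, `y ≠ 1`. -/
theorem exists_mul_of_mem_diff {G : Type*} [Group G] (A B : Subgroup G)
    (hcomm : ∀ a ∈ A, ∀ b ∈ B, a * b = b * a) {z : G}
    (hz : z ∈ ((↑(A ⊔ B) : Set G) \ ((A : Set G) ∪ ↑B))) :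
    ∃ x ∈ A, x ≠ 1 ∧ ∃ y ∈ B, y ≠ 1 ∧ z = x * y := by
  obtain ⟨x, hx, y, hy, rfl⟩ := mem_sup_of_commute A B hcomm hz.1
  refine ⟨x, hx, ?_, y, hy, ?_, rfl⟩
  · rintro rfl
    apply hz.2
    right
    simpa using hy
  · rintro rfl
    apply hz.2
    left
    simpa using hx

theorem eq_map_conj_inv {G : Type*} [Group G] {A B : Subgroup G} {c : G}
    (h : A.map (MulAut.conj c).toMonoidHom = B) :
    A = B.map (MulAut.conj c⁻¹).toMonoidHom := by
  subst h
  ext v
  rw [HallRel.mem_map_conj, HallRel.mem_map_conj]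
  have : c⁻¹ * (c⁻¹⁻¹ * v * c⁻¹) * c = v := by group
  rw [this]

theorem map_conj_eq_self_of_mem {G : Type*} [Group G] (M : Subgroup G) {g : G} (hg : g ∈ M) :
    M.map (MulAut.conj g).toMonoidHom = M := by
  ext x
  rw [HallRel.mem_map_conj, M.mul_mem_cancel_right hg, M.mul_mem_cancel_left (M.inv_mem hg)]

/-- Three pairwise disjoint subsets of a finite type. -/
theorem ncard_add_le_of_disjoint {α : Type*} [Finite α] (A B C : Set α) (hAB : Disjoint A B)
    (hAC : Disjoint A C) (hBC : Disjoint B C) : A.ncard + B.ncard + C.ncard ≤ Nat.card α := by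
  have h1 : (A ∪ B).ncard = A.ncard + B.ncard := Set.ncard_union_eq hAB
  have h2 : ((A ∪ B) ∪ C).ncard = (A ∪ B).ncard + C.ncard :=
    Set.ncard_union_eq (Set.disjoint_union_left.mpr ⟨hAC, hBC⟩)
  rw [← h1, ← h2, ← Set.ncard_univ]
  exact Set.ncard_le_ncard (Set.subset_univ _)

/-- A proper subgroup of odd-order overgroup has relative index at least 3. -/
theorem three_le_relIndex {G : Type*} [Group G] [Finite G] (hodd : Odd (Nat.card G))
    {A B : Subgroup G} (hAB : A ≤ B) (hne : A ≠ B) : 3 ≤ A.relIndex B := by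
  have h1 : A.relIndex B ≠ 1 := by
    intro h
    rw [Subgroup.relIndex_eq_one] at h
    exact hne (le_antisymm hAB h)
  have h0 : A.relIndex B ≠ 0 := by
    have := HallRel.card_eq_card_mul_relIndex hAB
    intro h
    rw [h, mul_zero] at this
    exact (Nat.card_pos (α := B)).ne' this
  have hdvd : A.relIndex B ∣ Nat.card G :=
    dvd_trans (Subgroup.relIndex_dvd_card A B) (Subgroup.card_subgroup_dvd_card B)
  have hoddj : Odd (A.relIndex B) := Odd.of_dvd_nat hodd hdvd
  have h2 : A.relIndex B ≠ 2 := by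
    intro h
    rw [h] at hoddj
    exact (by decide : ¬ Odd 2) hoddj
  omega

/-- A nontrivial finite subgroup has order at least 2. -/
theorem two_le_card_of_ne_bot {G : Type*} [Group G] [Finite G] {A : Subgroup G} (h : A ≠ ⊥) :
    2 ≤ Nat.card A := by
  have h1 : Nat.card A ≠ 1 := fun h' => h (Subgroup.card_eq_one.mp h')
  have h0 : 0 < Nat.card A := Nat.card_pos
  omega

/-- A nontrivial finite subgroup contains an element of prime order. -/
theorem exists_prime_orderOf_of_ne_bot {G : Type*} [Group G] [Finite G] {A : Subgroup G}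
    (h : A ≠ ⊥) : ∃ q : ℕ, q.Prime ∧ q ∣ Nat.card A ∧ ∃ w ∈ A, orderOf w = q := by
  have h1 : Nat.card A ≠ 1 := fun h' => h (Subgroup.card_eq_one.mp h')
  obtain ⟨q, hq, hqd⟩ := Nat.exists_prime_and_dvd h1
  have : Fact q.Prime := ⟨hq⟩
  obtain ⟨w0, hw0⟩ := exists_prime_orderOf_dvd_card' (G := A) q hqd
  exact ⟨q, hq, hqd, (w0 : G), w0.2, by rw [Subgroup.orderOf_coe]; exact hw0⟩

end Cfsg.Agent.Helper23.BGCount
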