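import Mathlib
import Cfsg.Prelude.Def_OddOrderLocal
import Cfsg.Agent.S1430
import Cfsg.Agent.Lib.Helper66.HallConj
import Cfsg.Agent.Lib.Helper23.BGCount2

/-!
`K* = C_{M_σ}(K) ≠ 1` for a nontrivial Hall `κ(M)`-subgroup `K` of `M`, from S1430(1) and the
definition of `κ(M)` (no cyclicity of `K` needed).
-/

set_option autoImplicit false

namespace Cfsg.Agent.Helper23.BGCount

open Cfsg

theorem kstar_ne_bot {G : Type*} [Group G] [Finite G] (hG : Cfsg.IsMinSimpleOddOrder G)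
    (M : Subgroup G) (hM : IsCoatom M) (K : Subgroup G)
    (hK : Cfsg.IsPiHallOf (Cfsg.kappa M) K M) (hK1 : K ≠ ⊥) :
    Cfsg.sigmaCore M ⊓ Subgroup.centralizer (K : Set G) ≠ ⊥ := by
  classical
  obtain ⟨p, hp, hpd, -⟩ := exists_prime_orderOf_of_ne_bot hK1
  have hpκ := hK.2.1 p hp hpd
  have : Fact p.Prime := ⟨hp⟩
  have hidx : ¬ p ∣ (K.subgroupOf M).index := hK.2.2 p hp hpκ
  have Q : Sylow p ↥(K.subgroupOf M) := default
  have hcard := Cfsg.Agent.Helper66.card_sylow_map_of_not_dvd_index p (K.subgroupOf M) hidx Q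
  obtain ⟨-, x, hxP, hx1, y, hy, hy1, hxy⟩ := hpκ.2.2.2 (Sylow.ofCard _ hcard)
  have hxK : (x : G) ∈ K := by
    have h1 : x ∈ (Q : Subgroup ↥(K.subgroupOf M)).map (K.subgroupOf M).subtype := hxP
    have h2 := Subgroup.map_subtype_le _ h1
    exact Subgroup.mem_subgroupOf.mp h2
  have hx1' : (x : G) ≠ 1 := fun h => hx1 (Subtype.ext h)
  have h := (Cfsg.Agent.S1430.result hG M hM K hK hK1).1 (x : G) hxK hx1'
  intro hbot
  rw [hbot] at h
  have hmem : y ∈ Cfsg.sigmaCore M ⊓ Subgroup.centralizer ({(x : G)} : Set G) := by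
    refine Subgroup.mem_inf.mpr ⟨hy, ?_⟩
    rw [Subgroup.mem_centralizer_iff]
    intro z hz
    rw [Set.mem_singleton_iff] at hz
    rw [hz]; exact hxy
  rw [h, Subgroup.mem_bot] at hmem
  exact hy1 hmem

end Cfsg.Agent.Helper23.BGCount
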