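import Mathlib
import Cfsg.Agent.Lib.Helper2.SS0
import Cfsg.Agent.Lib.Helper12.SSY1
import Cfsg.Agent.Lib.Helper12.SSY3
import Cfsg.Agent.Lib.Helper58.SSG1

/-!
# SS project (helper2, S2411): piece (Y12a) `seed_odd` (helper23)
-/

set_option autoImplicit false
set_option linter.unusedSectionVars false

namespace Cfsg.Agent.Helper23.SS

open Matrix Cfsg Cfsg.Agent.Helper13 Cfsg.Agent.Helper84.SpRoot Cfsg.Agent.Helper5.SpAut
open Cfsg.Agent.Helper2.SR Cfsg.Agent.Helper2.SS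

section Y
variable {F : Type*} [Field F] {m : ℕ}

/-- (Y12a) odd characteristic.  `e_1 = c e_0` and `y d = - e_1 + 2 e_0` (Y4, `t = 0`) are in the orbit,
so `sympT e_1 κ` and `sympT (e_1 + (-2) • e_0) κ = sympT (y d) κ` are in `H` (`conj_sympT`,
`sympT_smul` with `a = -1`); G1 gives `(κ * (-2)) • e_1 ∈ QQ`.  Uses Y2 Y3 Y4 G1. -/
theorem seed_odd {H : Subgroup (Matrix.symplecticGroup (Fin (m + 2)) F)} {ξ κ : F}
    (h2 : (2 : F) ≠ 0) (hc : cEl m F ∈ H) (hy : yEl 2 1 ξ ∈ H)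
    (hκ : sympT (be (m := m) 0) κ ∈ H) (hκ0 : κ ≠ 0) :
    ∃ a : F, a ≠ 0 ∧ a • be 1 ∈ QQ H (be (m := m) 0) := by
  have hce0 : (cEl m F).val *ᵥ be 0 = be 1 :=
    (Cfsg.Agent.Helper12.SS.c_act (m := m) (F := F)).1 0 1 (by simp)
  have hye1 : (yEl (m := m) 2 1 ξ).val *ᵥ be 1 = dV 2 1 ξ :=
    (Cfsg.Agent.Helper12.SS.y_act (m := m) 2 1 ξ).2.1
  have hyd : (yEl (m := m) 2 1 ξ).val *ᵥ dV 2 1 ξ =
      (0 : F) • dV 2 1 ξ - be 1 + ((2 : F) - 0) • be 0 :=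
    Cfsg.Agent.Helper12.SS.y_d (m := m) 2 1 ξ 0 (by ring)
  -- `sympT e_1 κ ∈ H`
  have hT1 : sympT (be (m := m) 1) κ ∈ H := by
    rw [← hce0, ← conj_sympT]
    exact H.mul_mem (H.mul_mem hc hκ) (H.inv_mem hc)
  -- `sympT (y d) κ ∈ H`
  have hg : yEl (m := m) 2 1 ξ * yEl 2 1 ξ * cEl m F ∈ H := H.mul_mem (H.mul_mem hy hy) hc
  have hact : (yEl (m := m) 2 1 ξ * yEl 2 1 ξ * cEl m F).val *ᵥ be 0 =
      (-1 : F) • (be 1 + (-2 : F) • be 0) := by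
    rw [mul_act, mul_act, hce0, hye1, hyd]
    module
  have hT2 : sympT (be (m := m) 1 + (-2 : F) • be 0) κ ∈ H := by
    have h3 : sympT ((-1 : F) • (be (m := m) 1 + (-2 : F) • be 0)) κ ∈ H := by
      rw [← hact, ← conj_sympT]
      exact H.mul_mem (H.mul_mem hg hκ) (H.inv_mem hg)
    rw [sympT_smul] at h3
    have h4 : κ * (-1 : F) ^ 2 = κ := by ring
    rw [h4] at h3
    exact h3
  have hv : Cfsg.sympForm (m + 2) F (be (m := m) 1) (be 0) = 0 :=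
    Cfsg.Agent.Helper12.SS.h12_ee 1 0
  refine ⟨κ * (-2), mul_ne_zero hκ0 (neg_ne_zero.2 h2), ?_⟩
  exact Cfsg.Agent.Helper58.SS.seed_gen hv hT2 hT1

end Y

end Cfsg.Agent.Helper23.SS
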