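import Mathlib

set_option autoImplicit false

namespace Cfsg.Agent.Helper23

open scoped BigOperators

/-- Averaging (injectivity of restriction to a Sylow subgroup on `H¹`): let `V` be a normal abelian subgroup of
exponent `p`, `P ≤ K` with `p ∤ |K : P|`, `v ∈ C_V(P)`. If all `[v, d]` (`d ∈ K`) lie in a subgroup `W₀ ≤ V` whose
`P`-fixed points are `K`-fixed, then `v` is `K`-fixed. -/
theorem fixed_of_sylow_fixed {G : Type*} [Group G] [Finite G] {p : ℕ} [hp : Fact p.Prime]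
    (V : Subgroup G) [hVn : V.Normal] (hVc : ∀ a ∈ V, ∀ b ∈ V, a * b = b * a)
    (hVp : ∀ a ∈ V, a ^ p = 1)
    (K P : Subgroup G) (hPK : P ≤ K) (hidx : ¬ p ∣ P.relIndex K)
    (W₀ : Subgroup G)
    (v : G) (hv : v ∈ V) (hvP : ∀ t ∈ P, t * v * t⁻¹ = v)
    (hW₀ : ∀ d ∈ K, v * (d * v * d⁻¹)⁻¹ ∈ W₀)
    (hfix : ∀ w ∈ W₀, w ∈ V → (∀ t ∈ P, t * w * t⁻¹ = w) → ∀ d ∈ K, d * w * d⁻¹ = w) :
    ∀ d ∈ K, d * v * d⁻¹ = v := by
  classical
  let _ : CommGroup ↥V :=
    { (inferInstance : Group ↥V) with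
      mul_comm := fun a b => Subtype.ext (hVc a a.2 b b.2) }
  let _ : Fintype (↥K ⧸ P.subgroupOf K) := Fintype.ofFinite _
  -- the conjugate of v by d
  let f : ↥K → ↥V := fun d => ⟨(d : G) * v * (d : G)⁻¹, hVn.conj_mem v hv d⟩
  have hf : ∀ d t : ↥K, (t : G) ∈ P → f (d * t) = f d := by
    intro d t ht
    apply Subtype.ext
    show ((d * t : ↥K) : G) * v * ((d * t : ↥K) : G)⁻¹ = (d : G) * v * (d : G)⁻¹
    have := hvP t ht
    calc ((d * t : ↥K) : G) * v * ((d * t : ↥K) : G)⁻¹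
        = (d : G) * ((t : G) * v * (t : G)⁻¹) * (d : G)⁻¹ := by
          simp only [Subgroup.coe_mul]; group
      _ = (d : G) * v * (d : G)⁻¹ := by rw [this]
  let F : (↥K ⧸ P.subgroupOf K) → ↥V := fun q => f q.out
  have hF : ∀ d : ↥K, F (QuotientGroup.mk d) = f d := by
    intro d
    obtain ⟨t, ht⟩ := QuotientGroup.mk_out_eq_mul (P.subgroupOf K) d
    show f (QuotientGroup.mk d : ↥K ⧸ P.subgroupOf K).out = f d
    rw [ht]
    exact hf d t t.2
  set u : ↥V := ∏ q : (↥K ⧸ P.subgroupOf K), F q with hu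
  -- invariance of u
  have hconjF : ∀ (e : ↥K) (q : ↥K ⧸ P.subgroupOf K),
      MulAut.conjNormal (H := V) (e : G) (F q) = F (e • q) := by
    intro e q
    have hq : e • q = QuotientGroup.mk (e * q.out) := by
      conv_lhs => rw [← QuotientGroup.out_eq' q]
      rfl
    rw [hq, hF]
    apply Subtype.ext
    rw [MulAut.conjNormal_apply]
    show (e : G) * ((q.out : G) * v * (q.out : G)⁻¹) * (e : G)⁻¹ =
      ((e * q.out : ↥K) : G) * v * ((e * q.out : ↥K) : G)⁻¹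
    simp only [Subgroup.coe_mul]; group
  have huinv : ∀ e : ↥K, MulAut.conjNormal (H := V) (e : G) u = u := by
    intro e
    rw [hu, map_prod]
    simp_rw [hconjF e]
    exact Fintype.prod_equiv (MulAction.toPerm e) _ _ (fun _ => rfl)
  -- the difference
  set n := Fintype.card (↥K ⧸ P.subgroupOf K) with hn
  have hncard : n = P.relIndex K := by
    rw [hn, Subgroup.relIndex, Subgroup.index, Nat.card_eq_fintype_card]
  have hdiff : (⟨v, hv⟩ : ↥V) ^ n * u⁻¹ = ∏ q : (↥K ⧸ P.subgroupOf K), (⟨v, hv⟩ * (F q)⁻¹) := by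
    rw [Finset.prod_mul_distrib, Finset.prod_inv_distrib, Finset.prod_const, Finset.card_univ]
  have hwW : ((⟨v, hv⟩ : ↥V) ^ n * u⁻¹ : ↥V) ∈ W₀.subgroupOf V := by
    rw [hdiff]
    apply Subgroup.prod_mem
    intro q _
    rw [Subgroup.mem_subgroupOf]
    show v * ((q.out : G) * v * (q.out : G)⁻¹)⁻¹ ∈ W₀
    exact hW₀ _ q.out.2
  set w : ↥V := (⟨v, hv⟩ : ↥V) ^ n * u⁻¹ with hw
  have hwP : ∀ t ∈ P, t * (w : G) * t⁻¹ = (w : G) := by
    intro t ht
    have h1 : MulAut.conjNormal (H := V) t (⟨v, hv⟩ : ↥V) = ⟨v, hv⟩ := by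
      apply Subtype.ext
      rw [MulAut.conjNormal_apply]
      exact hvP t ht
    have h2 := huinv ⟨t, hPK ht⟩
    have h3 : MulAut.conjNormal (H := V) t w = w := by
      rw [hw, map_mul, map_pow, map_inv, h1]
      rw [show MulAut.conjNormal (H := V) t u = u from h2]
    have := congrArg Subtype.val h3
    rwa [MulAut.conjNormal_apply] at this
  have hwK := hfix (w : G) hwW w.2 hwP
  intro d hd
  -- v^n is K-fixed
  have h1 : MulAut.conjNormal (H := V) d w = w := by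
    apply Subtype.ext
    rw [MulAut.conjNormal_apply]
    exact hwK d hd
  have h2 : MulAut.conjNormal (H := V) d u = u := huinv ⟨d, hd⟩
  have hvn : (⟨v, hv⟩ : ↥V) ^ n = w * u := by rw [hw]; group
  have h3 : MulAut.conjNormal (H := V) d ((⟨v, hv⟩ : ↥V) ^ n) = (⟨v, hv⟩ : ↥V) ^ n := by
    rw [hvn, map_mul, h1, h2]
  rw [map_pow] at h3
  set v' : ↥V := MulAut.conjNormal (H := V) d (⟨v, hv⟩ : ↥V) with hv'
  have hx : (v' * (⟨v, hv⟩ : ↥V)⁻¹) ^ n = 1 := by
    rw [mul_pow, h3, inv_pow, mul_inv_cancel]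
  have hxp : (v' * (⟨v, hv⟩ : ↥V)⁻¹) ^ p = 1 := Subtype.ext (hVp _ (v' * (⟨v, hv⟩ : ↥V)⁻¹).2)
  have hgcd : Nat.gcd n p = 1 := by
    rw [hncard]
    exact ((Nat.Prime.coprime_iff_not_dvd hp.out).mpr hidx).symm
  have hx1 : v' * (⟨v, hv⟩ : ↥V)⁻¹ = 1 := by
    have := pow_gcd_eq_one.mpr ⟨hx, hxp⟩
    rwa [hgcd, pow_one] at this
  have : v' = ⟨v, hv⟩ := mul_inv_eq_one.mp hx1
  have := congrArg Subtype.val this
  rwa [hv', MulAut.conjNormal_apply] at this

end Cfsg.Agent.Helper23
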