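import Mathlib
import Cfsg.Prelude.Def_OddOrder
import Cfsg.Prelude.Def_OddOrderLocal
import Cfsg.Agent.Lib.Helper23.BG142L127
import Cfsg.Agent.S1409
import Cfsg.Agent.S1415
import Cfsg.Agent.S1417

/-!
# BG142 request (Q5) of `tools/bg142_sigs_helper54.lean.txt` (helper23): statement verbatim

Rows S1409, S1415, S1417 are imported (S1417 EARLY).  The hypothesis-parametrised core is
`Cfsg.Agent.Helper23.BG142.tau3_normal_and_fix_bot_of`.
-/

set_option autoImplicit false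
set_option linter.unusedSectionVars false
set_option linter.style.haveILetI false

namespace Cfsg.Agent.Helper23.BG142Req

open Subgroup

variable {G : Type*} [Group G] [Finite G]

/-- (L1) in full: `Y ⊴ E` and `C_{M_σ}(Y) = 1` when `τ₂(M) ≠ ∅`, `s ∈ τ₃(M)`. -/
theorem tau3_normal_and_fix_bot (hG : Cfsg.IsMinSimpleOddOrder G) (M : Subgroup G)
    (hM : IsCoatom M) (E : Subgroup G) (hE : Cfsg.IsComplIn E (Cfsg.sigmaCore M) M) {r s : ℕ}
    (hr : r ∈ Cfsg.tau2 M) (hs : s ∈ Cfsg.tau3 M) (Y : Subgroup G) (hYE : Y ≤ E)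
    (hY : Nat.card Y = s) :
    E ≤ normalizer (Y : Set G) ∧ Cfsg.sigmaCore M ⊓ centralizer (Y : Set G) = ⊥ := by
  haveI : Fact r.Prime := ⟨hr.1⟩
  haveI : Fact s.Prime := ⟨hs.1⟩
  exact Cfsg.Agent.Helper23.BG142.tau3_normal_and_fix_bot_of hG hM hE hr hs
    (fun X hX hN => ((Cfsg.Agent.S1409.result hG M hM s hs.2.1 X hX hN).1).2)
    ((Cfsg.Agent.S1415.result hG M hM E hE).2.2)
    (fun A hA => (Cfsg.Agent.S1417.result hG M hM r hr A hA).2.2.2.2.1) hYE hY

/-- (Q5) = (L1): if a subgroup of order s in tau3(M) of E has a fixed point on M_sigma then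
tau2(M) is empty. -/
theorem tau2_eq_empty_of_tau3_fixed (hG : Cfsg.IsMinSimpleOddOrder G) (M : Subgroup G)
    (hM : IsCoatom M) (E : Subgroup G) (hE : Cfsg.IsComplIn E (Cfsg.sigmaCore M) M) (s : ℕ)
    (hs : s ∈ Cfsg.tau3 M) (Y : Subgroup G) (hYE : Y ≤ E) (hY : Nat.card Y = s)
    (hC : Cfsg.sigmaCore M ⊓ centralizer (Y : Set G) ≠ ⊥) :
    Cfsg.tau2 M = ∅ := by
  rw [Set.eq_empty_iff_forall_notMem]
  intro r hr
  exact hC (tau3_normal_and_fix_bot hG M hM E hE hr hs Y hYE hY).2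

end Cfsg.Agent.Helper23.BG142Req
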