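import Mathlib
import Cfsg.Prelude.Def_OddOrder
import Cfsg.Prelude.Def_OddOrderLocal
import Cfsg.Agent.Lib.Helper23.BG142L127

/-!
# BG142 request (Q8) of `tools/bg142_sigs_helper54.lean.txt` (helper23): statement verbatim
-/

set_option autoImplicit false
set_option linter.unusedSectionVars false
set_option linter.style.haveILetI false

namespace Cfsg.Agent.Helper23.BG142Req

open Subgroup

variable {G : Type*} [Group G] [Finite G]

/-- (Q8) = (L7) pure: normalizers of subgroups of a complement. -/
theorem inf_normalizer_eq_sup (M E N X : Subgroup G) (hE : Cfsg.IsComplIn E N M)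
    (hN : M ≤ normalizer (N : Set G)) (hXE : X ≤ E) :
    M ⊓ normalizer (X : Set G) = (E ⊓ normalizer (X : Set G)) ⊔ (N ⊓ centralizer (X : Set G)) := by
  apply le_antisymm
  · rintro n ⟨hnM, hnX⟩
    obtain ⟨e, he, s, hs, rfl, hsC, heN⟩ :=
      Cfsg.Agent.Helper23.BG142.normalizer_decomp hE hN hXE hnM hnX
    exact Subgroup.mul_mem_sup ⟨he, heN⟩ ⟨hs, hsC⟩
  · apply sup_le
    · exact inf_le_inf_right _ hE.1
    · exact inf_le_inf hE.2.1 (Subgroup.centralizer_le_normalizer _)

end Cfsg.Agent.Helper23.BG142Req
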