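import Mathlib
import Cfsg.Prelude.Def_OddOrderLocal
import Cfsg.Agent.S1350
import Cfsg.Agent.S1351
import Cfsg.Agent.S1352
import Cfsg.Agent.S1366
import Cfsg.Agent.S1367
import Cfsg.Agent.S1434
import Cfsg.Agent.Lib.Helper23.HallRel
import Cfsg.Agent.Lib.Helper23.BGCount
import Cfsg.Agent.Lib.Helper23.BGCount2
import Cfsg.Agent.Lib.Helper23.BGKstar

/-!
Second half of S1369 (B-G Thm 14.7): every maximal subgroup `H` with `κ(H) ≠ ∅` is conjugate to
`M` or to `M*`.  Uses S1350, S1351, S1352, S1366, S1367, S1430 (via `kstar_ne_bot`), S1434.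
Does NOT use S1377/S1379/S1431, so S1379 may import this file.
-/

set_option autoImplicit false

namespace Cfsg.Agent.Helper23.BG147

open Cfsg Cfsg.Agent.Helper23

theorem claim2 {G : Type*} [Group G] [Finite G] (hG : Cfsg.IsMinSimpleOddOrder G)
    (M : Subgroup G) (hM : IsCoatom M) (K U : Subgroup G) (hKU : Cfsg.IsSigmaDecomposition M K U) (hK1 : K ≠ ⊥) (Mstar : Subgroup G) (hMstar : IsCoatom Mstar)
    (hKst : K = Cfsg.sigmaCore Mstar ⊓ Subgroup.centralizer ((Cfsg.sigmaCore M ⊓ Subgroup.centralizer (K : Set G)) : Set G))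
    (hKstH : Cfsg.IsPiHallOf (Cfsg.kappa Mstar) (Cfsg.sigmaCore M ⊓ Subgroup.centralizer (K : Set G)) Mstar) :
    ∀ H : Subgroup G, IsCoatom H → (Cfsg.kappa H).Nonempty →
        ∃ g : G, H = M.map (MulAut.conj g).toMonoidHom ∨ H = Mstar.map (MulAut.conj g).toMonoidHom := by
  classical
  have hKst' : K = Cfsg.sigmaCore Mstar ⊓ Subgroup.centralizer
      (((Cfsg.sigmaCore M ⊓ Subgroup.centralizer (K : Set G) : Subgroup G)) : Set G) := hKst
  -- basic facts about (M, K, K*)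
  obtain ⟨hKM, hKκ, hKidx⟩ := hKU.hall
  obtain ⟨⟨hσM, hσp, -⟩, -, -⟩ := Cfsg.Agent.S1350.result hG M hM
  obtain ⟨⟨hσMs, hσps, -⟩, -, -⟩ := Cfsg.Agent.S1350.result hG Mstar hMstar
  have hKs1 : Cfsg.sigmaCore M ⊓ Subgroup.centralizer (K : Set G) ≠ ⊥ :=
    BGCount.kstar_ne_bot hG M hM K hKU.hall hK1
  have hcomm : ∀ a ∈ K, ∀ b ∈ (Cfsg.sigmaCore M ⊓ Subgroup.centralizer (K : Set G)),
      a * b = b * a := fun a ha b hb => (Subgroup.mem_centralizer_iff.mp hb.2) a ha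
  have hKsσ : Cfsg.sigmaCore M ⊓ Subgroup.centralizer (K : Set G) ≤ Cfsg.sigmaCore M := inf_le_left
  have hcopKσ : (Nat.card K).Coprime (Nat.card ↥(Cfsg.sigmaCore M)) := by
    apply Nat.coprime_of_dvd
    intro p hp h1 h2
    exact (hKκ p hp h1).2.2.1 (hσp p hp h2)
  have hcopKKs : (Nat.card K).Coprime
      (Nat.card ↥(Cfsg.sigmaCore M ⊓ Subgroup.centralizer (K : Set G))) :=
    Nat.Coprime.coprime_dvd_right (Subgroup.card_dvd_of_le hKsσ) hcopKσ
  obtain ⟨-, -, hcentM, -, -, hhalfM⟩ :=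
    Cfsg.Agent.S1434.result hG M hM K U hKU hK1 Mstar hMstar hKst hKstH
  obtain ⟨hX1, hX2⟩ := Cfsg.Agent.S1367.result hG M hM K U hKU hK1 Mstar hMstar hKst hKstH
  intro H hH hκH
  obtain ⟨⟨KH, hKH⟩, hKHc⟩ := Cfsg.Agent.S1351.result hG H hH
  have hKHcyc : IsCyclic KH := hKHc KH hKH
  have hKH1 : KH ≠ ⊥ := by
    intro h
    obtain ⟨p, hp⟩ := hκH
    have h1 := hKH.2.2 p hp.1 hp
    rw [h, Subgroup.relIndex_bot_left] at h1
    exact h1 hp.2.1
  obtain ⟨⟨UH, hUH⟩, -⟩ := Cfsg.Agent.S1352.result hG H hH KH hKHcyc hKH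
  obtain ⟨Hs, ⟨hHs, hKHst, hKHstH⟩, -⟩ := Cfsg.Agent.S1366.result hG H hH KH UH hUH hKH1
  obtain ⟨-, -, hcentH, -, -, hhalfH⟩ :=
    Cfsg.Agent.S1434.result hG H hH KH UH hUH hKH1 Hs hHs hKHst hKHstH
  obtain ⟨hY1, -⟩ := Cfsg.Agent.S1367.result hG H hH KH UH hUH hKH1 Hs hHs hKHst hKHstH
  have hKHs1 : Cfsg.sigmaCore H ⊓ Subgroup.centralizer (KH : Set G) ≠ ⊥ :=
    BGCount.kstar_ne_bot hG H hH KH hKH hKH1
  have hcommH : ∀ a ∈ KH, ∀ b ∈ (Cfsg.sigmaCore H ⊓ Subgroup.centralizer (KH : Set G)),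
      a * b = b * a := fun a ha b hb => (Subgroup.mem_centralizer_iff.mp hb.2) a ha
  obtain ⟨a, haM, haH⟩ := BGCount.inter_nonempty_of_two_mul_ncard_gt _ _ hhalfM hhalfH
  obtain ⟨g, z, hz, rfl⟩ := haM
  obtain ⟨g', z', hz', hEq⟩ := haH
  have hzc : z = (g⁻¹ * g') * z' * (g⁻¹ * g')⁻¹ := by
    calc z = g⁻¹ * (g * z * g⁻¹) * g := by group
      _ = g⁻¹ * (g' * z' * g'⁻¹) * g := by rw [hEq]
      _ = (g⁻¹ * g') * z' * (g⁻¹ * g')⁻¹ := by group
  generalize g⁻¹ * g' = c at hzc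
  obtain ⟨x, hx, hx1, y, hy, hy1, hzxy⟩ := BGCount.exists_mul_of_mem_diff K _ hcomm hz
  obtain ⟨x', hx', hx'1, y', hy', hy'1, hzxy'⟩ := BGCount.exists_mul_of_mem_diff KH _ hcommH hz'
  have hCz : Subgroup.centralizer ({z} : Set G)
      = K ⊔ (Cfsg.sigmaCore M ⊓ Subgroup.centralizer (K : Set G)) := by
    rw [hzxy]; exact (hcentM x hx hx1 y hy hy1).2.2
  have hCz' : Subgroup.centralizer ({z'} : Set G)
      = KH ⊔ (Cfsg.sigmaCore H ⊓ Subgroup.centralizer (KH : Set G)) := by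
    rw [hzxy']; exact (hcentH x' hx' hx'1 y' hy' hy'1).2.2
  obtain ⟨q, hq, -, w', hw', hw'q⟩ := BGCount.exists_prime_orderOf_of_ne_bot hKHs1
  have : Fact q.Prime := ⟨hq⟩
  have hw'1 : w' ≠ 1 := by
    rintro rfl
    rw [orderOf_one] at hw'q
    exact hq.one_lt.ne hw'q
  have hw'z' : z' * w' = w' * z' := by
    have h : w' ∈ Subgroup.centralizer ({z'} : Set G) := by
      rw [hCz']; exact Subgroup.mem_sup_right hw'
    exact (Subgroup.mem_centralizer_iff.mp h) z' rfl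
  have hwz : c * w' * c⁻¹ ∈ Subgroup.centralizer ({z} : Set G) := by
    rw [Subgroup.mem_centralizer_iff]
    intro h hh
    rw [Set.mem_singleton_iff] at hh
    rw [hh, hzc]
    calc c * z' * c⁻¹ * (c * w' * c⁻¹) = c * (z' * w') * c⁻¹ := by group
      _ = c * (w' * z') * c⁻¹ := by rw [hw'z']
      _ = c * w' * c⁻¹ * (c * z' * c⁻¹) := by group
  rw [hCz] at hwz
  have hwq : (c * w' * c⁻¹) ^ q = 1 := by
    rw [conj_pow, ← hw'q, pow_orderOf_eq_one]; group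
  have hw1 : c * w' * c⁻¹ ≠ 1 := by
    intro h
    apply hw'1
    have : w' = c⁻¹ * (c * w' * c⁻¹) * c := by group
    rw [this, h]; group
  have hXcard : (Nat.card (Subgroup.zpowers (c * w' * c⁻¹))).Prime := by
    rw [Nat.card_zpowers, orderOf_eq_prime hwq hw1]; exact hq
  have hX'card : (Nat.card (Subgroup.zpowers w')).Prime := by
    rw [Nat.card_zpowers, hw'q]; exact hq
  have hX'le : Subgroup.zpowers w' ≤ Cfsg.sigmaCore H ⊓ Subgroup.centralizer (KH : Set G) :=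
    (Subgroup.zpowers_le).mpr hw'
  have hCX'H : Subgroup.centralizer ((Subgroup.zpowers w' : Subgroup G) : Set G) ≤ H :=
    (hY1 _ hX'le hX'card).1
  have hL : IsCoatom (H.map (MulAut.conj c).toMonoidHom) := BGCount.isCoatom_map_conj hH c
  have hCL : Subgroup.centralizer ((Subgroup.zpowers (c * w' * c⁻¹) : Subgroup G) : Set G)
      ≤ H.map (MulAut.conj c).toMonoidHom := by
    intro u hu
    rw [HallRel.mem_map_conj]
    apply hCX'H
    have huw : (c * w' * c⁻¹) * u = u * (c * w' * c⁻¹) :=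
      (Subgroup.mem_centralizer_iff.mp hu) _ (Subgroup.mem_zpowers _)
    have hcm : Commute w' (c⁻¹ * u * c) := by
      show w' * (c⁻¹ * u * c) = c⁻¹ * u * c * w'
      calc w' * (c⁻¹ * u * c) = c⁻¹ * ((c * w' * c⁻¹) * u) * c := by group
        _ = c⁻¹ * (u * (c * w' * c⁻¹)) * c := by rw [huw]
        _ = c⁻¹ * u * c * w' := by group
    rw [Subgroup.mem_centralizer_iff]
    intro h hh
    obtain ⟨n, rfl⟩ := Subgroup.mem_zpowers_iff.mp hh
    exact (hcm.zpow_left n).eq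
  refine ⟨c⁻¹, ?_⟩
  rcases BGCount.mem_or_mem_of_pow_prime_eq_one K _ hcomm hcopKKs hq hwz hwq with hwK | hwKs
  · right
    have hXle : Subgroup.zpowers (c * w' * c⁻¹) ≤ K := (Subgroup.zpowers_le).mpr hwK
    exact BGCount.eq_map_conj_inv ((hX2 _ hXle hXcard).2 _ hL hCL)
  · left
    have hXle : Subgroup.zpowers (c * w' * c⁻¹)
        ≤ Cfsg.sigmaCore M ⊓ Subgroup.centralizer (K : Set G) := (Subgroup.zpowers_le).mpr hwKs
    exact BGCount.eq_map_conj_inv ((hX1 _ hXle hXcard).2 _ hL hCL)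

end Cfsg.Agent.Helper23.BG147
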