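import Mathlib
import Cfsg.Prelude.Def_OddOrderLocal
import Cfsg.Agent.S1350
import Cfsg.Agent.S1377
import Cfsg.Agent.S1379
import Cfsg.Agent.S1431
import Cfsg.Agent.S1434
import Cfsg.Agent.Lib.Helper23.HallRel
import Cfsg.Agent.Lib.Helper23.BGCount
import Cfsg.Agent.Lib.Helper23.BGCount2
import Cfsg.Agent.Lib.Helper23.BGKstar

/-!
First half of S1369 (B-G Thm 14.7): `M` and `M*` are not both of "type P1" (`U = 1 = U*`), by the
counting argument `|Ẑ^G| + |M~| + |M*~| ≤ |G|`.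
Uses S1350, S1377, S1379 (disjointness conjuncts (1) and (3b) only), S1430 (via `kstar_ne_bot`),
S1431, S1434.  Does NOT use S1351/S1352/S1366/S1367.
-/

set_option autoImplicit false

namespace Cfsg.Agent.Helper23.BG147

open Cfsg Cfsg.Agent.Helper23

theorem claim1 {G : Type*} [Group G] [Finite G] (hG : Cfsg.IsMinSimpleOddOrder G)
    (M : Subgroup G) (hM : IsCoatom M) (K U : Subgroup G) (hKU : Cfsg.IsSigmaDecomposition M K U) (hK1 : K ≠ ⊥) (Mstar : Subgroup G) (hMstar : IsCoatom Mstar)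
    (hKst : K = Cfsg.sigmaCore Mstar ⊓ Subgroup.centralizer ((Cfsg.sigmaCore M ⊓ Subgroup.centralizer (K : Set G)) : Set G))
    (hKstH : Cfsg.IsPiHallOf (Cfsg.kappa Mstar) (Cfsg.sigmaCore M ⊓ Subgroup.centralizer (K : Set G)) Mstar) :
    U ≠ ⊥ ∨ ∀ Ustar : Subgroup G, Cfsg.IsSigmaDecomposition Mstar (Cfsg.sigmaCore M ⊓ Subgroup.centralizer (K : Set G)) Ustar → Ustar ≠ ⊥ := by
  classical
  have hKst' : K = Cfsg.sigmaCore Mstar ⊓ Subgroup.centralizer
      (((Cfsg.sigmaCore M ⊓ Subgroup.centralizer (K : Set G) : Subgroup G)) : Set G) := hKst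
  -- basic facts about (M, K, K*)
  obtain ⟨hKM, hKκ, hKidx⟩ := hKU.hall
  obtain ⟨⟨hσM, hσp, -⟩, -, -⟩ := Cfsg.Agent.S1350.result hG M hM
  obtain ⟨⟨hσMs, hσps, -⟩, -, -⟩ := Cfsg.Agent.S1350.result hG Mstar hMstar
  have hKs1 : Cfsg.sigmaCore M ⊓ Subgroup.centralizer (K : Set G) ≠ ⊥ :=
    BGCount.kstar_ne_bot hG M hM K hKU.hall hK1
  have hcomm : ∀ a ∈ K, ∀ b ∈ (Cfsg.sigmaCore M ⊓ Subgroup.centralizer (K : Set G)),
      a * b = b * a := fun a ha b hb => (Subgroup.mem_centralizer_iff.mp hb.2) a ha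
  have hKsσ : Cfsg.sigmaCore M ⊓ Subgroup.centralizer (K : Set G) ≤ Cfsg.sigmaCore M := inf_le_left
  have hcopKσ : (Nat.card K).Coprime (Nat.card ↥(Cfsg.sigmaCore M)) := by
    apply Nat.coprime_of_dvd
    intro p hp h1 h2
    exact (hKκ p hp h1).2.2.1 (hσp p hp h2)
  have hcopKKs : (Nat.card K).Coprime
      (Nat.card ↥(Cfsg.sigmaCore M ⊓ Subgroup.centralizer (K : Set G))) :=
    Nat.Coprime.coprime_dvd_right (Subgroup.card_dvd_of_le hKsσ) hcopKσ
  obtain ⟨-, -, -, -, hcountM, -⟩ :=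
    Cfsg.Agent.S1434.result hG M hM K U hKU hK1 Mstar hMstar hKst hKstH
  by_contra hcon
  push Not at hcon
  obtain ⟨hU, Ustar, hdec', hUs⟩ := hcon
  subst hU
  subst hUs
  obtain ⟨hd, -, hfM, -⟩ := Cfsg.Agent.S1431.result hG M hM K hKU.hall hK1
  obtain ⟨-, -, hfMs, -⟩ := Cfsg.Agent.S1431.result hG Mstar hMstar
    (Cfsg.sigmaCore M ⊓ Subgroup.centralizer (K : Set G)) hKstH hKs1
  rw [← hKst'] at hfMs
  have hKsMs : Cfsg.sigmaCore M ⊓ Subgroup.centralizer (K : Set G) ≤ Mstar := hKstH.1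
  have hKσs : K ≤ Cfsg.sigmaCore Mstar := by
    rw [hKst']
    exact inf_le_left
  -- K* ≠ M_σ and K ≠ M*_σ
  have hne1 : Cfsg.sigmaCore M ⊓ Subgroup.centralizer (K : Set G) ≠ Cfsg.sigmaCore M := by
    intro h
    obtain ⟨q, hq, hqd, -⟩ := BGCount.exists_prime_orderOf_of_ne_bot hKs1
    have S : Sylow q ↥(Cfsg.sigmaCore M) := default
    apply (hfM q hq hqd S).2.2
    rw [h]
    exact Subgroup.map_subtype_le _
  have hne2 : K ≠ Cfsg.sigmaCore Mstar := by
    intro h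
    obtain ⟨q, hq, hqd, -⟩ := BGCount.exists_prime_orderOf_of_ne_bot hK1
    have S : Sylow q ↥(Cfsg.sigmaCore Mstar) := default
    apply (hfMs q hq hqd S).2.2
    rw [h]
    exact Subgroup.map_subtype_le _
  -- M* is not conjugate to M
  have hnc : ∀ g : G, Mstar ≠ M.map (MulAut.conj g).toMonoidHom := by
    intro g hg
    by_cases hgM : g ∈ M
    · rw [BGCount.map_conj_eq_self_of_mem M hgM] at hg
      subst hg
      obtain ⟨q, hq, hqd, -⟩ := BGCount.exists_prime_orderOf_of_ne_bot hK1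
      exact (hKκ q hq hqd).2.2.1
        (hσp q hq (dvd_trans hqd (Subgroup.card_dvd_of_le hKσs)))
    · apply hKs1
      have h := hd g hgM
      rw [← hg] at h
      rw [← h]
      exact (inf_eq_left.mpr hKsMs).symm
  -- orders
  have hMeq : K ⊔ Cfsg.sigmaCore M = M := BGCount.sup_sigmaCore_eq_of_bot M K hKU
  have hMseq : (Cfsg.sigmaCore M ⊓ Subgroup.centralizer (K : Set G)) ⊔ Cfsg.sigmaCore Mstar
      = Mstar := BGCount.sup_sigmaCore_eq_of_bot Mstar _ hdec'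
  have hcopKsσs : (Nat.card ↥(Cfsg.sigmaCore M ⊓ Subgroup.centralizer (K : Set G))).Coprime
      (Nat.card ↥(Cfsg.sigmaCore Mstar)) := by
    apply Nat.coprime_of_dvd
    intro p hp h1 h2
    exact (hKstH.2.1 p hp h1).2.2.1 (hσps p hp h2)
  have hcM : Nat.card M = Nat.card K * Nat.card ↥(Cfsg.sigmaCore M) := by
    have h := BGCount.card_sup_sigmaCore M K hKM hcopKσ
    rw [hMeq] at h
    exact h
  have hcMs : Nat.card Mstar = Nat.card ↥(Cfsg.sigmaCore M ⊓ Subgroup.centralizer (K : Set G))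
      * Nat.card ↥(Cfsg.sigmaCore Mstar) := by
    have h := BGCount.card_sup_sigmaCore Mstar _ hKsMs hcopKsσs
    rw [hMseq] at h
    exact h
  have hi : M.index * (Nat.card K * Nat.card ↥(Cfsg.sigmaCore M)) = Nat.card G := by
    rw [← hcM]; exact Subgroup.index_mul_card M
  have hi' : Mstar.index * (Nat.card ↥(Cfsg.sigmaCore M ⊓ Subgroup.centralizer (K : Set G))
      * Nat.card ↥(Cfsg.sigmaCore Mstar)) = Nat.card G := by
    rw [← hcMs]; exact Subgroup.index_mul_card Mstar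
  have hb := Cfsg.Agent.S1377.result hG M hM
  have hc := Cfsg.Agent.S1377.result hG Mstar hMstar
  obtain ⟨hBC, -, h3⟩ := Cfsg.Agent.S1379.result hG
  have hBC' := hBC M Mstar hM hMstar hnc
  obtain ⟨-, hAN⟩ := h3 M K ⊥ hM hKU hK1
  have hdisjBC : Disjoint (Cfsg.tildeOf M ((Cfsg.sigmaCore M : Set G) \ {1}))
      (Cfsg.tildeOf Mstar ((Cfsg.sigmaCore Mstar : Set G) \ {1})) :=
    Set.disjoint_iff_inter_eq_empty.mpr hBC'
  have hdisjA : ∀ N : Subgroup G, IsCoatom N →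
      Disjoint {a : G | ∃ g : G, ∃ z ∈ ((↑(K ⊔ (Cfsg.sigmaCore M ⊓ Subgroup.centralizer (K : Set G))) : Set G) \ ((K : Set G) ∪ ↑(Cfsg.sigmaCore M ⊓ Subgroup.centralizer (K : Set G)))), a = g * z * g⁻¹}
        (Cfsg.tildeOf N ((Cfsg.sigmaCore N : Set G) \ {1})) := by
    intro N hN
    rw [Set.disjoint_left]
    rintro a ⟨g, z, hz, rfl⟩ haN
    exact hAN N hN g z hz haN
  have hsum := BGCount.ncard_add_le_of_disjoint _ _ _ (hdisjA M hM) (hdisjA Mstar hMstar) hdisjBC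
  have hs := HallRel.card_eq_card_mul_relIndex hKsσ
  have hs' := HallRel.card_eq_card_mul_relIndex hKσs
  exact BGCount.count_contra (Nat.card K)
    (Nat.card ↥(Cfsg.sigmaCore M ⊓ Subgroup.centralizer (K : Set G)))
    (Nat.card ↥(Cfsg.sigmaCore M)) (Nat.card ↥(Cfsg.sigmaCore Mstar)) M.index Mstar.index
    (Nat.card G) _ _ _ _ _
    (BGCount.two_le_card_of_ne_bot hK1) (BGCount.two_le_card_of_ne_bot hKs1) Nat.card_pos
    hi hi' hb hc hcountM hsum hs (BGCount.three_le_relIndex hG.1 hKsσ hne1) hs'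
    (BGCount.three_le_relIndex hG.1 hKσs hne2)

end Cfsg.Agent.Helper23.BG147
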