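import Mathlib
import Cfsg.Prelude.Def_OddOrderLocal
import Cfsg.Agent.Lib.Helper73.BG161Defs
import Cfsg.Agent.Lib.Helper35.BG153Defs
import Cfsg.Agent.Lib.Helper34.BG10b
import Cfsg.Agent.Lib.Helper95.BG15.FitSigma
import Cfsg.Agent.Lib.Helper55.BGHall
import Cfsg.Agent.Lib.Helper55.BGFit

/-!
# Lemma server "BG153" (helper35, S1356 = B-G Corollary 15.3(b)), piece (D)

The case `M_F = M_σ`: `M'' ≤ F(M)` and `C_M(M_F) ≤ F(M)`.
-/

set_option autoImplicit false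

namespace Cfsg.Agent.Helper23.BG153

open Subgroup Cfsg
open scoped commutatorElement
open Cfsg.Agent.Helper73.BG161 (T1350 T1352 T1365 T1420 T1430 T1437)
open Cfsg.Agent.Helper35.BG153 (T1351 T1355 T1438 T1439)

variable {G : Type*} [Group G] [Finite G]

/-- `⁅a₁ b₁, a₂ b₂⁆ ∈ ⁅a₁, a₂⁆ N` when `a₁, a₂` normalize `N ∋ b₁, b₂`. -/
theorem d_comm_prod {N : Subgroup G} {a₁ a₂ b₁ b₂ : G} (ha₁ : a₁ ∈ normalizer (N : Set G))
    (ha₂ : a₂ ∈ normalizer (N : Set G)) (hb₁ : b₁ ∈ N) (hb₂ : b₂ ∈ N) :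
    ∃ n ∈ N, ⁅a₁ * b₁, a₂ * b₂⁆ = ⁅a₁, a₂⁆ * n := by
  have hg₁ : a₂ * a₁ * a₂⁻¹ ∈ normalizer (N : Set G) := mul_mem (mul_mem ha₂ ha₁) (inv_mem ha₂)
  have hg₂ : a₂ * a₁ ∈ normalizer (N : Set G) := mul_mem ha₂ ha₁
  have h1 : (a₂ * a₁ * a₂⁻¹) * b₁ * (a₂ * a₁ * a₂⁻¹)⁻¹ ∈ N :=
    (Subgroup.mem_normalizer_iff.1 hg₁ b₁).1 hb₁
  have h2 : (a₂ * a₁) * (b₂ * b₁⁻¹) * (a₂ * a₁)⁻¹ ∈ N :=
    (Subgroup.mem_normalizer_iff.1 hg₂ _).1 (N.mul_mem hb₂ (N.inv_mem hb₁))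
  have h3 : a₂ * b₂⁻¹ * a₂⁻¹ ∈ N := (Subgroup.mem_normalizer_iff.1 ha₂ _).1 (N.inv_mem hb₂)
  refine ⟨_, N.mul_mem (N.mul_mem h1 h2) h3, ?_⟩
  simp only [commutatorElement_def]
  group

/-- `M = E N` with `E ≤ N_G(N)`: then `M' ≤ E' N`. -/
theorem d_commutator_le {E N M : Subgroup G} (hEn : E ≤ normalizer (N : Set G))
    (hM : ∀ m ∈ M, ∃ a ∈ E, ∃ b ∈ N, m = a * b) : ⁅M, M⁆ ≤ ⁅E, E⁆ ⊔ N := by
  rw [Subgroup.commutator_le]
  intro m₁ hm₁ m₂ hm₂
  obtain ⟨a₁, ha₁, b₁, hb₁, rfl⟩ := hM m₁ hm₁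
  obtain ⟨a₂, ha₂, b₂, hb₂, rfl⟩ := hM m₂ hm₂
  obtain ⟨n, hn, heq⟩ := d_comm_prod (hEn ha₁) (hEn ha₂) hb₁ hb₂
  rw [heq]
  exact Subgroup.mul_mem _ (Subgroup.mem_sup_left (Subgroup.commutator_mem_commutator ha₁ ha₂))
    (Subgroup.mem_sup_right hn)

/-- `K ≤ D N` with `D` abelian normalizing `N`: then `K' ≤ N`. -/
theorem d_commutator_le_of_comm {D N K : Subgroup G} (hDn : D ≤ normalizer (N : Set G))
    (hDc : ∀ x ∈ D, ∀ y ∈ D, x * y = y * x) (hK : K ≤ D ⊔ N) : ⁅K, K⁆ ≤ N := by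
  have hdec : ∀ k ∈ K, ∃ a ∈ D, ∃ b ∈ N, k = a * b := by
    intro k hk
    have hk' : k ∈ ((D ⊔ N : Subgroup G) : Set G) := hK hk
    rw [Subgroup.coe_mul_of_left_le_normalizer_right D N hDn] at hk'
    obtain ⟨a, ha, b, hb, hab⟩ := Set.mem_mul.1 hk'
    exact ⟨a, ha, b, hb, hab.symm⟩
  rw [Subgroup.commutator_le]
  intro k₁ hk₁ k₂ hk₂
  obtain ⟨a₁, ha₁, b₁, hb₁, rfl⟩ := hdec k₁ hk₁
  obtain ⟨a₂, ha₂, b₂, hb₂, rfl⟩ := hdec k₂ hk₂
  obtain ⟨n, hn, heq⟩ := d_comm_prod (hDn ha₁) (hDn ha₂) hb₁ hb₂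
  rw [heq, commutatorElement_eq_one_iff_mul_comm.2 (hDc a₁ ha₁ a₂ ha₂), one_mul]
  exact hn

/-- conjugation by a normalizing element preserves the centralizer. -/
theorem d_conj_mem_centralizer {N : Subgroup G} {g h : G} (hg : g ∈ normalizer (N : Set G))
    (hh : h ∈ centralizer (N : Set G)) : g * h * g⁻¹ ∈ centralizer (N : Set G) := by
  rw [Subgroup.mem_centralizer_iff] at hh ⊢
  intro n hn
  have hn0 : n ∈ N := hn
  have hn' : g⁻¹ * n * g⁻¹⁻¹ ∈ N := (Subgroup.mem_normalizer_iff.1 (inv_mem hg) n).1 hn0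
  have h1 := hh _ hn'
  have h2 : n * (g * h * g⁻¹) = g * ((g⁻¹ * n * g⁻¹⁻¹) * h) * g⁻¹ := by group
  have h3 : g * h * g⁻¹ * n = g * (h * (g⁻¹ * n * g⁻¹⁻¹)) * g⁻¹ := by group
  rw [h2, h3, h1]

/-- a group in which any two elements commute is nilpotent. -/
theorem d_isNilpotent_of_comm {X : Type*} [Group X] (h : ∀ a b : X, a * b = b * a) :
    Group.IsNilpotent X := by
  refine ⟨⟨1, ?_⟩⟩
  rw [Subgroup.upperCentralSeries_one, eq_top_iff]
  intro x _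
  rw [Subgroup.mem_center_iff]
  intro g
  exact h g x

/-- **(D)** the case `M_F = M_σ`: parts (1) and (2 ≥). -/
theorem case_eq (hG : IsMinSimpleOddOrder G) (hU : Cfsg.Agent.Helper34.BG.UniqHyp G)
    (h1350 : T1350 G) (h1420 : T1420 G) (h1438 : T1438 G)
    (M : Subgroup G) (hM : IsCoatom M) (heq : Cfsg.fittingHallOf M = Cfsg.sigmaCore M) :
    ⁅⁅M, M⁆, ⁅M, M⁆⁆ ≤ Cfsg.fittingOf M ∧
      M ⊓ centralizer (Cfsg.fittingHallOf M : Set G) ≤ Cfsg.fittingOf M := by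
  classical
  obtain ⟨hHall, -, -⟩ := h1350 M hM
  have hne : Cfsg.sigmaCore M ≠ ⊥ :=
    Cfsg.Agent.Helper95.BG15.FitSigma.sigmaCore_ne_bot hG hU hM hHall
  obtain ⟨E, hE⟩ := Cfsg.Agent.Helper55.BGB.exists_compl_sigmaCore hHall
  have hMn : M ≤ normalizer ((Cfsg.sigmaCore M : Subgroup G) : Set G) :=
    Cfsg.Agent.Helper55.BGB.le_normalizer_sigmaCore M
  have hMsF : Cfsg.sigmaCore M ≤ Cfsg.fittingOf M := by
    rw [← heq]
    unfold Cfsg.fittingHallOf Cfsg.fittingOf Cfsg.fittingHall Cfsg.fittingSubgroup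
    exact Subgroup.map_mono (sSup_le_sSup (fun N hN => ⟨hN.1, hN.2.1⟩))
  refine ⟨?_, ?_⟩
  · -- (1)
    have hEn : E ≤ normalizer ((Cfsg.sigmaCore M : Subgroup G) : Set G) := hE.1.trans hMn
    have h1 : ⁅M, M⁆ ≤ ⁅E, E⁆ ⊔ Cfsg.sigmaCore M := d_commutator_le hEn hE.2.2.2
    have hEE : ⁅E, E⁆ ≤ E := by
      rw [Subgroup.commutator_le]
      intro a ha b hb
      rw [commutatorElement_def]
      exact E.mul_mem (E.mul_mem (E.mul_mem ha hb) (E.inv_mem ha)) (E.inv_mem hb)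
    obtain ⟨-, hcomm, -, -⟩ := h1420 M hM E hE
    have hDc : ∀ x ∈ ⁅E, E⁆, ∀ y ∈ ⁅E, E⁆, x * y = y * x := by
      intro x hx y hy
      have h0 := hcomm.is_comm.comm ⟨x, hx⟩ ⟨y, hy⟩
      exact congrArg Subtype.val h0
    exact (d_commutator_le_of_comm (hEE.trans hEn) hDc h1).trans hMsF
  · -- (2)
    rw [heq]
    obtain ⟨⟨X, hXc, -, hXeq⟩, -⟩ := h1438 M hM (Cfsg.sigmaCore M) le_rfl hne
      (by rw [Subgroup.relIndex_self]; exact Nat.coprime_one_right _)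
    have hXW : X ≤ M ⊓ centralizer (Cfsg.sigmaCore M : Set G) := by
      rw [hXeq]; exact le_sup_right
    have hXC : X ≤ centralizer (Cfsg.sigmaCore M : Set G) := hXW.trans inf_le_right
    -- `Z(M_σ)` and `X` are abelian and commute elementwise
    have hZZ : Cfsg.sigmaCore M ⊓ centralizer (Cfsg.sigmaCore M : Set G) ≤
        centralizer ((Cfsg.sigmaCore M ⊓ centralizer (Cfsg.sigmaCore M : Set G) : Subgroup G) : Set G) := by
      intro z hz
      rw [Subgroup.mem_centralizer_iff]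
      intro z' hz'
      have hz'' : z' ∈ Cfsg.sigmaCore M ⊓ centralizer (Cfsg.sigmaCore M : Set G) := hz'
      exact (Subgroup.mem_centralizer_iff.1 (Subgroup.mem_inf.1 hz).2) z' (Subgroup.mem_inf.1 hz'').1
    have hXZ : X ≤
        centralizer ((Cfsg.sigmaCore M ⊓ centralizer (Cfsg.sigmaCore M : Set G) : Subgroup G) : Set G) := by
      intro x hx
      rw [Subgroup.mem_centralizer_iff]
      intro z' hz'
      have hz'' : z' ∈ Cfsg.sigmaCore M ⊓ centralizer (Cfsg.sigmaCore M : Set G) := hz'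
      exact (Subgroup.mem_centralizer_iff.1 (hXC hx)) z' (Subgroup.mem_inf.1 hz'').1
    have hZX : Cfsg.sigmaCore M ⊓ centralizer (Cfsg.sigmaCore M : Set G) ≤ centralizer (X : Set G) := by
      intro z hz
      rw [Subgroup.mem_centralizer_iff]
      intro x hx
      have hx' : x ∈ X := hx
      exact ((Subgroup.mem_centralizer_iff.1 (hXC hx')) z (Subgroup.mem_inf.1 hz).1).symm
    have hXX : X ≤ centralizer (X : Set G) := by
      intro x hx
      rw [Subgroup.mem_centralizer_iff]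
      intro x' hx'
      have hx'' : x' ∈ X := hx'
      haveI := hXc
      have h0 := (IsCyclic.commGroup (α := X)).mul_comm ⟨x', hx''⟩ ⟨x, hx⟩
      exact congrArg Subtype.val h0
    have h1 := sup_le hZZ hXZ
    have h2 := sup_le hZX hXX
    have h3 : Cfsg.sigmaCore M ⊓ centralizer (Cfsg.sigmaCore M : Set G) ≤
        centralizer (((Cfsg.sigmaCore M ⊓ centralizer (Cfsg.sigmaCore M : Set G)) ⊔ X : Subgroup G) : Set G) := by
      intro z hz
      rw [Subgroup.mem_centralizer_iff]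
      intro w hw
      exact ((Subgroup.mem_centralizer_iff.1 (h1 hw)) z hz).symm
    have h4 : X ≤
        centralizer (((Cfsg.sigmaCore M ⊓ centralizer (Cfsg.sigmaCore M : Set G)) ⊔ X : Subgroup G) : Set G) := by
      intro x hx
      rw [Subgroup.mem_centralizer_iff]
      intro w hw
      exact ((Subgroup.mem_centralizer_iff.1 (h2 hw)) x hx).symm
    have h5 := sup_le h3 h4
    have hWcomm : ∀ a b : ↥(M ⊓ centralizer (Cfsg.sigmaCore M : Set G)), a * b = b * a := by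
      intro a b
      have ha : (a : G) ∈ (Cfsg.sigmaCore M ⊓ centralizer (Cfsg.sigmaCore M : Set G)) ⊔ X := by
        rw [← hXeq]; exact a.2
      have hb : (b : G) ∈ (Cfsg.sigmaCore M ⊓ centralizer (Cfsg.sigmaCore M : Set G)) ⊔ X := by
        rw [← hXeq]; exact b.2
      apply Subtype.ext
      show (a : G) * (b : G) = (b : G) * (a : G)
      exact (Subgroup.mem_centralizer_iff.1 (h5 hb)) a ha
    have hMW : M ≤ normalizer ((M ⊓ centralizer (Cfsg.sigmaCore M : Set G) : Subgroup G) : Set G) := by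
      intro m hm
      rw [Subgroup.mem_normalizer_iff]
      intro h
      constructor
      · intro hh
        obtain ⟨h1', h2'⟩ := Subgroup.mem_inf.1 hh
        exact Subgroup.mem_inf.2 ⟨M.mul_mem (M.mul_mem hm h1') (M.inv_mem hm),
          d_conj_mem_centralizer (hMn hm) h2'⟩
      · intro hh
        obtain ⟨h1', h2'⟩ := Subgroup.mem_inf.1 hh
        have h3' : h = m⁻¹ * (m * h * m⁻¹) * m⁻¹⁻¹ := by group
        rw [h3']
        exact Subgroup.mem_inf.2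
          ⟨M.mul_mem (M.mul_mem (M.inv_mem hm) h1') (M.inv_mem (M.inv_mem hm)),
            d_conj_mem_centralizer (hMn (M.inv_mem hm)) h2'⟩
    exact Cfsg.Agent.Helper95.BG15.FitSigma.le_fittingOf_of_normal (H := M)
      (X := M ⊓ centralizer (Cfsg.sigmaCore M : Set G))
      (N := M ⊓ centralizer (Cfsg.sigmaCore M : Set G)) inf_le_left hMW le_rfl
      Subgroup.le_normalizer (d_isNilpotent_of_comm hWcomm)

end Cfsg.Agent.Helper23.BG153
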