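import Mathlib
import Cfsg.Prelude.Def_Blocks
import Cfsg.Agent.Lib.Helper16.PPart
import Cfsg.Agent.Lib.Helper74.Subsec1

/-!
# Lemma D2 for the Brauer–Leonard project (helper46, board message 2043)

`P` an abelian Sylow `p`-subgroup with `|N_G(P) : C_G(P)| = 3` and `C_G(y) ∩ N_G(P) = C_G(P)` for
`1 ≠ y ∈ P`.  If `y` is not a product of two conjugates of the involution `t` lying in `P`, then the
`p`-part of a product of two conjugates of `t` is never conjugate to `y`.
-/

set_option autoImplicit false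
set_option linter.unusedSectionVars false
set_option linter.unusedVariables false

namespace Cfsg.Agent.Helper23.BLNoInvolProd

open Cfsg
open scoped Pointwise

universe u

variable {G : Type u} [Group G]

/-- dihedral identity: with `r = v u` and `u, v` involutions, `u (uv)^(2k+1) = r^k v r^{-k}`. -/
theorem dihedral_conj (u v : G) (hu : u * u = 1) (hv : v * v = 1) (k : ℕ) :
    u * (u * v) ^ (2 * k + 1) = (v * u) ^ k * v * ((v * u) ^ k)⁻¹ := by
  have hr : u * v = (v * u)⁻¹ := by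
    rw [eq_inv_iff_mul_eq_one]
    calc u * v * (v * u) = u * (v * v) * u := by group
      _ = 1 := by rw [hv, mul_one, hu]
  -- `v (r⁻¹)^j = r^j v`
  have hA : ∀ j : ℕ, v * ((v * u)⁻¹) ^ j = (v * u) ^ j * v := by
    intro j
    induction j with
    | zero => simp
    | succ j ih =>
      rw [pow_succ, ← mul_assoc, ih, pow_succ, mul_assoc, mul_assoc]
      congr 1
      rw [← hr]
      group
  have h1 : u * (u * v) ^ (2 * k + 1) = v * ((v * u)⁻¹) ^ (2 * k) := by
    rw [pow_succ', ← mul_assoc, ← mul_assoc, hu, one_mul, hr]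
  calc u * (u * v) ^ (2 * k + 1) = v * ((v * u)⁻¹) ^ (2 * k) := h1
    _ = (v * u) ^ (2 * k) * v := hA _
    _ = (v * u) ^ k * ((v * u) ^ k * v) := by rw [two_mul, pow_add, mul_assoc]
    _ = (v * u) ^ k * (v * ((v * u)⁻¹) ^ k) := by rw [hA k]
    _ = (v * u) ^ k * v * ((v * u) ^ k)⁻¹ := by rw [inv_pow, mul_assoc]

/-- a cyclic group generated by an element of square one is a `2`-group -/
theorem isPGroup_zpowers_of_sq {a : G} (ha : a * a = 1) : IsPGroup 2 (Subgroup.zpowers a) := by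
  intro z
  obtain ⟨z, hz⟩ := z
  obtain ⟨i, rfl⟩ := Subgroup.mem_zpowers_iff.mp hz
  refine ⟨1, ?_⟩
  apply Subtype.ext
  simp only [pow_one, Subgroup.coe_pow, Subgroup.coe_one]
  rw [← zpow_natCast, ← zpow_mul, mul_comm, zpow_mul, zpow_natCast, pow_two, ha, one_zpow]

variable [Finite G]

/-- core of D2 with `x = y` -/
theorem core (p : ℕ) [Fact p.Prime] (P : Sylow p G) (hab : IsMulCommutative P)
    (hCN : (Subgroup.centralizer ((P : Subgroup G) : Set G)).relIndex
      (Subgroup.normalizer ((P : Subgroup G) : Set G)) = 3)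
    (hfrob : ∀ y : G, y ∈ (P : Subgroup G) → y ≠ 1 →
      Subgroup.centralizer ({y} : Set G) ⊓ Subgroup.normalizer ((P : Subgroup G) : Set G) =
        Subgroup.centralizer ((P : Subgroup G) : Set G))
    (t : G) (ht : orderOf t = 2) (y : G) (hy : y ∈ (P : Subgroup G)) (hy1 : y ≠ 1)
    (hyt : ∀ t₁ t₂ : G, t₁ ∈ (P : Subgroup G) → t₂ ∈ (P : Subgroup G) → IsConj t t₁ → IsConj t t₂ →
      t₁ * t₂ ≠ y)
    (u v : G) (hu : IsConj t u) (hv : IsConj t v) (hx : IsPPart p (u * v) y) : False := by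
  classical
  have hp : p.Prime := Fact.out
  have := hab
  have htt : t * t = 1 := by rw [← pow_two, ← ht, pow_orderOf_eq_one]
  have huu : u * u = 1 := by
    obtain ⟨c, hc⟩ := isConj_iff.mp hu
    rw [← hc]
    calc c * t * c⁻¹ * (c * t * c⁻¹) = c * (t * t) * c⁻¹ := by group
      _ = 1 := by rw [htt]; group
  have hvv : v * v = 1 := by
    obtain ⟨c, hc⟩ := isConj_iff.mp hv
    rw [← hc]
    calc c * t * c⁻¹ * (c * t * c⁻¹) = c * (t * t) * c⁻¹ := by group
      _ = 1 := by rw [htt]; group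
  have huinv : u⁻¹ = u := inv_eq_of_mul_eq_one_left huu
  have hvinv : v⁻¹ = v := inv_eq_of_mul_eq_one_left hvv
  set g : G := u * v with hg
  -- `u` inverts `g`
  have hug : u⁻¹ * g * u = g⁻¹ := by
    rw [hg, huinv, mul_inv_rev, huinv, hvinv]
    calc u * (u * v) * u = (u * u) * v * u := by group
      _ = v * u := by rw [huu, one_mul]
  -- `p`-part of `g⁻¹` in two ways
  have hP1 : IsPPart p g⁻¹ (u⁻¹ * y * u) := by
    have := Cfsg.Agent.Helper74.SS.isPPart_conj hx u
    rwa [hug] at this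
  have hP2 : IsPPart p g⁻¹ y⁻¹ := by
    obtain ⟨s, hs, hc, ⟨k, hk⟩, hsr⟩ := hx
    refine ⟨s⁻¹, ?_, hc.inv_inv, ⟨k, by rw [orderOf_inv, hk]⟩, by rwa [orderOf_inv]⟩
    rw [← hs, mul_inv_rev]
    exact (hc.inv_inv).eq.symm ▸ rfl
  have hinv : u⁻¹ * y * u = y⁻¹ := Cfsg.Agent.Helper16.isPPart_unique hp hP1 hP2
  -- Burnside fusion: an element of `N_G(P)` inverts `y`
  have hyinvP : u⁻¹ * y * u ∈ (P : Subgroup G) := by rw [hinv]; exact (P : Subgroup G).inv_mem hy
  obtain ⟨n, hnN, hn⟩ := Sylow.conj_eq_normalizer_conj_of_mem P y u hy hyinvP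
  rw [hinv] at hn
  -- `n² ∈ C(y) ∩ N = C_G(P)`, `n³ ∈ C_G(P)`
  have hn' : n⁻¹ * y * n = y⁻¹ := hn.symm
  have hn2 : n ^ 2 ∈ Subgroup.centralizer ((P : Subgroup G) : Set G) := by
    rw [← hfrob y hy hy1]
    refine Subgroup.mem_inf.mpr ⟨?_, Subgroup.pow_mem _ hnN 2⟩
    rw [Subgroup.mem_centralizer_singleton_iff]
    symm
    -- y * n^2 = n^2 * y
    have e1 : y * n = n * y⁻¹ := by
      have : n * (n⁻¹ * y * n) = n * y⁻¹ := by rw [hn']
      rw [← this]; group
    have e2 : y⁻¹ * n = n * y := by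
      have : (y * n)⁻¹ = (n * y⁻¹)⁻¹ := by rw [e1]
      have h3 : n⁻¹ * y⁻¹ = y * n⁻¹ := by simpa [mul_inv_rev] using this
      calc y⁻¹ * n = n * (n⁻¹ * y⁻¹) * n := by group
        _ = n * (y * n⁻¹) * n := by rw [h3]
        _ = n * y := by group
    calc y * n ^ 2 = (y * n) * n := by rw [pow_two]; group
      _ = n * (y⁻¹ * n) := by rw [e1]; group
      _ = n * (n * y) := by rw [e2]
      _ = n ^ 2 * y := by rw [pow_two]; group
  have hn3 : n ^ 3 ∈ Subgroup.centralizer ((P : Subgroup G) : Set G) := by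
    have := Subgroup.pow_relIndex_mem
      (H := (Subgroup.centralizer ((P : Subgroup G) : Set G)).subgroupOf
        (Subgroup.normalizer ((P : Subgroup G) : Set G)))
      (K := ⊤) (g := (⟨n, hnN⟩ : ↥(Subgroup.normalizer ((P : Subgroup G) : Set G))))
      (Subgroup.mem_top _)
    rw [Subgroup.relIndex_top_right] at this
    have hidx : ((Subgroup.centralizer ((P : Subgroup G) : Set G)).subgroupOf
        (Subgroup.normalizer ((P : Subgroup G) : Set G))).index = 3 := hCN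
    rw [hidx, Subgroup.mem_subgroupOf] at this
    simpa using this
  have hnC : n ∈ Subgroup.centralizer ((P : Subgroup G) : Set G) := by
    have : n = n ^ 3 * (n ^ 2)⁻¹ := by group
    rw [this]
    exact Subgroup.mul_mem _ hn3 (Subgroup.inv_mem _ hn2)
  have hyy : y = y⁻¹ := by
    have h1 := (Subgroup.mem_centralizer_iff.mp hnC) y hy
    -- h1 : y * n = n * y
    calc y = n⁻¹ * (n * y) := by group
      _ = n⁻¹ * (y * n) := by rw [h1]
      _ = y⁻¹ := by rw [← mul_assoc]; exact hn'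
  have hy2 : y * y = 1 := by
    nth_rewrite 2 [hyy]; exact mul_inv_cancel y
  -- order of `y` is a power of `p` and divides 2
  obtain ⟨s, hs, hc, ⟨k, hk⟩, hsr⟩ := hx
  have hoy : orderOf y = 2 := by
    have h1 : orderOf y ∣ 2 := orderOf_dvd_of_pow_eq_one (by rw [pow_two]; exact hy2)
    rcases (Nat.dvd_prime Nat.prime_two).mp h1 with h | h
    · exact absurd (orderOf_eq_one_iff.mp h) hy1
    · exact h
  have hp2 : p = 2 := by
    rw [hoy] at hk
    have : p ∣ 2 := by
      rcases k with _ | k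
      · simp at hk
      · rw [hk, pow_succ]; exact dvd_mul_left p _
    exact (Nat.prime_dvd_prime_iff_eq hp Nat.prime_two).mp this
  subst hp2
  -- `y = g ^ m` with `m = orderOf s` odd
  set m := orderOf s with hm
  have hmodd : Odd m := Nat.odd_iff.mpr (Nat.two_dvd_ne_zero.mp hsr)
  obtain ⟨j, hj⟩ := hmodd
  have hym : y ^ m = y := by
    rw [hj, pow_succ, pow_mul, pow_two, hy2, one_pow, one_mul]
  have hgm : g ^ m = y := by
    rw [← hs, hc.mul_pow, hym, hm, pow_orderOf_eq_one, mul_one]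
  -- `u y = d v d⁻¹`
  have huy : u * y = (v * u) ^ j * v * ((v * u) ^ j)⁻¹ := by
    rw [← hgm, hj, hg]
    exact dihedral_conj u v huu hvv j
  -- `u` and `y` commute
  have hcomm : u * y = y * u := by
    have : u⁻¹ * y * u = y := by rw [hinv, ← hyy]
    calc u * y = u * (u⁻¹ * y * u) := by rw [this]
      _ = y * u := by group
  -- a Sylow subgroup containing `u` and `y`
  have hK2 : IsPGroup 2 ↥(Subgroup.zpowers u ⊔ Subgroup.zpowers y) := by
    apply IsPGroup.to_sup_of_normal_right' (isPGroup_zpowers_of_sq huu) (isPGroup_zpowers_of_sq hy2)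
    refine le_trans ?_ (Subgroup.centralizer_le_normalizer _)
    rw [Subgroup.zpowers_le]
    rw [Subgroup.mem_centralizer_iff]
    intro h hh
    obtain ⟨i, rfl⟩ := Subgroup.mem_zpowers_iff.mp hh
    exact (Commute.zpow_left (show Commute y u from hcomm.symm) i).eq
  obtain ⟨Q, hQ⟩ := hK2.exists_le_sylow
  have huQ : u ∈ (Q : Subgroup G) := hQ (Subgroup.mem_sup_left (Subgroup.mem_zpowers u))
  have hyQ : y ∈ (Q : Subgroup G) := hQ (Subgroup.mem_sup_right (Subgroup.mem_zpowers y))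
  obtain ⟨c, hcQ⟩ := MulAction.exists_smul_eq G Q P
  have key : ∀ z ∈ (Q : Subgroup G), c * z * c⁻¹ ∈ (P : Subgroup G) := by
    intro z hz
    have h1 : (MulAut.conj c) • z ∈ (MulAut.conj c) • (Q : Subgroup G) :=
      Subgroup.smul_mem_pointwise_smul _ _ _ hz
    rw [← Sylow.coe_subgroup_smul, hcQ] at h1
    simpa [MulAut.smul_def, MulAut.conj_apply] using h1
  have hcu : c * u * c⁻¹ ∈ (P : Subgroup G) := key u huQ
  have hcy : c * y * c⁻¹ ∈ (P : Subgroup G) := key y hyQ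
  obtain ⟨n', hn'N, hn'e⟩ := Sylow.conj_eq_normalizer_conj_of_mem P y c⁻¹ hy
    (by rw [inv_inv]; exact hcy)
  rw [inv_inv] at hn'e
  -- hn'e : c * y * c⁻¹ = n'⁻¹ * y * n'
  have hfy : (n' * c) * y * (n' * c)⁻¹ = y := by
    calc (n' * c) * y * (n' * c)⁻¹ = n' * (c * y * c⁻¹) * n'⁻¹ := by group
      _ = n' * (n'⁻¹ * y * n') * n'⁻¹ := by rw [hn'e]
      _ = y := by group
  have hfu : (n' * c) * u * (n' * c)⁻¹ ∈ (P : Subgroup G) := by
    have : (n' * c) * u * (n' * c)⁻¹ = n' * (c * u * c⁻¹) * n'⁻¹ := by group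
    rw [this]
    exact (Subgroup.mem_normalizer_iff.mp hn'N _).mp hcu
  set f : G := n' * c with hf
  have ht1 : IsConj t (f * u * f⁻¹) := hu.trans (isConj_iff.mpr ⟨f, rfl⟩)
  have ht2 : IsConj t (f * (u * y) * f⁻¹) := by
    refine hv.trans ?_
    refine IsConj.trans (isConj_iff.mpr ⟨(v * u) ^ j, huy.symm⟩) (isConj_iff.mpr ⟨f, rfl⟩)
  have hsplit : f * (u * y) * f⁻¹ = f * u * f⁻¹ * y := by
    calc f * (u * y) * f⁻¹ = f * u * f⁻¹ * (f * y * f⁻¹) := by group
      _ = f * u * f⁻¹ * y := by rw [hfy]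
  have hmem2 : f * (u * y) * f⁻¹ ∈ (P : Subgroup G) := by
    rw [hsplit]; exact (P : Subgroup G).mul_mem hfu hy
  refine hyt _ _ hfu hmem2 ht1 ht2 ?_
  rw [hsplit]
  calc f * u * f⁻¹ * (f * u * f⁻¹ * y) = f * (u * u) * f⁻¹ * y := by group
    _ = y := by rw [huu]; group

/-- **Lemma D2** (board message 2043). -/
theorem no_invol_prod {G : Type*} [Group G] [Finite G] (p : ℕ) [Fact p.Prime] (P : Sylow p G)
    (hab : IsMulCommutative P)
    (hCN : (Subgroup.centralizer ((P : Subgroup G) : Set G)).relIndex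
      (Subgroup.normalizer ((P : Subgroup G) : Set G)) = 3)
    (hfrob : ∀ y : G, y ∈ (P : Subgroup G) → y ≠ 1 →
      Subgroup.centralizer ({y} : Set G) ⊓ Subgroup.normalizer ((P : Subgroup G) : Set G) =
        Subgroup.centralizer ((P : Subgroup G) : Set G))
    (t : G) (ht : orderOf t = 2) (y : G) (hy : y ∈ (P : Subgroup G)) (hy1 : y ≠ 1)
    (hyt : ∀ t₁ t₂ : G, t₁ ∈ (P : Subgroup G) → t₂ ∈ (P : Subgroup G) → IsConj t t₁ → IsConj t t₂ →
      t₁ * t₂ ≠ y)
    (a b x : G) (hx : Cfsg.IsPPart p (a * t * a⁻¹ * (b * t * b⁻¹)) x) : ¬ IsConj x y := by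
  intro hxy
  obtain ⟨c, hc⟩ := isConj_iff.mp hxy
  have h1 := Cfsg.Agent.Helper74.SS.isPPart_conj hx c⁻¹
  rw [inv_inv, hc] at h1
  have h2 : c * (a * t * a⁻¹ * (b * t * b⁻¹)) * c⁻¹ =
      ((c * a) * t * (c * a)⁻¹) * ((c * b) * t * (c * b)⁻¹) := by group
  rw [h2] at h1
  exact core p P hab hCN hfrob t ht y hy hy1 hyt _ _ (isConj_iff.mpr ⟨c * a, rfl⟩)
    (isConj_iff.mpr ⟨c * b, rfl⟩) h1

end Cfsg.Agent.Helper23.BLNoInvolProd
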