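import Mathlib
import Cfsg.Agent.Lib.Helper23.BenderMSG

/-!
# Bender's theorem for pairs `A, B` with `F*(A) ≤ B`, `F*(B) ≤ A`: relative versions (helper23)
-/

set_option autoImplicit false

namespace Cfsg.Agent.Helper23

open Cfsg
open scoped commutatorElement

variable {G : Type*} [Group G] [Finite G]

/-- If `F*(A) ≤ B` and `F*(B) ≤ A` then `O_p(B)` commutes with the `p'`-elements of `F*(A)`
(no maximality needed). -/
theorem pCoreOf_commute_fsOf' (A B : Subgroup G) (hAB : fsOf A ≤ B) (hBA : fsOf B ≤ A)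
    (p : ℕ) [hp : Fact p.Prime] :
    ∀ x ∈ pCoreOf p B, ∀ g ∈ fsOf A, (orderOf g).Coprime p → x * g = g * x := by
  intro x hx g hg hgo
  set P := pCoreOf p B with hPdef
  have hPA : P ≤ A := (pCoreOf_le_fsOf B p).trans hBA
  have hD : IsPGroup p ↥(P.subgroupOf A) :=
    (pCoreOf_isPGroup B).comap_of_injective A.subtype A.subtype_injective
  set S := generalizedFittingSubgroup ↥A with hS
  have hE : layer ↥A ≤ S := Cfsg.Agent.Helper29.layer_le_generalizedFittingSubgroup
  have hSD : S ≤ Subgroup.normalizer ((P.subgroupOf A : Subgroup ↥A) : Set ↥A) := by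
    have h1 : fsOf A ≤ Subgroup.normalizer ((P : Subgroup G) : Set G) :=
      hAB.trans (le_normalizer_pCoreOf B)
    have := Cfsg.Agent.S1247.subgroupOf_le_normalizer_subgroupOf A h1
    rwa [Subgroup.subgroupOf, Subgroup.comap_map_eq_self_of_injective A.subtype_injective] at this
  have h1 := Cfsg.Agent.Helper21.layer_le_centralizer_of_le_normalizer S hE (P.subgroupOf A) hD hSD
  have h2 : ∀ r : ℕ, r.Prime → r ≠ p →
      pCore r ↥A ≤ Subgroup.centralizer ((P.subgroupOf A : Subgroup ↥A) : Set ↥A) := by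
    intro r hr hrp
    have := Fact.mk hr
    exact Cfsg.Agent.Helper21.pCore_le_centralizer_of_le_normalizer S le_rfl hE inf_le_left
      (P.subgroupOf A) hD hSD r hrp
  obtain ⟨n, hn, rfl⟩ := hg
  have hno : (orderOf n).Coprime p := by
    rw [← Subgroup.orderOf_coe]; exact hgo
  have h3 := Cfsg.Agent.Helper21.mem_layer_sup_of_coprime_orderOf p hn hno
  have h4 : layer ↥A ⊔ ⨆ r : {r : ℕ // r.Prime ∧ r ≠ p}, pCore (r : ℕ) ↥A ≤
      Subgroup.centralizer ((P.subgroupOf A : Subgroup ↥A) : Set ↥A) := by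
    apply sup_le h1
    apply iSup_le
    rintro ⟨r, hr, hrp⟩
    exact h2 r hr hrp
  have h5 := Subgroup.mem_centralizer_iff.mp (h4 h3) ⟨x, hPA hx⟩ (Subgroup.mem_subgroupOf.mpr hx)
  exact congrArg Subtype.val h5

/-- A group with trivial generalized Fitting subgroup is trivial. -/
theorem eq_bot_of_generalizedFittingSubgroup_eq_bot (A : Subgroup G)
    (h : generalizedFittingSubgroup ↥A = ⊥) : A = ⊥ := by
  rw [eq_bot_iff]
  intro a ha
  have h1 : (⟨a, ha⟩ : ↥A) ∈
      Subgroup.centralizer ((generalizedFittingSubgroup ↥A : Subgroup ↥A) : Set ↥A) := by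
    rw [h, Subgroup.mem_centralizer_iff]
    intro y hy
    rw [SetLike.mem_coe, Subgroup.mem_bot] at hy
    rw [hy]; simp
  have h2 := Cfsg.Agent.Helper21.centralizer_generalizedFittingSubgroup_le h1
  rw [h, Subgroup.mem_bot] at h2
  rw [Subgroup.mem_bot]
  exact congrArg Subtype.val h2

/-- relative chain consequence: `O_r(A) ≤ O_r(B)` when some `O_p(A) ≠ 1`, `p ≠ r`. -/
theorem pCoreOf_le_pCoreOf_of_pair (A B : Subgroup G) (hAB : fsOf A ≤ B) (hBA : fsOf B ≤ A)
    (hrel : ∀ X : Subgroup G, X ≠ ⊥ → X ≤ A ⊓ B → A ≤ Subgroup.normalizer (X : Set G) →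
      B ⊓ Subgroup.normalizer (X : Set G) ≤ A)
    (p r : ℕ) [hp : Fact p.Prime] [hr : Fact r.Prime] (hne : r ≠ p) (hPne : pCoreOf p A ≠ ⊥) :
    pCoreOf r A ≤ pCoreOf r B := by
  have hcomm : ∀ (q : ℕ) [Fact q.Prime], ∀ x ∈ pCoreOf q A, ∀ g ∈ fsOf B, (orderOf g).Coprime q →
      x * g = g * x := fun q _ => pCoreOf_commute_fsOf' B A hBA hAB q
  have hPAB : pCoreOf p A ≤ A ⊓ B :=
    le_inf (pCoreOf_le A) ((pCoreOf_le_fsOf A p).trans hAB)
  exact pcore_le_of_chain' hne A B (fsOf B) (pCoreOf p A) (pCoreOf r A)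
    (le_normalizer_fsOf B) (inf_centralizer_fsOf_le B)
    ((pCoreOf_le_fsOf A p).trans hAB) (pCoreOf_isPGroup A) (hcomm p)
    ((pCoreOf_le_fsOf A r).trans hAB) (pCoreOf_isPGroup A) (hcomm r)
    ((inf_le_inf_left B (Subgroup.centralizer_le_normalizer _)).trans
      (hrel _ hPne hPAB (le_normalizer_pCoreOf A)))
    (le_normalizer_pCoreOf A)

end Cfsg.Agent.Helper23
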