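import Mathlib
import Cfsg.Prelude.Def_Solvable
import Cfsg.Agent.S0945
import Cfsg.Agent.Lib.Helper49.PPrimeCore

/-!
# Brauer's theorem on Sylow `2`-subgroups of type `(2^m, 2^m)`: the group-theoretic wrapper

Given the block-theoretic key step (existence of a proper normal subgroup containing `P` when
`|N_G(P) : C_G(P)| = 3`), a group `G` with `O(G) = 1` and Sylow `2`-subgroup
`P ≅ Z/2^m × Z/2^m`, `m ≥ 2`, has `P ⊴ G`, `C_G(P) = P` and `|G : P| ∈ {1, 3}`.
(Requested by helper46, board message 2210.)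
-/

set_option autoImplicit false
set_option linter.unusedSectionVars false
set_option linter.unusedVariables false

namespace Cfsg.Agent.Helper23.BrauerHomocyclic

open Cfsg

universe u

theorem pcore_bot_of_forall {G : Type*} [Group G]
    (hO : ∀ N : Subgroup G, N.Normal → Odd (Nat.card N) → N = ⊥) : Cfsg.pPrimeCore 2 G = ⊥ := by
  unfold Cfsg.pPrimeCore
  rw [sSup_eq_bot]
  intro N hN
  exact hO N hN.1 (Nat.coprime_two_right.mp hN.2)

theorem eq_bot_of_normal_odd {G : Type*} [Group G] (hO : Cfsg.pPrimeCore 2 G = ⊥)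
    (N : Subgroup G) (hN : N.Normal) (hodd : Odd (Nat.card N)) : N = ⊥ := by
  have h : N ≤ Cfsg.pPrimeCore 2 G := le_sSup ⟨hN, Nat.coprime_two_right.mpr hodd⟩
  rw [hO] at h
  exact le_bot_iff.mp h

theorem pcore_bot_of_normal {G : Type*} [Group G] [Finite G] (hO : Cfsg.pPrimeCore 2 G = ⊥)
    (M : Subgroup G) [M.Normal] : Cfsg.pPrimeCore 2 M = ⊥ := by
  have h := Cfsg.Agent.Helper49.map_pPrimeCore_le 2 M
  rw [hO, le_bot_iff] at h
  rw [eq_bot_iff]
  intro m hm
  have : (M.subtype m) ∈ (Cfsg.pPrimeCore 2 M).map M.subtype := ⟨m, hm, rfl⟩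
  rw [h, Subgroup.mem_bot] at this
  rw [Subgroup.mem_bot]
  exact Subtype.ext this

/-- Burnside: a Sylow `2`-subgroup central in its normalizer, in a group with `O(G) = 1`, is
everything. -/
theorem sylow_eq_top_of_normalizer_le {G : Type*} [Group G] [Finite G]
    (hO : Cfsg.pPrimeCore 2 G = ⊥) (P : Sylow 2 G)
    (hNC : Subgroup.normalizer (P : Set G) ≤ Subgroup.centralizer (P : Set G)) :
    (P : Subgroup G) = ⊤ := by
  have : Fact (Nat.Prime 2) := ⟨Nat.prime_two⟩
  have hc := MonoidHom.ker_transferSylow_isComplement' P hNC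
  have hodd : Odd (Nat.card (MonoidHom.transferSylow P hNC).ker) := by
    have := MonoidHom.not_dvd_card_ker_transferSylow P hNC
    exact Nat.odd_iff.mpr (Nat.two_dvd_ne_zero.mp this)
  have hbot := eq_bot_of_normal_odd hO _ (MonoidHom.normal_ker _) hodd
  rw [hbot] at hc
  exact Subgroup.isComplement'_bot_left.mp hc

theorem exists_order_four (m : ℕ) (hm : 2 ≤ m) :
    ∃ x : Multiplicative (ZMod (2 ^ m) × ZMod (2 ^ m)), orderOf x = 4 := by
  refine ⟨Multiplicative.ofAdd (((2 ^ (m - 2) : ℕ) : ZMod (2 ^ m)), 0), ?_⟩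
  rw [orderOf_ofAdd_eq_addOrderOf, Prod.addOrderOf_mk, addOrderOf_zero, Nat.lcm_one_right,
    ZMod.addOrderOf_coe _ (by positivity)]
  have : Nat.gcd (2 ^ m) (2 ^ (m - 2)) = 2 ^ (m - 2) :=
    Nat.gcd_eq_right (pow_dvd_pow 2 (Nat.sub_le m 2))
  rw [this]
  obtain ⟨k, rfl⟩ : ∃ k, m = k + 2 := ⟨m - 2, by omega⟩
  rw [Nat.add_sub_cancel, pow_add, Nat.mul_div_cancel_left _ (by positivity)]
  norm_num

theorem card_gt {G : Type*} [Group G] (Q : Subgroup G) (m : ℕ) (hm : 2 ≤ m)
    (e : Q ≃* Multiplicative (ZMod (2 ^ m) × ZMod (2 ^ m))) : 3 + 1 < Nat.card Q := by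
  have h1 : Nat.card Q = 2 ^ m * 2 ^ m := by
    rw [Nat.card_congr e.toEquiv, Nat.card_congr Multiplicative.toAdd, Nat.card_prod,
      Nat.card_zmod]
  have h2 : 4 ≤ 2 ^ m := by
    calc 4 = 2 ^ 2 := by norm_num
      _ ≤ 2 ^ m := Nat.pow_le_pow_right (by norm_num) hm
  rw [h1]
  nlinarith

theorem aux
    (key : ∀ (H : Type u) [Group H] [Finite H] (P : Sylow 2 H) (hab : IsMulCommutative P)
      (hm2 : 3 + 1 < Nat.card ↥(P : Subgroup H))
      (hCN : (Subgroup.centralizer ((P : Subgroup H) : Set H)).relIndex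
        (Subgroup.normalizer ((P : Subgroup H) : Set H)) = 3)
      (hfrob : ∀ y : H, y ∈ (P : Subgroup H) → y ≠ 1 →
        Subgroup.centralizer ({y} : Set H) ⊓ Subgroup.normalizer ((P : Subgroup H) : Set H) =
          Subgroup.centralizer ((P : Subgroup H) : Set H))
      (y₄ : H) (hy₄ : y₄ ∈ (P : Subgroup H)) (ho : orderOf y₄ = 4),
      ∃ K : Subgroup H, K.Normal ∧ K ≠ ⊤ ∧ (P : Subgroup H) ≤ K)
    (m : ℕ) (hm : 2 ≤ m) (n : ℕ) :
    ∀ (G : Type u) [Group G] [Finite G], Nat.card G = n → ∀ (P : Sylow 2 G)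
      (e : (P : Subgroup G) ≃* Multiplicative (ZMod (2 ^ m) × ZMod (2 ^ m)))
      (hO : Cfsg.pPrimeCore 2 G = ⊥),
      (P : Subgroup G).Normal ∧ Subgroup.centralizer (P : Set G) = (P : Subgroup G) ∧
        ((P : Subgroup G).index = 1 ∨ (P : Subgroup G).index = 3) := by
  induction n using Nat.strong_induction_on with
  | _ n ih =>
  intro G _ _ hn P e hO
  classical
  have : Fact (Nat.Prime 2) := ⟨Nat.prime_two⟩
  have hab : IsMulCommutative P :=
    ⟨⟨fun a b => e.injective (by rw [map_mul, map_mul, mul_comm])⟩⟩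
  have hPC : (P : Subgroup G) ≤ Subgroup.centralizer ((P : Subgroup G) : Set G) := by
    intro x hx
    rw [Subgroup.mem_centralizer_iff]
    intro y hy
    have := hab.is_comm.comm ⟨y, hy⟩ ⟨x, hx⟩
    exact congrArg Subtype.val this
  obtain ⟨h13, hfr⟩ := Cfsg.Agent.S0945.result P m (by omega) e
  rcases h13 with h1 | h3
  · have hNC : Subgroup.normalizer (P : Set G) ≤ Subgroup.centralizer (P : Set G) :=
      Subgroup.relIndex_eq_one.mp h1
    have htop : (P : Subgroup G) = ⊤ := sylow_eq_top_of_normalizer_le hO P hNC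
    refine ⟨?_, ?_, Or.inl ?_⟩
    · rw [htop]; infer_instance
    · apply le_antisymm
      · rw [htop]; exact le_top
      · exact hPC
    · rw [htop]; exact Subgroup.index_top
  · have hCN : (Subgroup.centralizer ((P : Subgroup G) : Set G)).relIndex
        (Subgroup.normalizer ((P : Subgroup G) : Set G)) = 3 := h3
    have hfrob : ∀ y : G, y ∈ (P : Subgroup G) → y ≠ 1 →
        Subgroup.centralizer ({y} : Set G) ⊓ Subgroup.normalizer ((P : Subgroup G) : Set G) =
          Subgroup.centralizer ((P : Subgroup G) : Set G) := hfr (by rw [h3]; norm_num)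
    obtain ⟨x, hx⟩ := exists_order_four m hm
    have hy₄ : ((e.symm x : (P : Subgroup G)) : G) ∈ (P : Subgroup G) := (e.symm x).2
    have ho : orderOf ((e.symm x : (P : Subgroup G)) : G) = 4 := by
      rw [Subgroup.orderOf_coe, MulEquiv.orderOf_eq, hx]
    have hm2 : 3 + 1 < Nat.card ↥(P : Subgroup G) := card_gt _ m hm e
    obtain ⟨K, hKn, hKtop, hPK⟩ := key G P hab hm2 hCN hfrob _ hy₄ ho
    have := hKn
    have hKlt : Nat.card K < n := by
      rw [← hn]
      exact lt_of_le_of_ne (Subgroup.card_le_card_group K)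
        (fun h => hKtop ((Subgroup.card_eq_iff_eq_top K).mp h))
    have hOK : Cfsg.pPrimeCore 2 K = ⊥ := pcore_bot_of_normal hO K
    have eK : ((P.subtype hPK : Sylow 2 K) : Subgroup K) ≃*
        Multiplicative (ZMod (2 ^ m) × ZMod (2 ^ m)) :=
      (Subgroup.subgroupOfEquivOfLe hPK).trans e
    obtain ⟨hPKn, -, -⟩ := ih (Nat.card K) hKlt K rfl (P.subtype hPK) eK hOK
    have hPn : (P : Subgroup G).Normal := by
      have : ((P.subtype hPK : Sylow 2 K) : Subgroup K).Characteristic :=
        Sylow.characteristic_of_normal (P.subtype hPK) hPKn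
      have h := ConjAct.normal_of_characteristic_of_normal (H := K)
        (K := ((P.subtype hPK : Sylow 2 K) : Subgroup K))
      have h2 : (((P.subtype hPK : Sylow 2 K) : Subgroup K).map K.subtype) = (P : Subgroup G) :=
        Subgroup.map_subgroupOf_eq_of_le hPK
      rwa [h2] at h
    have := hPn
    have hCn : (Subgroup.centralizer ((P : Subgroup G) : Set G)).Normal :=
      Subgroup.normal_centralizer
    have hOC : Cfsg.pPrimeCore 2 (Subgroup.centralizer ((P : Subgroup G) : Set G)) = ⊥ :=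
      pcore_bot_of_normal hO _
    obtain ⟨PC, hPCdef⟩ : ∃ PC : Sylow 2 ↥(Subgroup.centralizer ((P : Subgroup G) : Set G)),
        PC = P.subtype hPC := ⟨_, rfl⟩
    have hNCC : Subgroup.normalizer (PC : Set ↥(Subgroup.centralizer ((P : Subgroup G) : Set G))) ≤
        Subgroup.centralizer (PC : Set ↥(Subgroup.centralizer ((P : Subgroup G) : Set G))) := by
      intro c _
      rw [Subgroup.mem_centralizer_iff]
      intro y hy
      have hy' : (y : G) ∈ (P : Subgroup G) := by
        have hy2 : y ∈ (PC : Subgroup ↥(Subgroup.centralizer ((P : Subgroup G) : Set G))) := hy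
        rw [hPCdef] at hy2
        exact hy2
      have := (Subgroup.mem_centralizer_iff.mp c.2) (y : G) hy'
      exact Subtype.ext this
    have hPCtop : (PC : Subgroup ↥(Subgroup.centralizer ((P : Subgroup G) : Set G))) = ⊤ := sylow_eq_top_of_normalizer_le hOC PC hNCC
    have hCP : Subgroup.centralizer ((P : Subgroup G) : Set G) ≤ (P : Subgroup G) := by
      intro c hc
      have h1 : (⟨c, hc⟩ : Subgroup.centralizer ((P : Subgroup G) : Set G)) ∈
          (PC : Subgroup ↥(Subgroup.centralizer ((P : Subgroup G) : Set G))) := by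
        rw [hPCtop]; exact Subgroup.mem_top _
      rw [hPCdef] at h1
      exact h1
    have hCeq : Subgroup.centralizer ((P : Subgroup G) : Set G) = (P : Subgroup G) :=
      le_antisymm hCP hPC
    refine ⟨hPn, hCeq, Or.inr ?_⟩
    have hNtop : Subgroup.normalizer ((P : Subgroup G) : Set G) = ⊤ :=
      Subgroup.normalizer_eq_top_iff.mpr hPn
    rw [hNtop, Subgroup.relIndex_top_right, hCeq] at hCN
    exact hCN

/-- **Brauer's `(2^m, 2^m)` theorem, modulo the block-theoretic key step** (board message 2210). -/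
theorem brauer_homocyclic_of_key
    (key : ∀ (H : Type u) [Group H] [Finite H] (P : Sylow 2 H) (hab : IsMulCommutative P)
      (hm2 : 3 + 1 < Nat.card ↥(P : Subgroup H))
      (hCN : (Subgroup.centralizer ((P : Subgroup H) : Set H)).relIndex
        (Subgroup.normalizer ((P : Subgroup H) : Set H)) = 3)
      (hfrob : ∀ y : H, y ∈ (P : Subgroup H) → y ≠ 1 →
        Subgroup.centralizer ({y} : Set H) ⊓ Subgroup.normalizer ((P : Subgroup H) : Set H) =
          Subgroup.centralizer ((P : Subgroup H) : Set H))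
      (y₄ : H) (hy₄ : y₄ ∈ (P : Subgroup H)) (ho : orderOf y₄ = 4),
      ∃ K : Subgroup H, K.Normal ∧ K ≠ ⊤ ∧ (P : Subgroup H) ≤ K)
    {G : Type u} [Group G] [Finite G] (P : Sylow 2 G) (m : ℕ) (hm : 2 ≤ m)
    (e : (P : Subgroup G) ≃* Multiplicative (ZMod (2 ^ m) × ZMod (2 ^ m)))
    (hO : ∀ N : Subgroup G, N.Normal → Odd (Nat.card N) → N = ⊥) :
    (P : Subgroup G).Normal ∧ Subgroup.centralizer (P : Set G) = (P : Subgroup G) ∧
      ((P : Subgroup G).index = 1 ∨ (P : Subgroup G).index = 3) :=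
  aux key m hm (Nat.card G) G rfl P e (pcore_bot_of_forall hO)

end Cfsg.Agent.Helper23.BrauerHomocyclic
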