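import Mathlib
import Cfsg.Agent.Lib.Helper32.C3Defs

/-!
# C3 (S1): not (M) ⟹ every `G`-normal abelian 2-subgroup of `R` is central (helper32 server, S4415)
-/

set_option autoImplicit false

namespace Cfsg.Agent.Helper23.C3

open Cfsg.Agent.Helper32.C3

universe u v

/-- key step: `a ∈ A` with `a * a` central commutes with every element `g` of order dividing 3,
provided involutions of `A` of the form `a⁻¹ g a g⁻¹` are central. -/
theorem h23_comm_of_sq_central {G : Type u} [Group G] (A : Subgroup G) (hAn : A.Normal)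
    (hAc : ∀ x ∈ A, ∀ y ∈ A, x * y = y * x)
    (hΩ : ∀ u ∈ A, u * u = 1 → ∀ g : G, u * g = g * u)
    (a : G) (ha : a ∈ A) (ha2 : ∀ g : G, (a * a) * g = g * (a * a))
    (g : G) (hg3 : g ^ 3 = 1) : a * g = g * a := by
  have hga : g * a * g⁻¹ ∈ A := hAn.conj_mem a ha g
  obtain ⟨u, hu⟩ : ∃ u, u = a⁻¹ * (g * a * g⁻¹) := ⟨_, rfl⟩
  have huA : u ∈ A := by rw [hu]; exact A.mul_mem (A.inv_mem ha) hga
  have huu : u * u = 1 := by
    have h1 : u * u = a⁻¹ * a⁻¹ * ((g * a * g⁻¹) * (g * a * g⁻¹)) := by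
      rw [hu]
      have := hAc _ hga _ (A.inv_mem ha)
      calc a⁻¹ * (g * a * g⁻¹) * (a⁻¹ * (g * a * g⁻¹))
          = a⁻¹ * ((g * a * g⁻¹) * a⁻¹) * (g * a * g⁻¹) := by group
        _ = a⁻¹ * (a⁻¹ * (g * a * g⁻¹)) * (g * a * g⁻¹) := by rw [this]
        _ = _ := by group
    have h2 : (g * a * g⁻¹) * (g * a * g⁻¹) = a * a := by
      have : (g * a * g⁻¹) * (g * a * g⁻¹) = g * (a * a) * g⁻¹ := by group
      rw [this, ← ha2 g]; group
    rw [h1, h2]; group
  have huc := hΩ u huA huu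
  have hgag : g * a * g⁻¹ = a * u := by rw [hu]; group
  -- g² a g⁻² = a u u = a
  have h2 : g * (g * a * g⁻¹) * g⁻¹ = a := by
    rw [hgag]
    have : g * (a * u) * g⁻¹ = (g * a * g⁻¹) * (g * u * g⁻¹) := by group
    rw [this, hgag, ← huc g]
    calc a * u * (u * g * g⁻¹) = a * (u * u) := by group
      _ = a := by rw [huu, mul_one]
  -- g⁻¹ = g²
  have hg2 : g * g = g⁻¹ := by
    have : g * g * g = 1 := by rw [← hg3, pow_succ, pow_two]
    calc g * g = (g * g * g) * g⁻¹ := by group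
      _ = g⁻¹ := by rw [this, one_mul]
  have h3 : g⁻¹ * a * g = a := by
    have : g * (g * a * g⁻¹) * g⁻¹ = (g * g) * a * (g * g)⁻¹ := by group
    rw [this, hg2] at h2
    simpa using h2
  calc a * g = g * (g⁻¹ * a * g) := by group
    _ = g * a := by rw [h3]

theorem abelian_normal_central {G : Type u} [Group G] [Finite G] {V : Type v} [AddCommGroup V]
    [Module (ZMod 3) V] [Finite V] (ρ : Representation (ZMod 3) G V) (R Q : Subgroup G) (b : G)
    (h : Cfg ρ R Q b) (hS : ¬ CaseM ρ R) (hP1 : Subgroup.normalClosure ({b} : Set G) = ⊤)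
    (hP2 : ∀ z ∈ Subgroup.center G, z = 1 ∨ ρ z = -1)
    (A : Subgroup G) (hAn : A.Normal) (hAR : A ≤ R) (hA2 : IsPGroup 2 ↥A)
    (hAc : ∀ x ∈ A, ∀ y ∈ A, x * y = y * x) : A ≤ Subgroup.center G := by
  classical
  -- Ω₁(A)
  let Ω : Subgroup G :=
    { carrier := {a | a ∈ A ∧ a * a = 1}
      one_mem' := ⟨A.one_mem, by simp⟩
      mul_mem' := by
        rintro x y ⟨hx, hx2⟩ ⟨hy, hy2⟩
        refine ⟨A.mul_mem hx hy, ?_⟩
        calc x * y * (x * y) = x * (y * x) * y := by group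
          _ = x * (x * y) * y := by rw [hAc y hy x hx]
          _ = (x * x) * (y * y) := by group
          _ = 1 := by rw [hx2, hy2, one_mul]
      inv_mem' := by
        rintro x ⟨hx, hx2⟩
        refine ⟨A.inv_mem hx, ?_⟩
        calc x⁻¹ * x⁻¹ = (x * x)⁻¹ := by group
          _ = 1 := by rw [hx2, inv_one] }
  have hΩmem : ∀ x, x ∈ Ω ↔ x ∈ A ∧ x * x = 1 := fun x => Iff.rfl
  have hΩn : Ω.Normal := by
    refine ⟨fun x hx g => ?_⟩
    obtain ⟨hxA, hx2⟩ := (hΩmem x).1 hx
    refine (hΩmem _).2 ⟨hAn.conj_mem x hxA g, ?_⟩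
    calc g * x * g⁻¹ * (g * x * g⁻¹) = g * (x * x) * g⁻¹ := by group
      _ = 1 := by rw [hx2]; group
  have hΩR : Ω ≤ R := fun x hx => hAR ((hΩmem x).1 hx).1
  -- involutions of A are central
  have hΩc : ∀ u ∈ A, u * u = 1 → ∀ g : G, u * g = g * u := by
    intro u hu huu g
    have huΩ : u ∈ Ω := (hΩmem u).2 ⟨hu, huu⟩
    have hsc : ρ u = 1 ∨ ρ u = -1 := by
      by_contra hcon
      rw [not_or] at hcon
      exact hS ⟨Ω, hΩn, hΩR, fun a ha => ((hΩmem a).1 ha).2, u, huΩ, hcon.1, hcon.2⟩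
    apply h.faith
    rw [map_mul, map_mul]
    rcases hsc with h1 | h1
    · rw [h1, one_mul, mul_one]
    · rw [h1]; simp
  -- elements of order 3: conjugates of b
  have hconj3 : ∀ x : G, (x * b * x⁻¹) ^ 3 = 1 := by
    intro x
    rw [conj_pow, h.b3]; group
  -- a with a*a central is central
  have hstep : ∀ a ∈ A, (∀ g : G, (a * a) * g = g * (a * a)) → ∀ g : G, a * g = g * a := by
    intro a ha ha2
    have hle : Subgroup.normalClosure ({b} : Set G) ≤ Subgroup.centralizer {a} := by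
      unfold Subgroup.normalClosure
      rw [Subgroup.closure_le]
      intro y hy
      obtain ⟨b', hb', hconj⟩ := Group.mem_conjugatesOfSet_iff.1 hy
      rw [Set.mem_singleton_iff] at hb'
      obtain ⟨x, hx⟩ := isConj_iff.1 hconj
      rw [hb'] at hx
      rw [SetLike.mem_coe, Subgroup.mem_centralizer_iff]
      intro a' ha'
      rw [Set.mem_singleton_iff] at ha'
      rw [ha', ← hx]
      exact h23_comm_of_sq_central A hAn hAc hΩc a ha ha2 _ (hconj3 x)
    intro g
    have hg : g ∈ Subgroup.centralizer {a} := hle (hP1 ▸ Subgroup.mem_top g)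
    rw [Subgroup.mem_centralizer_iff] at hg
    exact hg a rfl
  -- induction on the exponent
  have hind : ∀ k : ℕ, ∀ a ∈ A, a ^ (2 ^ k) = 1 → ∀ g : G, a * g = g * a := by
    intro k
    induction k with
    | zero =>
      intro a _ ha1 g
      rw [pow_zero, pow_one] at ha1
      rw [ha1, one_mul, mul_one]
    | succ k ih =>
      intro a ha ha1
      have h1 : (a * a) ^ (2 ^ k) = 1 := by
        rw [← pow_two, ← pow_mul, ← pow_succ']
        exact ha1
      exact hstep a ha (ih (a * a) (A.mul_mem ha ha) h1)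
  intro a ha
  rw [Subgroup.mem_center_iff]
  intro g
  obtain ⟨k, hk⟩ := hA2 ⟨a, ha⟩
  have hk' : a ^ (2 ^ k) = 1 := by
    have := congrArg Subtype.val hk
    simpa using this
  exact (hind k a ha hk' g).symm

end Cfsg.Agent.Helper23.C3
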