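import Mathlib
import Cfsg.Prelude.Def_Balance
import Cfsg.Agent.Lib.Helper23.ExtLayer

/-!
# The extended `2`-layer: independence of the Sylow subgroup, normality (helper23)
-/

set_option autoImplicit false

namespace Cfsg.Agent.Helper23

open Cfsg

variable {X : Type*} [Group X]

/-- If `M ≤ N`, `M` normal, `N/M` a `p`-group, then for Sylow `p`-subgroups `T₀, T` of `N`,
`O_{p'}(C_X(T)) ≤ M O_{p'}(C_X(T₀))`. -/
theorem ocOf_sylow_le_aux [Finite X] (p : ℕ) [Fact p.Prime] (N M : Subgroup X) [M.Normal]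
    (hpow : ∀ g ∈ N, ∃ k : ℕ, g ^ p ^ k ∈ M) (T₀ T : Sylow p ↥N) :
    ocOf p ((T : Subgroup ↥N).map N.subtype) ≤ M ⊔ ocOf p ((T₀ : Subgroup ↥N).map N.subtype) := by
  obtain ⟨n, hn⟩ := MulAction.exists_smul_eq ↥N T₀ T
  have hM : (M.subgroupOf N) ⊔ (T₀ : Subgroup ↥N) = ⊤ := by
    have : (M.subgroupOf N).Normal := inferInstance
    apply sup_eq_top_of_pow_mem p
    · intro g
      obtain ⟨k, hk⟩ := hpow g g.2
      refine ⟨k, ?_⟩
      rw [Subgroup.mem_subgroupOf, Subgroup.coe_pow]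
      exact hk
    · exact T₀.not_dvd_index
  have hn' : n ∈ (M.subgroupOf N) ⊔ (T₀ : Subgroup ↥N) := hM ▸ Subgroup.mem_top n
  obtain ⟨m, hm, t, ht, hmt⟩ := Subgroup.mem_sup_of_normal_left.mp hn'
  have hT : T = m • T₀ := by
    rw [← hn, ← hmt, mul_smul]
    congr 1
    exact Sylow.smul_eq_iff_mem_normalizer.mpr (Subgroup.le_normalizer ht)
  rw [hT, sylow_smul_map_subtype, ocOf_cj]
  apply cj_le_of_mem
  · exact le_sup_right
  · have : (m : X) ∈ M := Subgroup.mem_subgroupOf.mp hm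
    exact (le_sup_left : M ≤ M ⊔ _) this

/-- Every element of `L_{p'}(X) O_{p',p}(X)` has a `p`-power in `L_{p'}(X) O_{p'}(X)`. -/
theorem exists_pow_mem_pLayer_sup [Finite X] (p : ℕ) [Fact p.Prime] :
    ∀ g ∈ pLayer p X ⊔ pPrimePCore p X, ∃ k : ℕ, g ^ p ^ k ∈ pLayer p X ⊔ pPrimeCore p X := by
  have hLn : (pLayer p X).Normal := pLayer_normal p
  have hPn : (pPrimePCore p X).Normal := pPrimePCore_normal p
  have hWn : (pPrimeCore p X).Normal := inferInstance
  have hMn : (pLayer p X ⊔ pPrimeCore p X).Normal := inferInstance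
  intro g hg
  obtain ⟨l, hl, q, hq, hlq⟩ := Subgroup.mem_sup_of_normal_right.mp hg
  obtain ⟨k, hk⟩ := exists_pow_mem_pPrimeCore hq
  refine ⟨k, ?_⟩
  rw [← hlq]
  rw [← QuotientGroup.eq_one_iff (N := pLayer p X ⊔ pPrimeCore p X), QuotientGroup.mk_pow,
    QuotientGroup.mk_mul]
  have e1 : (QuotientGroup.mk l : X ⧸ (pLayer p X ⊔ pPrimeCore p X)) = 1 :=
    (QuotientGroup.eq_one_iff _).mpr ((le_sup_left : pLayer p X ≤ pLayer p X ⊔ pPrimeCore p X) hl)
  rw [e1, one_mul, ← QuotientGroup.mk_pow, QuotientGroup.eq_one_iff]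
  exact (le_sup_right : pPrimeCore p X ≤ pLayer p X ⊔ pPrimeCore p X) hk

/-- All the `O_{p'}(C_X(T))`, `T` a Sylow `p`-subgroup of `N = L_{p'}(X) O_{p',p}(X)`, lie in
`L_{p'}(X) O_{p'}(X) O_{p'}(C_X(T₀))` for any fixed such `T₀`. -/
theorem ocOf_sylow_le [Finite X] (p : ℕ) [Fact p.Prime]
    (T₀ T : Sylow p ↥(pLayer p X ⊔ pPrimePCore p X)) :
    ocOf p ((T : Subgroup ↥(pLayer p X ⊔ pPrimePCore p X)).map (pLayer p X ⊔ pPrimePCore p X).subtype) ≤
      pLayer p X ⊔ pPrimeCore p X ⊔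
        ocOf p ((T₀ : Subgroup ↥(pLayer p X ⊔ pPrimePCore p X)).map
          (pLayer p X ⊔ pPrimePCore p X).subtype) := by
  have hLn : (pLayer p X).Normal := pLayer_normal p
  have hWn : (pPrimeCore p X).Normal := inferInstance
  have hMn : (pLayer p X ⊔ pPrimeCore p X).Normal := inferInstance
  exact ocOf_sylow_le_aux p _ _ (exists_pow_mem_pLayer_sup p) T₀ T

/-- The conjugation action of `X` on the Sylow subgroups of a normal subgroup `N`. -/
theorem sylow_conjNormal_map_subtype {p : ℕ} {N : Subgroup X} [hN : N.Normal] (T : Sylow p ↥N) (g : X) :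
    (((MulAut.conjNormal (H := N) g) • T : Sylow p ↥N) : Subgroup ↥N).map N.subtype =
      cj ((T : Subgroup ↥N).map N.subtype) g := by
  ext x
  rw [mem_cj]
  constructor
  · rintro ⟨y, hy, rfl⟩
    rw [SetLike.mem_coe, Sylow.pointwise_smul_def, Subgroup.mem_pointwise_smul_iff_inv_smul_mem] at hy
    refine ⟨_, hy, ?_⟩
    simp [MulAut.smul_def, ← map_inv]
  · rintro ⟨y, hy, hyx⟩
    have hxN : x ∈ N := by
      have : x = g * (y : X) * g⁻¹ := by
        have h := hyx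
        simp only [Subgroup.coe_subtype] at h
        rw [h]; group
      rw [this]
      exact hN.conj_mem _ y.2 g
    refine ⟨⟨x, hxN⟩, ?_, rfl⟩
    rw [SetLike.mem_coe, Sylow.pointwise_smul_def, Subgroup.mem_pointwise_smul_iff_inv_smul_mem]
    have : (MulAut.conjNormal (H := N) g)⁻¹ • (⟨x, hxN⟩ : ↥N) = y := by
      apply Subtype.ext
      rw [← map_inv, MulAut.smul_def, MulAut.conjNormal_apply]
      simp only [Subgroup.coe_subtype] at hyx
      rw [hyx]; simp
    rw [this]; exact hy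

theorem cj_eq_of_normal (A : Subgroup X) [hA : A.Normal] (g : X) : cj A g = A := by
  apply cj_eq_of_mem_normalizer
  rw [Subgroup.normalizer_eq_top (H := A)]
  exact Subgroup.mem_top g

end Cfsg.Agent.Helper23
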