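import Mathlib
import Cfsg.Prelude.Def_LocalStructure
import Cfsg.Agent.Lib.Helper23.PCore
import Cfsg.Agent.Lib.Helper23.Large

set_option autoImplicit false

namespace Cfsg.Agent.Helper23

theorem card_sup_mul_card_inf {M : Type*} [Group M] [Finite M] (K H : Subgroup M) [K.Normal] :
    Nat.card ↥(K ⊔ H) * Nat.card ↥(K ⊓ H) = Nat.card K * Nat.card H := by
  have h1 : Nat.card K * K.relIndex (K ⊔ H) = Nat.card ↥(K ⊔ H) := by
    have := Subgroup.relIndex_mul_relIndex ⊥ K (K ⊔ H) bot_le le_sup_left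
    simpa [Subgroup.relIndex_bot_left] using this
  have h2 : Nat.card ↥(K ⊓ H) * K.relIndex H = Nat.card H := by
    have := Subgroup.relIndex_mul_relIndex ⊥ (K ⊓ H) H bot_le inf_le_right
    simpa [Subgroup.relIndex_bot_left, Subgroup.inf_relIndex_right] using this
  rw [Subgroup.relIndex_sup_left] at h1
  rw [← h1, ← h2]; ring

theorem card_mul_relIndex_of_le {M : Type*} [Group M] {A B : Subgroup M} (h : A ≤ B) :
    Nat.card A * A.relIndex B = Nat.card B := by
  have := Subgroup.relIndex_mul_relIndex ⊥ A B bot_le h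
  simpa [Subgroup.relIndex_bot_left] using this

/-- The intersection of a Sylow `p`-subgroup with a normal subgroup `N` is a Sylow subgroup of `N`
(index form). -/
theorem not_dvd_relIndex_sylow_inf {M : Type*} [Group M] [Finite M] {p : ℕ} [Fact p.Prime]
    (S : Sylow p M) (N : Subgroup M) [N.Normal] :
    ¬ p ∣ ((S : Subgroup M) ⊓ N).relIndex N := by
  intro hdvd
  have h1 := card_sup_mul_card_inf N (S : Subgroup M)
  have h2 := card_mul_relIndex_of_le (inf_le_right : (S : Subgroup M) ⊓ N ≤ N)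
  obtain ⟨k, hk⟩ : Nat.card ↥(N ⊔ (S : Subgroup M)) ∣ Nat.card M :=
    Subgroup.card_subgroup_dvd_card _
  have h4 : Nat.card (S : Subgroup M) * (S : Subgroup M).index = Nat.card M :=
    Subgroup.card_mul_index _
  rw [inf_comm] at h1
  have hc : 0 < Nat.card ↥((S : Subgroup M) ⊓ N) := Nat.card_pos
  have hs : 0 < Nat.card (S : Subgroup M) := Nat.card_pos
  have h5 : Nat.card ↥(N ⊔ (S : Subgroup M)) =
      ((S : Subgroup M) ⊓ N).relIndex N * Nat.card (S : Subgroup M) := by
    apply Nat.eq_of_mul_eq_mul_right hc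
    rw [h1, ← h2]; ring
  have h6 : (S : Subgroup M).index = ((S : Subgroup M) ⊓ N).relIndex N * k := by
    apply Nat.eq_of_mul_eq_mul_left hs
    rw [h4, hk, h5]; ring
  exact S.not_dvd_index (h6 ▸ hdvd.mul_right k)


/-- `Y`-minimal Frattini argument: if `Y ≤ S` (a Sylow `p`-subgroup of `L`), `L₀` is the unique maximal
subgroup containing `Y`, and `N ≤ L₀` is normal in `L`, then `S ∩ N` is a normal subgroup of `L`
(and a Sylow subgroup of `N`). -/
theorem yMin_sylow_inf_normal {L : Type*} [Group L] [Finite L] {p : ℕ} [Fact p.Prime]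
    {L₀ : Subgroup L} (hL₀ : IsCoatom L₀) {Y : Subgroup L} (S : Sylow p L) (hYS : Y ≤ S)
    (huniq : ∀ M : Subgroup L, IsCoatom M → Y ≤ M → M = L₀)
    (N : Subgroup L) [N.Normal] (hN : N ≤ L₀) :
    ((S : Subgroup L) ⊓ N).Normal ∧ ¬ p ∣ ((S : Subgroup L) ⊓ N).relIndex N := by
  have hidx := not_dvd_relIndex_sylow_inf S N
  refine ⟨?_, hidx⟩
  set P : Subgroup L := (S : Subgroup L) ⊓ N with hP
  have hPp : IsPGroup p (P.subgroupOf N) :=
    (S.2.to_le (inf_le_left : P ≤ S)).comap_subtype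
  let P' : Sylow p ↥N := hPp.toSylow (by simpa [Subgroup.relIndex] using hidx)
  have hfr := Sylow.normalizer_sup_eq_top P'
  have hmap : (P' : Subgroup ↥N).map N.subtype = P := by
    show (P.subgroupOf N).map N.subtype = P
    rw [Subgroup.subgroupOf_map_subtype]
    exact inf_of_le_left inf_le_right
  rw [hmap] at hfr
  have hSn : (S : Subgroup L) ≤ Subgroup.normalizer (P : Set L) := by
    intro s hs
    rw [Subgroup.mem_set_normalizer_iff]
    intro x
    have hN' : ∀ y : L, y ∈ N ↔ s * y * s⁻¹ ∈ N := fun y =>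
      ⟨fun hy => Subgroup.Normal.conj_mem inferInstance y hy s, fun hy => by
        have := Subgroup.Normal.conj_mem (inferInstance : N.Normal) _ hy s⁻¹
        simpa [mul_assoc] using this⟩
    have hS' : ∀ y : L, y ∈ (S : Subgroup L) ↔ s * y * s⁻¹ ∈ (S : Subgroup L) := fun y =>
      ⟨fun hy => mul_mem (mul_mem hs hy) (inv_mem hs), fun hy => by
        have := mul_mem (mul_mem (inv_mem hs) hy) hs
        simpa [mul_assoc] using this⟩
    show x ∈ P ↔ s * x * s⁻¹ ∈ P
    rw [hP, Subgroup.mem_inf, Subgroup.mem_inf, ← hN' x, ← hS' x]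
  by_contra hnn
  have hne : Subgroup.normalizer (P : Set L) ≠ ⊤ :=
    fun h => hnn (Subgroup.normalizer_eq_top_iff.mp h)
  obtain ⟨M, hM, hle⟩ := (eq_top_or_exists_le_coatom _).resolve_left hne
  have hML := huniq M hM (hYS.trans (hSn.trans hle))
  have : (⊤ : Subgroup L) ≤ L₀ := by
    rw [← hfr]; exact sup_le (hML ▸ hle) hN
  exact hL₀.1 (top_le_iff.mp this)

/-- In a `Y`-minimal group with `Y` a `p`-group, `O_p(L)` lies in the unique maximal subgroup over `Y`. -/
theorem yMin_pCore_le {L : Type*} [Group L] [Finite L] {p : ℕ} [Fact p.Prime]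
    {L₀ : Subgroup L} (hL₀ : IsCoatom L₀) {Y : Subgroup L} (hYp : IsPGroup p Y) (hYL : Y ≤ L₀)
    (hncl : Subgroup.normalClosure (Y : Set L) = ⊤)
    (huniq : ∀ M : Subgroup L, IsCoatom M → Y ≤ M → M = L₀) :
    Cfsg.pCore p L ≤ L₀ := by
  have hOn : (Cfsg.pCore p L).Normal := pCore_normal' p L
  have hOp : IsPGroup p (Cfsg.pCore p L) := pCore_isPGroup p L
  have hsup : IsPGroup p ↥(Y ⊔ Cfsg.pCore p L) := IsPGroup.to_sup_of_normal_right hYp hOp
  rcases eq_top_or_exists_le_coatom (Y ⊔ Cfsg.pCore p L) with htop | ⟨M, hM, hle⟩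
  · exfalso
    have hLp : IsPGroup p L := by
      intro g
      obtain ⟨k, hk⟩ := hsup ⟨g, by rw [htop]; trivial⟩
      exact ⟨k, by simpa using congrArg Subtype.val hk⟩
    have hnil : Group.IsNilpotent L := hLp.isNilpotent
    have hnorm : L₀.Normal :=
      Subgroup.NormalizerCondition.normal_of_coatom L₀ Group.normalizerCondition_of_isNilpotent hL₀
    have : Subgroup.normalClosure (Y : Set L) ≤ L₀ := Subgroup.normalClosure_le_normal hYL
    rw [hncl] at this
    exact hL₀.1 (top_le_iff.mp this)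
  · have := huniq M hM (le_sup_left.trans hle)
    exact this ▸ (le_sup_right.trans hle)


theorem isCoatom_cj {H : Type*} [Group H] {M : Subgroup H} (hM : IsCoatom M) (g : H) :
    IsCoatom (cj M g) :=
  (OrderIso.isCoatom_iff (MulEquiv.mapSubgroup (MulAut.conj g)) M).mpr hM

/-- In a `Y`-minimal group (`Y` a `p`-group), the core `D` of the unique maximal subgroup over `Y` lies in
every maximal subgroup containing `O_p(L)`. -/
theorem yMin_normalCore_le_coatom {L : Type*} [Group L] [Finite L] {p : ℕ} [Fact p.Prime]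
    {L₀ : Subgroup L} (hL₀ : IsCoatom L₀) {Y : Subgroup L} (S : Sylow p L) (hYS : Y ≤ S)
    (huniq : ∀ M : Subgroup L, IsCoatom M → Y ≤ M → M = L₀)
    {M : Subgroup L} (hM : IsCoatom M) (hOM : Cfsg.pCore p L ≤ M) :
    L₀.normalCore ≤ M := by
  by_contra hDM
  have hDL : L₀.normalCore ≤ L₀ := Subgroup.normalCore_le L₀
  obtain ⟨hPn, hPi⟩ := yMin_sylow_inf_normal hL₀ S hYS huniq L₀.normalCore hDL
  set D := L₀.normalCore with hD
  set P := (S : Subgroup L) ⊓ D with hP
  have hPO : P ≤ Cfsg.pCore p L := le_sSup ⟨hPn, S.2.to_le inf_le_left⟩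
  have hPM : P ≤ M := hPO.trans hOM
  have htop : D ⊔ M = ⊤ := by
    apply hM.2
    refine lt_of_le_of_ne le_sup_right (fun h => hDM ?_)
    rw [h]; exact le_sup_left
  have h1 := card_sup_mul_card_inf D M
  rw [htop, Subgroup.card_top] at h1
  have h2 : Nat.card M * M.index = Nat.card L := Subgroup.card_mul_index M
  have h3 := card_mul_relIndex_of_le (inf_le_left : D ⊓ M ≤ D)
  have hMi : M.index = (D ⊓ M).relIndex D := by
    have hc : 0 < Nat.card ↥(D ⊓ M) := Nat.card_pos
    have hm : 0 < Nat.card M := Nat.card_pos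
    apply Nat.eq_of_mul_eq_mul_left (Nat.mul_pos hm hc)
    calc Nat.card M * Nat.card ↥(D ⊓ M) * M.index
        = (Nat.card M * M.index) * Nat.card ↥(D ⊓ M) := by ring
      _ = Nat.card D * Nat.card M := by rw [h2, h1]
      _ = Nat.card M * Nat.card ↥(D ⊓ M) * (D ⊓ M).relIndex D := by rw [← h3]; ring
  have hdvd : (D ⊓ M).relIndex D ∣ P.relIndex D :=
    Subgroup.relIndex_dvd_of_le_left D (le_inf inf_le_right hPM)
  have hpM : ¬ p ∣ M.index := fun h => hPi ((hMi ▸ h).trans hdvd)
  obtain ⟨Q⟩ := (Sylow.nonempty : Nonempty (Sylow p ↥M))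
  have hQp : IsPGroup p ((Q : Subgroup ↥M).map M.subtype) := Q.2.map _
  have hQi : ¬ p ∣ ((Q : Subgroup ↥M).map M.subtype).index := by
    rw [Subgroup.index_map_subtype]
    exact Nat.Prime.not_dvd_mul Fact.out Q.not_dvd_index hpM
  obtain ⟨g, hg⟩ := MulAction.exists_smul_eq L S (hQp.toSylow hQi)
  have hYM : Y ≤ cj M g⁻¹ := by
    intro y hy
    rw [mem_cj, inv_inv]
    have hmem : g * y * g⁻¹ ∈ ((g • S : Sylow p L) : Subgroup L) := by
      rw [mem_smul_sylow_iff]
      have : g⁻¹ * (g * y * g⁻¹) * g = y := by group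
      rw [this]; exact hYS hy
    rw [hg] at hmem
    have : g * y * g⁻¹ ∈ (Q : Subgroup ↥M).map M.subtype := hmem
    exact Subgroup.map_subtype_le _ this
  have hML := huniq _ (isCoatom_cj hM g⁻¹) hYM
  apply hDM
  intro d hd
  have hn : D.Normal := Subgroup.normalCore_normal L₀
  have hd' : g⁻¹ * d * g ∈ D := by
    have := hn.conj_mem d hd g⁻¹
    simpa using this
  have := hDL hd'
  rw [← hML, mem_cj, inv_inv] at this
  have e : g * (g⁻¹ * d * g) * g⁻¹ = d := by group
  rwa [e] at this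


/-- Normal subgroups of a `Y`-minimal group inside the maximal subgroup are `p`-closed, with
`O_p(N) = O_p(L) ∩ N` of index prime to `p`. -/
theorem yMin_normal_sub {L : Type*} [Group L] [Finite L] {p : ℕ} [Fact p.Prime]
    {L₀ : Subgroup L} (hL₀ : IsCoatom L₀) {Y : Subgroup L} (S : Sylow p L) (hYS : Y ≤ S)
    (huniq : ∀ M : Subgroup L, IsCoatom M → Y ≤ M → M = L₀)
    (N : Subgroup L) [N.Normal] (hN : N ≤ L₀) :
    Cfsg.IsPClosed p ↥N ∧ Cfsg.pCore p ↥N = (Cfsg.pCore p L).subgroupOf N ∧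
      ¬ p ∣ (Cfsg.pCore p ↥N).index := by
  obtain ⟨hPn, hPi⟩ := yMin_sylow_inf_normal hL₀ S hYS huniq N hN
  set P := (S : Subgroup L) ⊓ N with hP
  have hPO : P ≤ Cfsg.pCore p L := le_sSup ⟨hPn, S.2.to_le inf_le_left⟩
  have hP'n : (P.subgroupOf N).Normal := hPn.subgroupOf N
  have hP'p : IsPGroup p (P.subgroupOf N) := (S.2.to_le (inf_le_left : P ≤ S)).comap_subtype
  have hP'i : ¬ p ∣ (P.subgroupOf N).index := hPi
  have hall : ∀ Q : Sylow p ↥N, (Q : Subgroup ↥N) = P.subgroupOf N := by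
    intro Q
    have hn : ((hP'p.toSylow hP'i : Sylow p ↥N) : Subgroup ↥N).Normal := hP'n
    obtain ⟨g, hg⟩ := MulAction.exists_smul_eq ↥N (hP'p.toSylow hP'i) Q
    rw [Sylow.smul_eq_of_normal] at hg
    rw [← hg]; rfl
  have hcore : Cfsg.pCore p ↥N = P.subgroupOf N := by
    apply le_antisymm
    · obtain ⟨Q, hQ⟩ := (pCore_isPGroup p ↥N).exists_le_sylow
      rw [← hall Q]; exact hQ
    · exact le_sSup ⟨hP'n, hP'p⟩
  refine ⟨fun Q => by rw [hall Q]; exact hP'n, ?_, by rw [hcore]; exact hP'i⟩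
  apply le_antisymm
  · rw [hcore]
    intro x hx
    exact hPO hx
  · have hOn : (Cfsg.pCore p L).Normal := pCore_normal' p L
    exact le_sSup ⟨hOn.subgroupOf N, (pCore_isPGroup p L).comap_subtype⟩

/-- In a `Y`-minimal group (`Y` a `p`-group), `D/O_p(L) = Φ(L/O_p(L))` where `D` is the core of the
maximal subgroup over `Y`. -/
theorem yMin_map_normalCore_eq_frattini {L : Type*} [Group L] [Finite L] {p : ℕ} [Fact p.Prime]
    {L₀ : Subgroup L} (hL₀ : IsCoatom L₀) {Y : Subgroup L} (S : Sylow p L) (hYS : Y ≤ S)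
    (huniq : ∀ M : Subgroup L, IsCoatom M → Y ≤ M → M = L₀)
    (O : Subgroup L) [O.Normal] (hO : O = Cfsg.pCore p L) (hOL : O ≤ L₀) :
    (L₀.normalCore).map (QuotientGroup.mk' O) = frattini (L ⧸ O) := by
  have hsurj : Function.Surjective (QuotientGroup.mk' O) := QuotientGroup.mk'_surjective O
  apply le_antisymm
  · rw [frattini, Order.radical]
    refine le_iInf₂ fun Mb hMb => ?_
    have hMc : IsCoatom (Mb.comap (QuotientGroup.mk' O)) := Subgroup.isCoatom_comap_of_surjective hsurj hMb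
    have hOM : Cfsg.pCore p L ≤ Mb.comap (QuotientGroup.mk' O) := by
      rw [← hO]
      have := Subgroup.ker_le_comap (QuotientGroup.mk' O) Mb
      rwa [QuotientGroup.ker_mk'] at this
    have hD := yMin_normalCore_le_coatom hL₀ S hYS huniq hMc hOM
    calc (L₀.normalCore).map (QuotientGroup.mk' O)
        ≤ (Mb.comap (QuotientGroup.mk' O)).map (QuotientGroup.mk' O) := Subgroup.map_mono hD
      _ = Mb := Subgroup.map_comap_eq_self_of_surjective hsurj Mb
  · have hKn : ((frattini (L ⧸ O)).comap (QuotientGroup.mk' O)).Normal :=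
      Subgroup.Normal.comap (Subgroup.normal_of_characteristic _) _
    have hKL : (frattini (L ⧸ O)).comap (QuotientGroup.mk' O) ≤ L₀ := by
      by_contra hK
      have htop : L₀ ⊔ (frattini (L ⧸ O)).comap (QuotientGroup.mk' O) = ⊤ := by
        apply hL₀.2
        refine lt_of_le_of_ne le_sup_left (fun h => hK ?_)
        rw [h]; exact le_sup_right
      have h2 := congrArg (Subgroup.map (QuotientGroup.mk' O)) htop
      rw [Subgroup.map_sup, Subgroup.map_comap_eq_self_of_surjective hsurj,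
        Subgroup.map_top_of_surjective _ hsurj] at h2
      have h3 := frattini_nongenerating h2
      have h4 := congrArg (Subgroup.comap (QuotientGroup.mk' O)) h3
      rw [Subgroup.comap_map_eq, QuotientGroup.ker_mk', Subgroup.comap_top,
        sup_of_le_left hOL] at h4
      exact hL₀.1 h4
    have hKD : (frattini (L ⧸ O)).comap (QuotientGroup.mk' O) ≤ L₀.normalCore :=
      Subgroup.normal_le_normalCore.mpr hKL
    calc frattini (L ⧸ O)
        = ((frattini (L ⧸ O)).comap (QuotientGroup.mk' O)).map (QuotientGroup.mk' O) :=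
          (Subgroup.map_comap_eq_self_of_surjective hsurj _).symm
      _ ≤ (L₀.normalCore).map (QuotientGroup.mk' O) := Subgroup.map_mono hKD

end Cfsg.Agent.Helper23
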