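import Mathlib
import Cfsg.Prelude.Def_Balance
import Cfsg.Agent.Lib.Helper23.ExtLayer2
import Cfsg.Agent.Lib.Helper23.YMin

/-!
# `p`-components are normal in the extended layer (helper23)
-/

set_option autoImplicit false

namespace Cfsg.Agent.Helper23

open Cfsg
open scoped commutatorElement

variable {X : Type*} [Group X]

/-- relative form of "Sylow ∩ normal is Sylow". -/
theorem not_dvd_relIndex_inf_of_normal [Finite X] {p : ℕ} [Fact p.Prime] {A B S : Subgroup X}
    (hBA : B ≤ A) (hn : A ≤ Subgroup.normalizer (B : Set X)) (hS : IsPGroup p S)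
    (hidx : ¬ p ∣ S.relIndex A) : ¬ p ∣ (S ⊓ B).relIndex B := by
  have hSp : IsPGroup p (S.subgroupOf A) := hS.comap_subtype
  let P : Sylow p ↥A := hSp.toSylow hidx
  have hBn : (B.subgroupOf A).Normal := (Subgroup.normal_subgroupOf_iff_le_normalizer hBA).mpr hn
  have h1 := not_dvd_relIndex_sylow_inf P (B.subgroupOf A)
  have h2 : ((P : Subgroup ↥A) ⊓ B.subgroupOf A) = (S ⊓ B).subgroupOf A := by
    show S.subgroupOf A ⊓ B.subgroupOf A = (S ⊓ B).subgroupOf A
    ext x
    simp [Subgroup.mem_subgroupOf]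
  rw [h2, Subgroup.relIndex_subgroupOf hBA] at h1
  exact h1

/-- A conjugate of the `p`-component `K` with the same image modulo `O_{p'}` equals `K`. -/
theorem cj_pComponent_eq_of_map_eq [Finite X] {p : ℕ} [Fact p.Prime] {K : Subgroup X}
    (hK : IsPComponent p K) (d : X)
    (h : (cj K d).map (QuotientGroup.mk' (pPrimeCore p X)) = K.map (QuotientGroup.mk' (pPrimeCore p X))) :
    d ∈ Subgroup.normalizer (K : Set X) := by
  rw [mem_normalizer_iff_cj_eq]
  exact Cfsg.Agent.Helper21.pComponent_eq_of_map_eq p (isPComponent_cj hK d) hK h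

/-- `O_{p'}(X)` normalizes every `p`-component. -/
theorem pPrimeCore_le_normalizer_pComponent [Finite X] {p : ℕ} [Fact p.Prime] {K : Subgroup X}
    (hK : IsPComponent p K) : pPrimeCore p X ≤ Subgroup.normalizer (K : Set X) := by
  intro w hw
  apply cj_pComponent_eq_of_map_eq hK
  show (K.map (MulAut.conj w).toMonoidHom).map _ = _
  rw [Cfsg.Agent.Helper34.map_conj_map]
  have : QuotientGroup.mk' (pPrimeCore p X) w = 1 := by
    rw [QuotientGroup.mk'_apply, QuotientGroup.eq_one_iff]; exact hw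
  rw [this]
  exact cj_one _

/-- An element centralizing a subgroup `S` of `X` such that `S ∩ K` has index prime to `p` in the
`p`-component `K` normalizes `K`. -/
theorem mem_normalizer_pComponent_of_centralizes [Finite X] {p : ℕ} [hp : Fact p.Prime]
    {K : Subgroup X} (hK : IsPComponent p K) (S : Subgroup X)
    (hidx : ¬ p ∣ (S ⊓ K).relIndex K) {d : X} (hd : d ∈ Subgroup.centralizer (S : Set X)) :
    d ∈ Subgroup.normalizer (K : Set X) := by
  set W := pPrimeCore p X with hW
  set π := QuotientGroup.mk' W with hπ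
  set Kb := K.map π with hKb
  have hcomp : IsComponent Kb := hK.2.1
  by_contra hnot
  have hne : (cj K d).map π ≠ Kb := fun h => hnot (cj_pComponent_eq_of_map_eq hK d h)
  have hcomp2 : IsComponent ((cj K d).map π) := (isPComponent_cj hK d).2.1
  have hcomm : ⁅Kb, (cj K d).map π⁆ = ⊥ :=
    Cfsg.Agent.Helper21.component_commutator_eq_bot_of_ne Kb _ hcomp hcomp2 (Ne.symm hne)
  -- the image of S ∩ K
  set Sb := (S ⊓ K).map π with hSb
  have hSbK : Sb ≤ Kb := Subgroup.map_mono inf_le_right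
  have hSbK2 : Sb ≤ (cj K d).map π := by
    rintro _ ⟨s, hs, rfl⟩
    refine ⟨s, ?_, rfl⟩
    rw [SetLike.mem_coe, mem_cj]
    have h1 : s * d = d * s := (Subgroup.mem_centralizer_iff.mp hd) s hs.1
    have h2 : d⁻¹ * s * d = s := by rw [mul_assoc, h1]; group
    rw [h2]; exact hs.2
  -- Sb is central in Kb
  have hcent : Sb.subgroupOf Kb ≤ Subgroup.center ↥Kb := by
    intro x hx
    rw [Subgroup.mem_center_iff]
    intro y
    have hx2 : (x : X ⧸ W) ∈ (cj K d).map π := hSbK2 (Subgroup.mem_subgroupOf.mp hx)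
    have h1 : ⁅(y : X ⧸ W), (x : X ⧸ W)⁆ ∈ ⁅Kb, (cj K d).map π⁆ :=
      Subgroup.commutator_mem_commutator y.2 hx2
    rw [hcomm, Subgroup.mem_bot, commutatorElement_eq_one_iff_mul_comm] at h1
    exact Subtype.ext h1
  have h0 : pPrimeCore p (X ⧸ W) = ⊥ := Cfsg.Agent.Helper30.pPrimeCore_quotient_eq_bot p
  have hdvd : p ∣ Nat.card (↥Kb ⧸ Subgroup.center ↥Kb) :=
    Cfsg.Agent.Helper34.dvd_card_quotient_center_of_isComponent h0 hcomp
  have h3 : (Subgroup.center ↥Kb).index ∣ (Sb.subgroupOf Kb).index := Subgroup.index_dvd_of_le hcent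
  rw [Subgroup.index_eq_card] at h3
  have h4 : p ∣ Sb.relIndex Kb := hdvd.trans h3
  have h5 : Sb.relIndex Kb ∣ (S ⊓ K).relIndex K :=
    Cfsg.Agent.Helper34.relIndex_map_dvd π inf_le_right
  exact hidx (h4.trans h5)

end Cfsg.Agent.Helper23
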