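import Mathlib

/-!
# A normal subgroup containing the centralizers of its nonidentity elements is a Hall subgroup
-/

set_option autoImplicit false

namespace Cfsg.Agent.Helper23.FrobCoprime

/-- In a finite `p`-group, a nontrivial normal subgroup contains a nontrivial central element. -/
theorem exists_central_mem_normal {P : Type*} [Group P] [Finite P] {p : ℕ} [Fact p.Prime]
    (hP : IsPGroup p P) (Q : Subgroup P) [Q.Normal] (hQ : Q ≠ ⊥) :
    ∃ z ∈ Q, z ≠ 1 ∧ ∀ x : P, x * z = z * x := by
  classical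
  have hQp : IsPGroup p Q := hP.to_subgroup Q
  obtain ⟨n, hn⟩ := IsPGroup.iff_card.mp hQp
  have hn0 : n ≠ 0 := by
    rintro rfl
    rw [pow_zero] at hn
    exact hQ ((Subgroup.card_eq_one).mp hn)
  have hdvd : p ∣ Nat.card Q := by
    rw [hn]; exact dvd_pow_self p hn0
  have hPc : IsPGroup p (ConjAct P) := hP
  have h1 : (1 : Q) ∈ MulAction.fixedPoints (ConjAct P) Q := by
    intro g
    exact smul_one g
  obtain ⟨b, hb, hb1⟩ := hPc.exists_fixed_point_of_prime_dvd_card_of_fixed_point Q hdvd h1
  refine ⟨(b : P), b.2, ?_, ?_⟩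
  · intro h
    exact hb1 (Subtype.ext h.symm)
  · intro x
    have h2 := hb (ConjAct.toConjAct x)
    have h3 : ((ConjAct.toConjAct x • b : Q) : P) = x * (b : P) * x⁻¹ := rfl
    rw [h2] at h3
    calc x * (b : P) = (x * (b : P) * x⁻¹) * x := by group
      _ = (b : P) * x := by rw [← h3]

/-- If `K ⊴ X` contains the centralizer of each of its nonidentity elements, then `|K|` and
`|X : K|` are coprime. -/
theorem frob_coprime_of_centralizer {X : Type*} [Group X] [Finite X] (K : Subgroup X) [K.Normal]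
    (hC : ∀ k ∈ K, k ≠ 1 → Subgroup.centralizer ({k} : Set X) ≤ K) :
    Nat.Coprime (Nat.card K) K.index := by
  classical
  rw [Nat.coprime_iff_gcd_eq_one]
  by_contra hne
  obtain ⟨p, hp, hpd⟩ := Nat.exists_prime_and_dvd hne
  have : Fact p.Prime := ⟨hp⟩
  have hpK : p ∣ Nat.card K := hpd.trans (Nat.gcd_dvd_left _ _)
  have hpi : p ∣ K.index := hpd.trans (Nat.gcd_dvd_right _ _)
  -- an element of order `p` in `K`, inside a Sylow `p`-subgroup `P`
  obtain ⟨k, hk⟩ := exists_prime_orderOf_dvd_card' (G := K) p hpK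
  have hk1 : (k : X) ≠ 1 := by
    intro h
    have : k = 1 := Subtype.ext h
    rw [this, orderOf_one] at hk
    exact hp.one_lt.ne hk
  have hkz : IsPGroup p (Subgroup.zpowers (k : X)) := by
    have : orderOf (k : X) = p := by rw [Subgroup.orderOf_coe]; exact hk
    apply IsPGroup.of_card (n := 1)
    rw [Nat.card_zpowers, this, pow_one]
  obtain ⟨P, hP⟩ := hkz.exists_le_sylow
  have hkP : (k : X) ∈ (P : Subgroup X) := hP (Subgroup.mem_zpowers _)
  -- `Q = K ⊓ P` as a normal subgroup of `P`
  have hQne : K.subgroupOf (P : Subgroup X) ≠ ⊥ := by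
    intro h
    have hmem : (⟨(k : X), hkP⟩ : (P : Subgroup X)) ∈ K.subgroupOf (P : Subgroup X) := by
      rw [Subgroup.mem_subgroupOf]; exact k.2
    rw [h, Subgroup.mem_bot] at hmem
    exact hk1 (congrArg Subtype.val hmem)
  obtain ⟨z, hzQ, hz1, hzc⟩ :=
    exists_central_mem_normal P.isPGroup' (K.subgroupOf (P : Subgroup X)) hQne
  have hzK : (z : X) ∈ K := Subgroup.mem_subgroupOf.mp hzQ
  have hz1' : (z : X) ≠ 1 := fun h => hz1 (Subtype.ext h)
  have hPK : (P : Subgroup X) ≤ K := by
    refine le_trans ?_ (hC (z : X) hzK hz1')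
    intro x hx
    rw [Subgroup.mem_centralizer_iff]
    intro y hy
    rw [Set.mem_singleton_iff] at hy
    subst hy
    have := hzc ⟨x, hx⟩
    have h2 := congrArg Subtype.val this
    simpa using h2.symm
  have hdvd : K.index ∣ (P : Subgroup X).index := Subgroup.index_dvd_of_le hPK
  exact P.not_dvd_index (hpi.trans hdvd)

end Cfsg.Agent.Helper23.FrobCoprime
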