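import Mathlib
import Cfsg.Agent.Lib.Helper92.G24Defs

/-!
# G24 server (helper92, S1679): code-level linear algebra over `F4` for kernel checks (helper23)

Vectors of `F4^14` are lists of codes (`0,1,2,3` for `0,1,w,w+1`), matrices are lists of rows of codes
(exactly the tables of `G24Defs`).  `mv M v` is the code-level matrix-vector product; it is sound for
the decoded matrix `dM M` (`A k = dM (matL k)`, `XT r t = dM (xm r t)` by `rfl`).  A matrix identity
`XT r t = ((wd r t).map A).prod` follows from the decidable statement `WordOK r t` (push the 14 unit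
vectors through the word letter by letter), closed by `decide +kernel`.
-/

set_option autoImplicit false

namespace Cfsg.Agent.Helper23.G24

open Matrix Cfsg.Agent.Helper92.G24

/-- addition of codes -/
def cadd (a b : ℕ) : ℕ := Nat.xor (a % 4) (b % 4)

/-- multiplication of codes -/
def cmul (a b : ℕ) : ℕ :=
  if a % 4 = 0 then 0 else if b % 4 = 0 then 0 else (a % 4 + b % 4 - 2) % 3 + 1

theorem fc_mod (a : ℕ) : fc (a % 4) = fc a := by
  unfold fc Cfsg.Agent.Helper72.F4.ofCode
  have h1 : a % 4 % 2 = a % 2 := by omega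
  have h2 : a % 4 / 2 % 2 = a / 2 % 2 := by omega
  rw [h1, h2]

theorem fc_lt_add : ∀ x < 4, ∀ y < 4, fc (Nat.xor x y) = fc x + fc y := by decide +kernel

theorem fc_lt_mul : ∀ x < 4, ∀ y < 4,
    fc (if x = 0 then 0 else if y = 0 then 0 else (x + y - 2) % 3 + 1) = fc x * fc y := by
  decide +kernel

theorem fc_cadd (a b : ℕ) : fc (cadd a b) = fc a + fc b := by
  unfold cadd
  rw [fc_lt_add _ (Nat.mod_lt a (by norm_num)) _ (Nat.mod_lt b (by norm_num)), fc_mod, fc_mod]

theorem fc_cmul (a b : ℕ) : fc (cmul a b) = fc a * fc b := by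
  unfold cmul
  rw [fc_lt_mul _ (Nat.mod_lt a (by norm_num)) _ (Nat.mod_lt b (by norm_num)), fc_mod, fc_mod]

theorem fc_zero : fc 0 = 0 := by decide +kernel

theorem fc_one : fc 1 = 1 := by decide +kernel

/-- dot product of the first `N` entries of two code lists -/
def dotcN : ℕ → List ℕ → List ℕ → ℕ
  | 0, _, _ => 0
  | N + 1, r, v => cadd (cmul (r.headD 0) (v.headD 0)) (dotcN N r.tail v.tail)

theorem getD_succ_eq (l : List ℕ) (n : ℕ) : l.getD (n + 1) 0 = l.tail.getD n 0 := by
  cases l with
  | nil => simp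
  | cons a l => simp

theorem getD_zero_eq (l : List ℕ) : l.getD 0 0 = l.headD 0 := by
  cases l with
  | nil => simp
  | cons a l => simp

theorem fc_dotcN (N : ℕ) : ∀ r v : List ℕ,
    fc (dotcN N r v) = ∑ n ∈ Finset.range N, fc (r.getD n 0) * fc (v.getD n 0) := by
  induction N with
  | zero => intro r v; simp [dotcN, fc_zero]
  | succ N ih =>
    intro r v
    rw [dotcN, fc_cadd, fc_cmul, ih, Finset.sum_range_succ', getD_zero_eq, getD_zero_eq, add_comm]
    congr 1
    apply Finset.sum_congr rfl
    intro n _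
    rw [getD_succ_eq, getD_succ_eq]

/-- code-level matrix-vector product (`14` columns) -/
def mv (M : List (List ℕ)) (v : List ℕ) : List ℕ := M.map (fun row => dotcN 14 row v)

/-- decoding a code vector -/
def dV (v : List ℕ) : D.Idx → F := fun i => fc (v.getD (ix i) 0)

/-- decoding a code matrix -/
def dM (M : List (List ℕ)) : Matrix D.Idx D.Idx F :=
  Matrix.of fun i j => fc ((M.getD (ix i) []).getD (ix j) 0)

theorem A_eq (k : ℕ) : A k = dM (matL k) := rfl

theorem XT_eq (r t : ℕ) : XT r t = dM (xmL.getD (3 * r + (t - 1)) []) := rfl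

theorem sum_ix_aux (g : ℕ → F) :
    ∑ j : Fin 2 ⊕ Fin 12, g (Sum.elim (fun i : Fin 2 => i.val) (fun s : Fin 12 => 2 + s.val) j) =
      ∑ n ∈ Finset.range 14, g n := by
  rw [Fintype.sum_sum_type]
  simp only [Sum.elim_inl, Sum.elim_inr]
  rw [Fin.sum_univ_eq_sum_range (fun n => g n) 2, Fin.sum_univ_eq_sum_range (fun n => g (2 + n)) 12,
    show (14 : ℕ) = 2 + 12 from rfl, Finset.sum_range_add]

theorem sum_ix (g : ℕ → F) : ∑ j : D.Idx, g (ix j) = ∑ n ∈ Finset.range 14, g n :=
  sum_ix_aux g

theorem mv_sound (M : List (List ℕ)) (v : List ℕ) : dM M *ᵥ dV v = dV (mv M v) := by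
  funext i
  have h1 : (mv M v).getD (ix i) 0 = dotcN 14 (M.getD (ix i) []) v := by
    unfold mv
    have h2 : dotcN 14 [] v = 0 := by
      simp [dotcN, cmul, cadd]
    rw [← h2]
    exact List.getD_map ..
  show ∑ j : D.Idx, dM M i j * dV v j = fc ((mv M v).getD (ix i) 0)
  rw [h1, fc_dotcN, ← sum_ix]
  rfl

/-- push a code vector through a word -/
def wordVec (w : List ℕ) (v : List ℕ) : List ℕ := w.foldr (fun k acc => mv (matL k) acc) v

theorem word_sound (w : List ℕ) (v : List ℕ) : (w.map A).prod *ᵥ dV v = dV (wordVec w v) := by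
  induction w with
  | nil => simp [wordVec]
  | cons k w ih =>
    rw [List.map_cons, List.prod_cons, ← Matrix.mulVec_mulVec, ih, A_eq, mv_sound]
    rfl

/-- the unit code vectors -/
def unitL (n : ℕ) : List ℕ := (List.range 14).map (fun m => if m = n then 1 else 0)

theorem ix_inj : ∀ i j : D.Idx, ix i = ix j → i = j := by decide +kernel

theorem ix_lt : ∀ i : D.Idx, ix i < 14 := by decide +kernel

theorem dV_unit (j : D.Idx) : dV (unitL (ix j)) = Pi.single j 1 := by
  funext i
  have h1 : (unitL (ix j)).getD (ix i) 0 = if ix i = ix j then 1 else 0 := by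
    unfold unitL
    rw [List.getD_eq_getElem _ _ (by simpa using ix_lt i)]
    simp
  show fc ((unitL (ix j)).getD (ix i) 0) = _
  rw [h1]
  by_cases h : i = j
  · subst h
    simp [fc_one]
  · have h2 : ix i ≠ ix j := fun h3 => h (ix_inj i j h3)
    rw [if_neg h2, fc_zero, Pi.single_eq_of_ne h]

/-- two matrices agreeing on the decoded unit vectors are equal -/
theorem ext_unit {M M' : Matrix D.Idx D.Idx F}
    (h : ∀ j : D.Idx, M *ᵥ dV (unitL (ix j)) = M' *ᵥ dV (unitL (ix j))) : M = M' := by
  ext i j
  have h1 := congrFun (h j) i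
  rw [dV_unit, Matrix.mulVec_single_one, Matrix.mulVec_single_one] at h1
  exact h1

/-- the decidable certificate for the word of `x_r(fc t)` -/
def WordOK (r t : ℕ) : Prop :=
  ∀ n ∈ List.range 14, mv (xmL.getD (3 * r + (t - 1)) []) (unitL n) = wordVec (wd r t) (unitL n)

instance (r t : ℕ) : Decidable (WordOK r t) := by unfold WordOK; infer_instance

theorem word_of_ok {r t : ℕ} (h : WordOK r t) : XT r t = ((wd r t).map A).prod := by
  apply ext_unit
  intro j
  rw [XT_eq, mv_sound, word_sound, h (ix j) (List.mem_range.2 (ix_lt j))]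

/-- the decidable certificate for a relator -/
def RelOK (w : List ℕ) : Prop :=
  ∀ n ∈ List.range 14, wordVec w (unitL n) = unitL n

instance (w : List ℕ) : Decidable (RelOK w) := by unfold RelOK; infer_instance

theorem rel_of_ok {w : List ℕ} (h : RelOK w) : (w.map A).prod = 1 := by
  apply ext_unit
  intro j
  rw [word_sound, h (ix j) (List.mem_range.2 (ix_lt j)), Matrix.one_mulVec]

end Cfsg.Agent.Helper23.G24
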