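import Mathlib
import Cfsg.Agent.Lib.Helper92.G24Defs
import Cfsg.Agent.Lib.Helper23.G24Pack

/-!
# G24 server (helper92, S1679): pieces (REL) `A_rel` and (SQ) `A_sq` (helper23)

Certificates `RelOK w` by `decide +kernel` (code-level matrix-vector products, see `G24Pack`).
-/

set_option autoImplicit false
set_option maxRecDepth 100000

namespace Cfsg.Agent.Helper23.G24

open Cfsg.Agent.Helper92.G24

theorem relOK_0 : RelOK [0, 1, 0, 1, 0, 1, 0, 1, 0, 1] := by decide +kernel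
theorem relOK_1 : RelOK [0, 2, 0, 2] := by decide +kernel
theorem relOK_2 : RelOK [0, 3, 0, 3] := by decide +kernel
theorem relOK_3 : RelOK [0, 4, 0, 4] := by decide +kernel
theorem relOK_4 : RelOK [0, 5, 0, 5] := by decide +kernel
theorem relOK_5 : RelOK [1, 2, 1, 2, 1, 2] := by decide +kernel
theorem relOK_6 : RelOK [1, 3, 1, 3] := by decide +kernel
theorem relOK_7 : RelOK [1, 4, 1, 4] := by decide +kernel
theorem relOK_8 : RelOK [1, 5, 1, 5, 1, 5] := by decide +kernel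
theorem relOK_9 : RelOK [2, 3, 2, 3, 2, 3, 2, 3, 2, 3, 2, 3, 2, 3, 2, 3] := by decide +kernel
theorem relOK_10 : RelOK [2, 4, 2, 4] := by decide +kernel
theorem relOK_11 : RelOK [2, 5, 2, 5] := by decide +kernel
theorem relOK_12 : RelOK [3, 4, 3, 4, 3, 4] := by decide +kernel
theorem relOK_13 : RelOK [3, 5, 3, 5] := by decide +kernel
theorem relOK_14 : RelOK [4, 5, 4, 5] := by decide +kernel
theorem relOK_15 : RelOK [0, 3, 2, 3, 2, 3, 2, 3, 2] := by decide +kernel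
theorem relOK_16 : RelOK [0, 1, 2, 5, 0, 1, 2, 5, 0, 1, 2, 5, 0, 1, 2, 5, 0, 1, 2, 5] := by decide +kernel
theorem relOK_17 : RelOK [1, 2, 3, 2, 3, 1, 2, 3, 2, 3, 1, 2, 3, 2, 3, 1, 2, 3, 2, 3, 1, 2, 3, 2, 3, 4, 1, 2, 3, 2, 3, 1, 2, 3, 2, 3, 1, 2, 3, 2, 3, 1, 2, 3, 2, 3, 1, 2, 3, 2, 3, 4, 1, 2, 3, 2, 3, 1, 2, 3, 2, 3, 1, 2, 3, 2, 3, 1, 2, 3, 2, 3, 1, 2, 3, 2, 3, 4] := by decide +kernel

theorem rel4_eq : rel4 = [[0, 1, 0, 1, 0, 1, 0, 1, 0, 1], [0, 2, 0, 2], [0, 3, 0, 3], [0, 4, 0, 4], [0, 5, 0, 5], [1, 2, 1, 2, 1, 2], [1, 3, 1, 3], [1, 4, 1, 4], [1, 5, 1, 5, 1, 5], [2, 3, 2, 3, 2, 3, 2, 3, 2, 3, 2, 3, 2, 3, 2, 3], [2, 4, 2, 4], [2, 5, 2, 5], [3, 4, 3, 4, 3, 4], [3, 5, 3, 5], [4, 5, 4, 5], [0, 3, 2, 3, 2, 3, 2, 3, 2], [0, 1, 2, 5, 0, 1, 2, 5, 0, 1, 2, 5, 0, 1, 2, 5, 0, 1, 2, 5], [1, 2, 3, 2, 3, 1, 2, 3, 2, 3, 1, 2, 3, 2, 3, 1, 2, 3, 2, 3, 1, 2, 3, 2, 3, 4, 1, 2, 3, 2, 3, 1, 2,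 3, 2, 3, 1, 2, 3, 2, 3, 1, 2, 3, 2, 3, 1, 2, 3, 2, 3, 4, 1, 2, 3, 2, 3, 1, 2, 3, 2, 3, 1, 2, 3, 2, 3, 1, 2, 3, 2, 3, 1, 2, 3, 2, 3, 4]] := rfl

/-- (REL) [M-L, kernel] the six matrices satisfy the 18 relators of the Suzuki presentation on `a..f` -/
theorem A_rel : ∀ r ∈ rel4, (r.map A).prod = 1 := by
  intro r hr
  rw [rel4_eq] at hr
  simp only [List.mem_cons, List.not_mem_nil, or_false] at hr
  rcases hr with rfl | rfl | rfl | rfl | rfl | rfl | rfl | rfl | rfl | rfl | rfl | rfl | rfl | rfl | rfl | rfl | rfl | rfl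
  · exact rel_of_ok relOK_0
  · exact rel_of_ok relOK_1
  · exact rel_of_ok relOK_2
  · exact rel_of_ok relOK_3
  · exact rel_of_ok relOK_4
  · exact rel_of_ok relOK_5
  · exact rel_of_ok relOK_6
  · exact rel_of_ok relOK_7
  · exact rel_of_ok relOK_8
  · exact rel_of_ok relOK_9
  · exact rel_of_ok relOK_10
  · exact rel_of_ok relOK_11
  · exact rel_of_ok relOK_12
  · exact rel_of_ok relOK_13
  · exact rel_of_ok relOK_14
  · exact rel_of_ok relOK_15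
  · exact rel_of_ok relOK_16
  · exact rel_of_ok relOK_17

theorem sqOK_0 : RelOK [0, 0] := by decide +kernel
theorem sqOK_1 : RelOK [1, 1] := by decide +kernel
theorem sqOK_2 : RelOK [2, 2] := by decide +kernel
theorem sqOK_3 : RelOK [3, 3] := by decide +kernel
theorem sqOK_4 : RelOK [4, 4] := by decide +kernel
theorem sqOK_5 : RelOK [5, 5] := by decide +kernel

/-- (SQ) [S-M, kernel] the six matrices are involutions. -/
theorem A_sq : ∀ k < 6, A k * A k = 1 := by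
  intro k hk
  interval_cases k
  · simpa using rel_of_ok sqOK_0
  · simpa using rel_of_ok sqOK_1
  · simpa using rel_of_ok sqOK_2
  · simpa using rel_of_ok sqOK_3
  · simpa using rel_of_ok sqOK_4
  · simpa using rel_of_ok sqOK_5

end Cfsg.Agent.Helper23.G24
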