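import Mathlib
import Cfsg.Agent.Lib.Helper92.G24Defs
import Cfsg.Agent.Lib.Helper23.G24Pack

/-!
# G24 server (helper92, S1679): piece (XW) `table_word` (helper23)

36 certificates `WordOK r t` by `decide +kernel` (code-level matrix-vector products, see `G24Pack`).
-/

set_option autoImplicit false
set_option maxRecDepth 100000

namespace Cfsg.Agent.Helper23.G24

open Cfsg.Agent.Helper92.G24

theorem wordOK_0_1 : WordOK 0 1 := by decide +kernel
theorem wordOK_0_2 : WordOK 0 2 := by decide +kernel
theorem wordOK_0_3 : WordOK 0 3 := by decide +kernel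
theorem wordOK_1_1 : WordOK 1 1 := by decide +kernel
theorem wordOK_1_2 : WordOK 1 2 := by decide +kernel
theorem wordOK_1_3 : WordOK 1 3 := by decide +kernel
theorem wordOK_2_1 : WordOK 2 1 := by decide +kernel
theorem wordOK_2_2 : WordOK 2 2 := by decide +kernel
theorem wordOK_2_3 : WordOK 2 3 := by decide +kernel
theorem wordOK_3_1 : WordOK 3 1 := by decide +kernel
theorem wordOK_3_2 : WordOK 3 2 := by decide +kernel
theorem wordOK_3_3 : WordOK 3 3 := by decide +kernel
theorem wordOK_4_1 : WordOK 4 1 := by decide +kernel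
theorem wordOK_4_2 : WordOK 4 2 := by decide +kernel
theorem wordOK_4_3 : WordOK 4 3 := by decide +kernel
theorem wordOK_5_1 : WordOK 5 1 := by decide +kernel
theorem wordOK_5_2 : WordOK 5 2 := by decide +kernel
theorem wordOK_5_3 : WordOK 5 3 := by decide +kernel
theorem wordOK_6_1 : WordOK 6 1 := by decide +kernel
theorem wordOK_6_2 : WordOK 6 2 := by decide +kernel
theorem wordOK_6_3 : WordOK 6 3 := by decide +kernel
theorem wordOK_7_1 : WordOK 7 1 := by decide +kernel
theorem wordOK_7_2 : WordOK 7 2 := by decide +kernel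
theorem wordOK_7_3 : WordOK 7 3 := by decide +kernel
theorem wordOK_8_1 : WordOK 8 1 := by decide +kernel
theorem wordOK_8_2 : WordOK 8 2 := by decide +kernel
theorem wordOK_8_3 : WordOK 8 3 := by decide +kernel
theorem wordOK_9_1 : WordOK 9 1 := by decide +kernel
theorem wordOK_9_2 : WordOK 9 2 := by decide +kernel
theorem wordOK_9_3 : WordOK 9 3 := by decide +kernel
theorem wordOK_10_1 : WordOK 10 1 := by decide +kernel
theorem wordOK_10_2 : WordOK 10 2 := by decide +kernel
theorem wordOK_10_3 : WordOK 10 3 := by decide +kernel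
theorem wordOK_11_1 : WordOK 11 1 := by decide +kernel
theorem wordOK_11_2 : WordOK 11 2 := by decide +kernel
theorem wordOK_11_3 : WordOK 11 3 := by decide +kernel

/-- (XW) [L, kernel] every root element table is the product of its word in the six matrices -/
theorem table_word : ∀ r < 12, ∀ t, 1 ≤ t → t ≤ 3 → XT r t = ((wd r t).map A).prod := by
  intro r hr t h1 h3
  interval_cases r <;> interval_cases t
  · exact word_of_ok wordOK_0_1
  · exact word_of_ok wordOK_0_2
  · exact word_of_ok wordOK_0_3
  · exact word_of_ok wordOK_1_1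
  · exact word_of_ok wordOK_1_2
  · exact word_of_ok wordOK_1_3
  · exact word_of_ok wordOK_2_1
  · exact word_of_ok wordOK_2_2
  · exact word_of_ok wordOK_2_3
  · exact word_of_ok wordOK_3_1
  · exact word_of_ok wordOK_3_2
  · exact word_of_ok wordOK_3_3
  · exact word_of_ok wordOK_4_1
  · exact word_of_ok wordOK_4_2
  · exact word_of_ok wordOK_4_3
  · exact word_of_ok wordOK_5_1
  · exact word_of_ok wordOK_5_2
  · exact word_of_ok wordOK_5_3
  · exact word_of_ok wordOK_6_1
  · exact word_of_ok wordOK_6_2
  · exact word_of_ok wordOK_6_3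
  · exact word_of_ok wordOK_7_1
  · exact word_of_ok wordOK_7_2
  · exact word_of_ok wordOK_7_3
  · exact word_of_ok wordOK_8_1
  · exact word_of_ok wordOK_8_2
  · exact word_of_ok wordOK_8_3
  · exact word_of_ok wordOK_9_1
  · exact word_of_ok wordOK_9_2
  · exact word_of_ok wordOK_9_3
  · exact word_of_ok wordOK_10_1
  · exact word_of_ok wordOK_10_2
  · exact word_of_ok wordOK_10_3
  · exact word_of_ok wordOK_11_1
  · exact word_of_ok wordOK_11_2
  · exact word_of_ok wordOK_11_3

end Cfsg.Agent.Helper23.G24
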