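import Mathlib

/-!
# G2 server of helper31 (S3795): piece (INTER) `g2_inter`

The conjugates of `R` under `x` intersect in `Z`: a counting inequality and a transfer of triviality.
Pure group theory (Mathlib only).
-/

set_option autoImplicit false
set_option linter.unusedVariables false

namespace Cfsg.Agent.Helper23.G2

open Subgroup

/-- powers of a normalizing element normalize. -/
theorem g2i_pow_conj {G : Type*} [Group G] (H : Subgroup G) (x : G)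
    (h : ∀ a ∈ H, x * a * x⁻¹ ∈ H) (i : ℕ) : ∀ a ∈ H, x ^ i * a * (x ^ i)⁻¹ ∈ H := by
  induction i with
  | zero => intro a ha; simpa using ha
  | succ i ih =>
    intro a ha
    have e : x ^ (i + 1) * a * (x ^ (i + 1))⁻¹ = x ^ i * (x * a * x⁻¹) * (x ^ i)⁻¹ := by
      rw [pow_succ]; group
    rw [e]
    exact ih _ (h a ha)

theorem g2i_conj_comm {G : Type*} [Group G] {u v : G} (hc : u * v = v * u) (a : G) :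
    u * (v * a * v⁻¹) * u⁻¹ = v * (u * a * u⁻¹) * v⁻¹ := by
  calc u * (v * a * v⁻¹) * u⁻¹ = (u * v) * a * (u * v)⁻¹ := by group
    _ = (v * u) * a * (v * u)⁻¹ := by rw [hc]
    _ = v * (u * a * u⁻¹) * v⁻¹ := by group

theorem g2_inter {G : Type*} [Group G] [Finite G] (S Z R : Subgroup G) (x : G) (n j : ℕ)
    (hj : j ≤ n) (hx : x ^ 2 ^ (n + 1) = 1) (hZR : Z ≤ R) (hRS : R ≤ S)
    (hxS : ∀ a ∈ S, x * a * x⁻¹ ∈ S) (hxZ : ∀ z ∈ Z, x * z * x⁻¹ ∈ Z)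
    (hcomm : ∀ a ∈ S, ∀ b ∈ S, a * b * a⁻¹ * b⁻¹ ∈ Z)
    (hyR : ∀ a ∈ R, x ^ 2 ^ j * a * (x ^ 2 ^ j)⁻¹ ∈ R)
    (hint : ∀ a ∈ S, (∀ i : ℕ, x ^ i * a * (x ^ i)⁻¹ ∈ R) → a ∈ Z) :
    Nat.card {a : G // a ∈ S ∧ x ^ 2 ^ n * a * (x ^ 2 ^ n)⁻¹ * a ∈ Z} * Nat.card R ^ 2 ^ j ≤
      Nat.card Z * Nat.card {a : G // a ∈ S ∧ x ^ 2 ^ n * a * (x ^ 2 ^ n)⁻¹ * a ∈ R} ^ 2 ^ j ∧
    ((∀ a ∈ S, x ^ 2 ^ n * a * (x ^ 2 ^ n)⁻¹ * a⁻¹ ∈ R →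
        x ^ 2 ^ j * a * (x ^ 2 ^ j)⁻¹ * a⁻¹ ∈ R) →
      ∀ a ∈ S, x ^ 2 ^ n * a * (x ^ 2 ^ n)⁻¹ * a⁻¹ ∈ Z →
        x ^ 2 ^ j * a * (x ^ 2 ^ j)⁻¹ * a⁻¹ ∈ Z) := by
  classical
  have hJpos : 0 < 2 ^ j := pow_pos (by norm_num) j
  have hxiS : ∀ i : ℕ, ∀ a ∈ S, x ^ i * a * (x ^ i)⁻¹ ∈ S := g2i_pow_conj S x hxS
  have hxiZ : ∀ i : ℕ, ∀ a ∈ Z, x ^ i * a * (x ^ i)⁻¹ ∈ Z := g2i_pow_conj Z x hxZ
  have hyk : ∀ k : ℕ, ∀ a ∈ R, (x ^ 2 ^ j) ^ k * a * ((x ^ 2 ^ j) ^ k)⁻¹ ∈ R :=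
    g2i_pow_conj R (x ^ 2 ^ j) hyR
  have hτy : x ^ 2 ^ n = (x ^ 2 ^ j) ^ 2 ^ (n - j) := by
    rw [← pow_mul, ← pow_add, Nat.add_sub_cancel' hj]
  have hτR : ∀ a ∈ R, x ^ 2 ^ n * a * (x ^ 2 ^ n)⁻¹ ∈ R := by
    rw [hτy]; exact hyk _
  -- `R` is normalized by `S`
  have hnorm : ∀ a ∈ S, ∀ r ∈ R, a * r * a⁻¹ ∈ R := by
    intro a ha r hr
    have e : a * r * a⁻¹ = (a * r * a⁻¹ * r⁻¹) * r := by group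
    rw [e]
    exact R.mul_mem (hZR (hcomm a ha r (hRS hr))) hr
  -- the key lemma
  have hK : ∀ c ∈ S, (∀ i < 2 ^ j, x ^ i * c * (x ^ i)⁻¹ ∈ R) → c ∈ Z := by
    intro c hc h
    apply hint c hc
    intro i
    have e1 : x ^ i = (x ^ 2 ^ j) ^ (i / 2 ^ j) * x ^ (i % 2 ^ j) := by
      rw [← pow_mul, ← pow_add, Nat.div_add_mod]
    have e2 : x ^ i * c * (x ^ i)⁻¹ = (x ^ 2 ^ j) ^ (i / 2 ^ j) *
        (x ^ (i % 2 ^ j) * c * (x ^ (i % 2 ^ j))⁻¹) * ((x ^ 2 ^ j) ^ (i / 2 ^ j))⁻¹ := by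
      rw [e1]; group
    rw [e2]
    exact hyk _ _ (h _ (Nat.mod_lt _ hJpos))
  -- `τ` commutes with the powers of `x`
  have hτc : ∀ i : ℕ, x ^ 2 ^ n * x ^ i = x ^ i * x ^ 2 ^ n := fun i => pow_mul_comm x _ _
  have hyc : ∀ i : ℕ, x ^ 2 ^ j * x ^ i = x ^ i * x ^ 2 ^ j := fun i => pow_mul_comm x _ _
  constructor
  · -- the counting inequality
    -- well-definedness of the map
    have hΘ : ∀ a : G, a ∈ S → x ^ 2 ^ n * a * (x ^ 2 ^ n)⁻¹ * a ∈ Z → ∀ (i : ℕ) (r : G), r ∈ R →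
        (x ^ i * a * (x ^ i)⁻¹ * r ∈ S ∧
          x ^ 2 ^ n * (x ^ i * a * (x ^ i)⁻¹ * r) * (x ^ 2 ^ n)⁻¹ * (x ^ i * a * (x ^ i)⁻¹ * r) ∈ R) := by
      intro a ha haZ i r hr
      have hgS : x ^ i * a * (x ^ i)⁻¹ ∈ S := hxiS i a ha
      have hgZ : x ^ 2 ^ n * (x ^ i * a * (x ^ i)⁻¹) * (x ^ 2 ^ n)⁻¹ * (x ^ i * a * (x ^ i)⁻¹) ∈ Z := by
        rw [g2i_conj_comm (hτc i)]
        have e : x ^ i * (x ^ 2 ^ n * a * (x ^ 2 ^ n)⁻¹) * (x ^ i)⁻¹ * (x ^ i * a * (x ^ i)⁻¹) =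
            x ^ i * (x ^ 2 ^ n * a * (x ^ 2 ^ n)⁻¹ * a) * (x ^ i)⁻¹ := by group
        rw [e]
        exact hxiZ i _ haZ
      refine ⟨S.mul_mem hgS (hRS hr), ?_⟩
      have e : x ^ 2 ^ n * (x ^ i * a * (x ^ i)⁻¹ * r) * (x ^ 2 ^ n)⁻¹ * (x ^ i * a * (x ^ i)⁻¹ * r) =
          (x ^ 2 ^ n * (x ^ i * a * (x ^ i)⁻¹) * (x ^ 2 ^ n)⁻¹ * (x ^ i * a * (x ^ i)⁻¹)) *
            ((x ^ i * a * (x ^ i)⁻¹)⁻¹ * (x ^ 2 ^ n * r * (x ^ 2 ^ n)⁻¹) * ((x ^ i * a * (x ^ i)⁻¹)⁻¹)⁻¹) *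
            r := by group
      rw [e]
      exact R.mul_mem (R.mul_mem (hZR hgZ) (hnorm _ (S.inv_mem hgS) _ (hτR r hr))) hr
    let Θ : {a : G // a ∈ S ∧ x ^ 2 ^ n * a * (x ^ 2 ^ n)⁻¹ * a ∈ Z} × (Fin (2 ^ j) → R) →
        (Fin (2 ^ j) → {a : G // a ∈ S ∧ x ^ 2 ^ n * a * (x ^ 2 ^ n)⁻¹ * a ∈ R}) :=
      fun p i => ⟨x ^ (i : ℕ) * p.1.1 * (x ^ (i : ℕ))⁻¹ * (p.2 i : G),
        hΘ p.1.1 p.1.2.1 p.1.2.2 i (p.2 i) (p.2 i).2⟩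
    have hΘval : ∀ p i, ((Θ p i : {a : G // a ∈ S ∧ x ^ 2 ^ n * a * (x ^ 2 ^ n)⁻¹ * a ∈ R}) : G) =
        x ^ (i : ℕ) * p.1.1 * (x ^ (i : ℕ))⁻¹ * (p.2 i : G) := fun p i => rfl
    -- fibres
    have hF : ∀ p q, Θ p = Θ q → (q.1.1)⁻¹ * p.1.1 ∈ Z := by
      intro p q hpq
      apply hK _ (S.mul_mem (S.inv_mem q.1.2.1) p.1.2.1)
      intro i hi
      have h := congrArg (fun w => ((w ⟨i, hi⟩ :
        {a : G // a ∈ S ∧ x ^ 2 ^ n * a * (x ^ 2 ^ n)⁻¹ * a ∈ R}) : G)) hpq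
      simp only [hΘval] at h
      have h' : x ^ i * p.1.1 * (x ^ i)⁻¹ =
          x ^ i * q.1.1 * (x ^ i)⁻¹ * (q.2 ⟨i, hi⟩ : G) * ((p.2 ⟨i, hi⟩ : G))⁻¹ :=
        eq_mul_inv_of_mul_eq h
      have e : x ^ i * ((q.1.1)⁻¹ * p.1.1) * (x ^ i)⁻¹ =
          (x ^ i * q.1.1 * (x ^ i)⁻¹)⁻¹ * (x ^ i * p.1.1 * (x ^ i)⁻¹) := by group
      rw [e, h']
      have e2 : (x ^ i * q.1.1 * (x ^ i)⁻¹)⁻¹ *
          (x ^ i * q.1.1 * (x ^ i)⁻¹ * (q.2 ⟨i, hi⟩ : G) * ((p.2 ⟨i, hi⟩ : G))⁻¹) =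
          (q.2 ⟨i, hi⟩ : G) * ((p.2 ⟨i, hi⟩ : G))⁻¹ := by group
      rw [e2]
      exact R.mul_mem (q.2 ⟨i, hi⟩).2 (R.inv_mem (p.2 ⟨i, hi⟩).2)
    have : Nonempty {a : G // a ∈ S ∧ x ^ 2 ^ n * a * (x ^ 2 ^ n)⁻¹ * a ∈ Z} :=
      ⟨⟨1, S.one_mem, by simp [Z.one_mem]⟩⟩
    let Ψ : {a : G // a ∈ S ∧ x ^ 2 ^ n * a * (x ^ 2 ^ n)⁻¹ * a ∈ Z} × (Fin (2 ^ j) → R) →
        Z × (Fin (2 ^ j) → {a : G // a ∈ S ∧ x ^ 2 ^ n * a * (x ^ 2 ^ n)⁻¹ * a ∈ R}) :=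
      fun p => (⟨((Function.invFun Θ (Θ p)).1.1)⁻¹ * p.1.1,
        hF p (Function.invFun Θ (Θ p)) (Function.invFun_eq ⟨p, rfl⟩).symm⟩, Θ p)
    have hΨ : Function.Injective Ψ := by
      intro p p' h
      have h2 : Θ p = Θ p' := congrArg Prod.snd h
      have h1 := congrArg (fun w => ((w.1 : Z) : G)) h
      simp only [Ψ] at h1
      rw [h2] at h1
      have h3 : p.1.1 = p'.1.1 := mul_left_cancel h1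
      have h4 : p.1 = p'.1 := Subtype.ext h3
      have h5 : p.2 = p'.2 := by
        funext i
        have h := congrArg (fun w => ((w i :
          {a : G // a ∈ S ∧ x ^ 2 ^ n * a * (x ^ 2 ^ n)⁻¹ * a ∈ R}) : G)) h2
        simp only [hΘval] at h
        rw [h3] at h
        exact Subtype.ext (mul_left_cancel h)
      exact Prod.ext h4 h5
    have hcard := Nat.card_le_card_of_injective Ψ hΨ
    rw [Nat.card_prod, Nat.card_prod, Nat.card_fun, Nat.card_fun, Nat.card_fin] at hcard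
    exact hcard
  · -- the transfer
    intro H a ha haZ
    have hcS : x ^ 2 ^ j * a * (x ^ 2 ^ j)⁻¹ * a⁻¹ ∈ S :=
      S.mul_mem (hxiS _ a ha) (S.inv_mem ha)
    apply hint _ hcS
    intro i
    have haiS : x ^ i * a * (x ^ i)⁻¹ ∈ S := hxiS i a ha
    have h1 : x ^ 2 ^ n * (x ^ i * a * (x ^ i)⁻¹) * (x ^ 2 ^ n)⁻¹ * (x ^ i * a * (x ^ i)⁻¹)⁻¹ ∈ R := by
      rw [g2i_conj_comm (hτc i)]
      have e : x ^ i * (x ^ 2 ^ n * a * (x ^ 2 ^ n)⁻¹) * (x ^ i)⁻¹ * (x ^ i * a * (x ^ i)⁻¹)⁻¹ =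
          x ^ i * (x ^ 2 ^ n * a * (x ^ 2 ^ n)⁻¹ * a⁻¹) * (x ^ i)⁻¹ := by group
      rw [e]
      exact hZR (hxiZ i _ haZ)
    have h2 := H _ haiS h1
    rw [g2i_conj_comm (hyc i)] at h2
    have e : x ^ i * (x ^ 2 ^ j * a * (x ^ 2 ^ j)⁻¹) * (x ^ i)⁻¹ * (x ^ i * a * (x ^ i)⁻¹)⁻¹ =
        x ^ i * (x ^ 2 ^ j * a * (x ^ 2 ^ j)⁻¹ * a⁻¹) * (x ^ i)⁻¹ := by group
    rw [e] at h2
    exact h2

end Cfsg.Agent.Helper23.G2
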