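import Mathlib
import Cfsg.Agent.Lib.Helper40.FlagBruhat

/-!
# The big cell of `GL_n` and Sylow 2-intersections in extensions of `GL_n(2)` of index 2

* `mem_of_conj_mem` : the Borel subgroup `B` (upper triangular matrices) of `GL_n(F)` is
  self-normalizing (one-sided form).
* `bigcell` : if `B ∩ gBg⁻¹ = 1 = B ∩ hBh⁻¹` then `hBh⁻¹ ⊆ c (gBg⁻¹) c⁻¹` for some `c ∈ B`.
* `isPGroup_upperTriangular` : over `ZMod 2`, `B` is a `2`-group.
* `abstract_core` : a finite group `G` with a normal subgroup `N` of index two having such a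
  subgroup `B`: any two Sylow `2`-subgroups of `G` intersect nontrivially.
-/

set_option autoImplicit false

namespace Cfsg.Agent.Helper23.GLBigCell

open Cfsg Cfsg.Agent.Helper40.Flag
open scoped MatrixGroups Pointwise

section Matrices

variable {F : Type*} [Field F] {n : ℕ}

/-- entries of a conjugate by a permutation matrix -/
theorem pm_conj_apply (w : Equiv.Perm (Fin n)) (M : GL (Fin n) F) (a b : Fin n) :
    ((pm F n w * M * (pm F n w)⁻¹ : GL (Fin n) F) : Matrix (Fin n) (Fin n) F) a b =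
      (M : Matrix (Fin n) (Fin n) F) (w⁻¹ a) (w⁻¹ b) := by
  rw [← map_inv, Units.val_mul, Units.val_mul, pm_coe, pm_coe, mul_pmat_apply, Matrix.mul_apply]
  have := pmat_mulVec (F := F) w (fun k => (M : Matrix (Fin n) (Fin n) F) k (w⁻¹ b)) a
  simpa [Matrix.mulVec, dotProduct] using this

theorem pm_conj_mem_iff (w : Equiv.Perm (Fin n)) (M : GL (Fin n) F) :
    pm F n w * M * (pm F n w)⁻¹ ∈ upperTriangularGL n F ↔
      ∀ k l : Fin n, w l < w k → (M : Matrix (Fin n) (Fin n) F) k l = 0 := by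
  constructor
  · intro h k l hkl
    have h' : ((pm F n w * M * (pm F n w)⁻¹ : GL (Fin n) F) :
        Matrix (Fin n) (Fin n) F).BlockTriangular id := h
    have h2 := h' (i := w k) (j := w l) hkl
    rw [pm_conj_apply] at h2
    simpa using h2
  · intro h
    change ((pm F n w * M * (pm F n w)⁻¹ : GL (Fin n) F) :
        Matrix (Fin n) (Fin n) F).BlockTriangular id
    intro a b hab
    rw [pm_conj_apply]
    apply h
    simpa using hab

theorem tv_apply (i j : Fin n) (hij : i ≠ j) (c : F) (k l : Fin n) :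
    ((tvGL i j hij c : GL (Fin n) F) : Matrix (Fin n) (Fin n) F) k l =
      if k = l then 1 else if k = i ∧ l = j then c else 0 := by
  rw [tvGL_coe, Matrix.transvection, Matrix.add_apply, Matrix.one_apply, Matrix.single_apply]
  by_cases hkl : k = l
  · subst hkl
    have : ¬ (i = k ∧ j = k) := fun h => hij (h.1.trans h.2.symm)
    simp [this]
  · by_cases h2 : k = i ∧ l = j
    · obtain ⟨rfl, rfl⟩ := h2
      simp [hkl]
    · have : ¬ (i = k ∧ j = l) := fun h => h2 ⟨h.1.symm, h.2.symm⟩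
      simp [hkl, h2, this]

theorem perm_eq_one_of_strictMono (τ : Equiv.Perm (Fin n)) (h : ∀ i j, i < j → τ i < τ j) :
    τ = 1 := by
  have hm : StrictMono τ := fun i j hij => h i j hij
  have hm' : StrictMono (τ⁻¹ : Equiv.Perm (Fin n)) := by
    intro a b hab
    by_contra hcon
    have hle : τ⁻¹ b ≤ τ⁻¹ a := not_lt.mp hcon
    have := hm.monotone hle
    simp only [Equiv.Perm.coe_inv, Equiv.apply_symm_apply] at this
    exact absurd hab (not_lt.mpr this)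
  apply Equiv.ext
  intro i
  have h1 : i ≤ τ i := hm.le_apply
  have h2 : τ i ≤ τ⁻¹ (τ i) := hm'.le_apply
  simp only [Equiv.Perm.coe_inv, Equiv.symm_apply_apply] at h2
  exact le_antisymm h2 h1

/-- the Borel subgroup is self-normalizing (one-sided form) -/
theorem mem_of_conj_mem (g : GL (Fin n) F)
    (hg : ∀ u ∈ upperTriangularGL n F, g * u * g⁻¹ ∈ upperTriangularGL n F) :
    g ∈ upperTriangularGL n F := by
  obtain ⟨b, hb, w, b', hb', rfl⟩ := bruhat g
  have hw : ∀ i j : Fin n, i < j → w i < w j := by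
    intro i j hij
    have hT := tvGL_mem (F := F) i j hij 1
    have hu : b'⁻¹ * tvGL i j hij.ne 1 * b' ∈ upperTriangularGL n F :=
      mul_mem (mul_mem (inv_mem hb') hT) hb'
    have h1 := hg _ hu
    have h2 : pm F n w * tvGL i j hij.ne 1 * (pm F n w)⁻¹ ∈ upperTriangularGL n F := by
      have : pm F n w * tvGL i j hij.ne 1 * (pm F n w)⁻¹ =
          b⁻¹ * ((b * pm F n w * b') * (b'⁻¹ * tvGL i j hij.ne 1 * b') *
            (b * pm F n w * b')⁻¹) * b := by group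
      rw [this]
      exact mul_mem (mul_mem (inv_mem hb) h1) hb
    rw [pm_conj_mem_iff] at h2
    by_contra hcon
    have hne : w j ≠ w i := fun h => hij.ne (w.injective h).symm
    have hlt : w j < w i := lt_of_le_of_ne (not_lt.mp hcon) hne
    have h3 := h2 i j hlt
    rw [tv_apply] at h3
    simp [hij.ne] at h3
  have hw1 : w = 1 := perm_eq_one_of_strictMono w hw
  subst hw1
  rw [map_one, mul_one]
  exact mul_mem hb hb'

theorem antitone_of_disjoint (b b' : GL (Fin n) F) (hb : b ∈ upperTriangularGL n F)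
    (hb' : b' ∈ upperTriangularGL n F) (w : Equiv.Perm (Fin n))
    (hg : ∀ u ∈ upperTriangularGL n F,
      (b * pm F n w * b')⁻¹ * u * (b * pm F n w * b') ∈ upperTriangularGL n F → u = 1) :
    ∀ i j : Fin n, i < j → w j < w i := by
  intro i j hij
  by_contra hcon
  have hne : w i ≠ w j := fun h => hij.ne (w.injective h)
  have hlt : w i < w j := lt_of_le_of_ne (not_lt.mp hcon) hne
  have hv : tvGL i j hij.ne (1 : F) ∈ upperTriangularGL n F := tvGL_mem i j hij 1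
  have hX : pm F n w * tvGL i j hij.ne (1 : F) * (pm F n w)⁻¹ ∈ upperTriangularGL n F := by
    rw [pm_conj_mem_iff]
    intro k l hkl
    rw [tv_apply]
    have hkl' : k ≠ l := fun h => by subst h; exact lt_irrefl _ hkl
    rw [if_neg hkl', if_neg]
    rintro ⟨rfl, rfl⟩
    exact lt_asymm hkl hlt
  have hu : b * (pm F n w * tvGL i j hij.ne (1 : F) * (pm F n w)⁻¹) * b⁻¹ ∈
      upperTriangularGL n F := mul_mem (mul_mem hb hX) (inv_mem hb)
  have hu2 : (b * pm F n w * b')⁻¹ *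
      (b * (pm F n w * tvGL i j hij.ne (1 : F) * (pm F n w)⁻¹) * b⁻¹) * (b * pm F n w * b') ∈
      upperTriangularGL n F := by
    have : (b * pm F n w * b')⁻¹ *
        (b * (pm F n w * tvGL i j hij.ne (1 : F) * (pm F n w)⁻¹) * b⁻¹) * (b * pm F n w * b') =
        b'⁻¹ * tvGL i j hij.ne (1 : F) * b' := by group
    rw [this]
    exact mul_mem (mul_mem (inv_mem hb') hv) hb'
  have h1 := hg _ hu hu2
  have hv1 : tvGL i j hij.ne (1 : F) = 1 := by
    have : tvGL i j hij.ne (1 : F) = (pm F n w)⁻¹ * (b⁻¹ *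
        (b * (pm F n w * tvGL i j hij.ne (1 : F) * (pm F n w)⁻¹) * b⁻¹) * b) * pm F n w := by
      group
    rw [this, h1]
    group
  have h3 : ((tvGL i j hij.ne (1 : F) : GL (Fin n) F) : Matrix (Fin n) (Fin n) F) i j =
      (1 : Matrix (Fin n) (Fin n) F) i j := by rw [hv1]; rfl
  rw [tv_apply, Matrix.one_apply] at h3
  simp [hij.ne] at h3

/-- the opposite Borel subgroups form a single orbit under `B` -/
theorem bigcell (g h : GL (Fin n) F)
    (hg : ∀ u ∈ upperTriangularGL n F, g⁻¹ * u * g ∈ upperTriangularGL n F → u = 1)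
    (hh : ∀ u ∈ upperTriangularGL n F, h⁻¹ * u * h ∈ upperTriangularGL n F → u = 1) :
    ∃ c ∈ upperTriangularGL n F, ∀ u ∈ upperTriangularGL n F,
      ∃ u' ∈ upperTriangularGL n F, h * u * h⁻¹ = c * (g * u' * g⁻¹) * c⁻¹ := by
  obtain ⟨b₁, hb₁, w₁, b₁', hb₁', rfl⟩ := bruhat g
  obtain ⟨b₂, hb₂, w₂, b₂', hb₂', rfl⟩ := bruhat h
  have a1 := antitone_of_disjoint b₁ b₁' hb₁ hb₁' w₁ hg
  have a2 := antitone_of_disjoint b₂ b₂' hb₂ hb₂' w₂ hh
  have hw : w₁ = w₂ := by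
    have h1 : w₂⁻¹ * w₁ = 1 := by
      apply perm_eq_one_of_strictMono
      intro i j hij
      show w₂⁻¹ (w₁ i) < w₂⁻¹ (w₁ j)
      by_contra hcon
      have hne : w₂⁻¹ (w₁ j) ≠ w₂⁻¹ (w₁ i) :=
        fun h => hij.ne (w₁.injective (w₂⁻¹.injective h)).symm
      have hlt : w₂⁻¹ (w₁ j) < w₂⁻¹ (w₁ i) := lt_of_le_of_ne (not_lt.mp hcon) hne
      have h3 := a2 _ _ hlt
      simp only [Equiv.Perm.coe_inv, Equiv.apply_symm_apply] at h3
      exact lt_asymm h3 (a1 i j hij)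
    exact (inv_mul_eq_one.mp h1).symm
  subst hw
  refine ⟨b₂ * b₁⁻¹, mul_mem hb₂ (inv_mem hb₁), ?_⟩
  intro u hu
  refine ⟨b₁'⁻¹ * (b₂' * u * b₂'⁻¹) * b₁', ?_, by group⟩
  exact mul_mem (mul_mem (inv_mem hb₁') (mul_mem (mul_mem hb₂' hu) (inv_mem hb₂'))) hb₁'

end Matrices


section CharTwo

variable {n : ℕ}

theorem one_add_pow_two_pow (C : Matrix (Fin n) (Fin n) (ZMod 2)) (k : ℕ) :
    (1 + C) ^ (2 ^ k) = 1 + C ^ (2 ^ k) := by
  induction k with
  | zero => simp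
  | succ k ih =>
    have key : ∀ D : Matrix (Fin n) (Fin n) (ZMod 2), (1 + D) ^ 2 = 1 + D ^ 2 := by
      intro D
      have h2 : D + D = 0 := by
        ext i j
        simp only [Matrix.add_apply, Matrix.zero_apply]
        exact CharTwo.add_self_eq_zero _
      calc (1 + D) ^ 2 = 1 + (D + D) + D ^ 2 := by noncomm_ring
        _ = 1 + D ^ 2 := by rw [h2, add_zero]
    rw [pow_succ, pow_mul, ih, pow_mul]
    exact key _

theorem zmod2_eq_one : ∀ x : ZMod 2, x ≠ 0 → x = 1 := by decide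

/-- over the field with two elements the Borel subgroup is a `2`-group -/
theorem isPGroup_upperTriangular : IsPGroup 2 (upperTriangularGL n (ZMod 2)) := by
  intro g
  refine ⟨n, ?_⟩
  have hg : ((g : GL (Fin n) (ZMod 2)) : Matrix (Fin n) (Fin n) (ZMod 2)).BlockTriangular id :=
    g.2
  have hdiag : ∀ i, ((g : GL (Fin n) (ZMod 2)) : Matrix (Fin n) (Fin n) (ZMod 2)) i i = 1 := by
    intro i
    have hdet := Matrix.GeneralLinearGroup.det_ne_zero (g : GL (Fin n) (ZMod 2))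
    rw [Matrix.det_of_isUpperTriangular hg] at hdet
    have hne : ((g : GL (Fin n) (ZMod 2)) : Matrix (Fin n) (Fin n) (ZMod 2)) i i ≠ 0 :=
      fun h0 => hdet (Finset.prod_eq_zero (Finset.mem_univ i) h0)
    exact zmod2_eq_one _ hne
  have hchar : ((g : GL (Fin n) (ZMod 2)) : Matrix (Fin n) (Fin n) (ZMod 2)).charpoly =
      (Polynomial.X - Polynomial.C 1) ^ n := by
    rw [Matrix.charpoly_of_isUpperTriangular _ hg]
    simp [hdiag]
  have hnil : (((g : GL (Fin n) (ZMod 2)) : Matrix (Fin n) (Fin n) (ZMod 2)) - 1) ^ n = 0 := by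
    have h := Matrix.aeval_self_charpoly
      ((g : GL (Fin n) (ZMod 2)) : Matrix (Fin n) (Fin n) (ZMod 2))
    rw [hchar] at h
    simpa using h
  have hpow : ((g : GL (Fin n) (ZMod 2)) : Matrix (Fin n) (Fin n) (ZMod 2)) ^ (2 ^ n) = 1 := by
    have h1 : ((g : GL (Fin n) (ZMod 2)) : Matrix (Fin n) (Fin n) (ZMod 2)) ^ (2 ^ n) =
        (1 + (((g : GL (Fin n) (ZMod 2)) : Matrix (Fin n) (Fin n) (ZMod 2)) - 1)) ^ (2 ^ n) := by
      congr 1
      abel
    rw [h1, one_add_pow_two_pow]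
    have h2 : (((g : GL (Fin n) (ZMod 2)) : Matrix (Fin n) (Fin n) (ZMod 2)) - 1) ^ (2 ^ n) =
        0 := by
      have hle : n ≤ 2 ^ n := Nat.lt_two_pow_self.le
      rw [← Nat.sub_add_cancel hle, pow_add, hnil, mul_zero]
    rw [h2, add_zero]
  apply Subtype.ext
  apply Units.ext
  rw [Subgroup.coe_pow, Units.val_pow_eq_pow_val]
  exact hpow

theorem toGL_bijective : Function.Bijective
    (Matrix.SpecialLinearGroup.toGL :
      Matrix.SpecialLinearGroup (Fin n) (ZMod 2) → GL (Fin n) (ZMod 2)) := by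
  refine ⟨Matrix.SpecialLinearGroup.toGL_injective, ?_⟩
  intro g
  have hdet : (g : Matrix (Fin n) (Fin n) (ZMod 2)).det = 1 :=
    zmod2_eq_one _ (Matrix.GeneralLinearGroup.det_ne_zero g)
  refine ⟨⟨(g : Matrix (Fin n) (Fin n) (ZMod 2)), hdet⟩, ?_⟩
  apply Units.ext
  rfl

end CharTwo

section Abstract

variable {G : Type*} [Group G]

theorem mem_conj_smul {K : Subgroup G} {g s : G} :
    s ∈ MulAut.conj g • K ↔ g⁻¹ * s * g ∈ K := by
  rw [Subgroup.mem_pointwise_smul_iff_inv_smul_mem, MulAut.smul_def, MulAut.conj_inv_apply]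

/-- Abstract form: `N` normal of index two in the finite group `G`, `B ≤ N` a self-normalizing
`2`-subgroup of `N` whose `N`-conjugates opposite to `B` form one `B`-orbit. Then any two Sylow
`2`-subgroups of `G` meet nontrivially. -/
theorem abstract_core [Finite G] (N : Subgroup G) [N.Normal] (hidx : N.index = 2)
    (B : Subgroup G) (hBN : B ≤ N) (hB : IsPGroup 2 B)
    (h2 : ∀ g ∈ N, (∀ u ∈ B, g * u * g⁻¹ ∈ B) → g ∈ B)
    (h3 : ∀ g ∈ N, ∀ h ∈ N, (∀ u ∈ B, g⁻¹ * u * g ∈ B → u = 1) →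
      (∀ u ∈ B, h⁻¹ * u * h ∈ B → u = 1) →
      ∃ c ∈ B, ∀ u ∈ B, ∃ u' ∈ B, h * u * h⁻¹ = c * (g * u' * g⁻¹) * c⁻¹)
    (H : Sylow 2 G) (x : G) :
    (H : Subgroup G) ⊓ MulAut.conj x • (H : Subgroup G) ≠ ⊥ := by
  have : Fact (Nat.Prime 2) := ⟨Nat.prime_two⟩
  -- Step 1: `B` is a Sylow 2-subgroup of `N`
  have hB' : IsPGroup 2 (B.subgroupOf N) := hB.comap_subtype
  have hnorm : Subgroup.normalizer ((B.subgroupOf N : Subgroup N) : Set N) = B.subgroupOf N := by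
    apply le_antisymm
    · intro g hg
      rw [Subgroup.mem_normalizer_iff] at hg
      rw [Subgroup.mem_subgroupOf]
      apply h2 (g : G) g.2
      intro u hu
      have h1 : (⟨u, hBN hu⟩ : N) ∈ B.subgroupOf N := by
        rw [Subgroup.mem_subgroupOf]; exact hu
      have h4 := (hg _).mp h1
      rw [Subgroup.mem_subgroupOf] at h4
      simpa using h4
    · exact Subgroup.le_normalizer
  obtain ⟨k, hk⟩ := hB'.exists_card_eq
  have hnd : ¬ 2 ∣ (B.subgroupOf N).index := by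
    intro hdvd
    have hmod := Sylow.card_normalizer_modEq_card (p := 2) hk
    rw [hnorm, hk] at hmod
    have hcard : Nat.card N = 2 ^ k * (B.subgroupOf N).index := by
      rw [← hk]; exact (Subgroup.card_mul_index _).symm
    have hdiv : 2 ^ (k + 1) ∣ Nat.card N := by
      rw [hcard, pow_succ]
      exact Nat.mul_dvd_mul_left _ hdvd
    have h0 : Nat.card N ≡ 0 [MOD 2 ^ (k + 1)] := (Nat.modEq_zero_iff_dvd).mpr hdiv
    have h5 : 2 ^ (k + 1) ∣ 2 ^ k := (Nat.modEq_zero_iff_dvd).mp (hmod.trans h0)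
    have h6 := Nat.le_of_dvd (by positivity) h5
    have h7 : 2 ^ k < 2 ^ (k + 1) := Nat.pow_lt_pow_right (by norm_num) (Nat.lt_succ_self k)
    omega
  obtain ⟨Q, hQ⟩ := (hB'.toSylow hnd).exists_comap_subtype_eq
  have hBQ : ∀ y ∈ N, (y ∈ B ↔ y ∈ (Q : Subgroup G)) := by
    intro y hy
    have h1 := SetLike.ext_iff.mp hQ ⟨y, hy⟩
    simp only [Subgroup.mem_comap, Subgroup.coe_subtype, IsPGroup.toSylow_coe,
      Subgroup.mem_subgroupOf] at h1
    exact h1.symm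
  have hBleQ : B ≤ (Q : Subgroup G) := fun y hy => (hBQ y (hBN hy)).mp hy
  -- Step 3: `Q` is not contained in `N`
  obtain ⟨t₀, ht₀, ht₀N⟩ : ∃ t₀ ∈ (Q : Subgroup G), t₀ ∉ N := by
    by_contra hcon
    push Not at hcon
    have hQN : (Q : Subgroup G) ≤ N := hcon
    have h1 := Subgroup.relIndex_mul_index hQN
    rw [hidx] at h1
    exact Q.not_dvd_index ⟨_, (h1.symm.trans (mul_comm _ _))⟩
  -- Step 4: `Q` normalizes `B`
  have hQnorm : ∀ q ∈ (Q : Subgroup G), ∀ u ∈ B, q * u * q⁻¹ ∈ B := by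
    intro q hq u hu
    have huN : q * u * q⁻¹ ∈ N := Subgroup.Normal.conj_mem inferInstance u (hBN hu) q
    exact (hBQ _ huN).mpr (mul_mem (mul_mem hq (hBleQ hu)) (inv_mem hq))
  have hone : (1 : G) ∈ N := one_mem N
  -- Step 5: the core for elements of `N`
  have core : ∀ m ∈ N, ∃ t ∈ (Q : Subgroup G), t ≠ 1 ∧ m⁻¹ * t * m ∈ (Q : Subgroup G) := by
    intro m hm
    by_cases hA : ∃ u ∈ B, u ≠ 1 ∧ m⁻¹ * u * m ∈ B
    · obtain ⟨u, hu, hu1, hum⟩ := hA
      exact ⟨u, hBleQ hu, hu1, hBleQ hum⟩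
    · have hA' : ∀ u ∈ B, m⁻¹ * u * m ∈ B → u = 1 := by
        intro u hu hum
        by_contra hu1
        exact hA ⟨u, hu, hu1, hum⟩
      have hm₁ : t₀ * m * t₀⁻¹ ∈ N := Subgroup.Normal.conj_mem inferInstance m hm t₀
      have ht₀inv : t₀⁻¹ ∈ (Q : Subgroup G) := inv_mem ht₀
      have hA₁ : ∀ u ∈ B, (t₀ * m * t₀⁻¹)⁻¹ * u * (t₀ * m * t₀⁻¹) ∈ B → u = 1 := by
        intro u hu hum
        have h1 := hQnorm t₀⁻¹ ht₀inv _ hum
        have h4 : t₀⁻¹ * ((t₀ * m * t₀⁻¹)⁻¹ * u * (t₀ * m * t₀⁻¹)) * t₀⁻¹⁻¹ =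
            m⁻¹ * (t₀⁻¹ * u * t₀⁻¹⁻¹) * m := by group
        rw [h4] at h1
        have h5 := hA' _ (hQnorm t₀⁻¹ ht₀inv u hu) h1
        have h6 : u = t₀ * (t₀⁻¹ * u * t₀⁻¹⁻¹) * t₀⁻¹ := by group
        rw [h6, h5]
        group
      obtain ⟨c, hc, hcu⟩ := h3 m hm _ hm₁ hA' hA₁
      have htQ : c⁻¹ * t₀ ∈ (Q : Subgroup G) := mul_mem (inv_mem (hBleQ hc)) ht₀
      have htN : c⁻¹ * t₀ ∉ N := by
        intro h
        apply ht₀N
        have : t₀ = c * (c⁻¹ * t₀) := by group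
        rw [this]
        exact mul_mem (hBN hc) h
      have ht1 : c⁻¹ * t₀ ≠ 1 := fun h => htN (h ▸ hone)
      refine ⟨c⁻¹ * t₀, htQ, ht1, ?_⟩
      -- `s = m⁻¹ t m` normalizes `B`
      have hs : ∀ u ∈ B, (m⁻¹ * (c⁻¹ * t₀) * m) * u * (m⁻¹ * (c⁻¹ * t₀) * m)⁻¹ ∈ B := by
        intro u hu
        obtain ⟨u', hu', he⟩ := hcu (t₀ * u * t₀⁻¹) (hQnorm t₀ ht₀ u hu)
        have e1 : t₀ * m * u * m⁻¹ * t₀⁻¹ = c * (m * u' * m⁻¹) * c⁻¹ := by
          rw [← he]; group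
        have e2 : (m⁻¹ * (c⁻¹ * t₀) * m) * u * (m⁻¹ * (c⁻¹ * t₀) * m)⁻¹ =
            m⁻¹ * c⁻¹ * (t₀ * m * u * m⁻¹ * t₀⁻¹) * c * m := by group
        rw [e2, e1]
        have e3 : m⁻¹ * c⁻¹ * (c * (m * u' * m⁻¹) * c⁻¹) * c * m = u' := by group
        rw [e3]
        exact hu'
      have hsN : m⁻¹ * (c⁻¹ * t₀) * m ∉ N := by
        intro h
        apply htN
        have : c⁻¹ * t₀ = m * (m⁻¹ * (c⁻¹ * t₀) * m) * m⁻¹ := by group
        rw [this]
        exact mul_mem (mul_mem hm h) (inv_mem hm)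
      have ht₀invN : t₀⁻¹ ∉ N := fun h => ht₀N (by simpa using inv_mem h)
      have hzN : (m⁻¹ * (c⁻¹ * t₀) * m) * t₀⁻¹ ∈ N :=
        (Subgroup.mul_mem_iff_of_index_two hidx).mpr
          ⟨fun h => absurd h hsN, fun h => absurd h ht₀invN⟩
      have hz : ∀ u ∈ B, ((m⁻¹ * (c⁻¹ * t₀) * m) * t₀⁻¹) * u *
          ((m⁻¹ * (c⁻¹ * t₀) * m) * t₀⁻¹)⁻¹ ∈ B := by
        intro u hu
        have h1 := hs _ (hQnorm t₀⁻¹ ht₀inv u hu)
        have e : ((m⁻¹ * (c⁻¹ * t₀) * m) * t₀⁻¹) * u * ((m⁻¹ * (c⁻¹ * t₀) * m) * t₀⁻¹)⁻¹ =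
            (m⁻¹ * (c⁻¹ * t₀) * m) * (t₀⁻¹ * u * t₀⁻¹⁻¹) * (m⁻¹ * (c⁻¹ * t₀) * m)⁻¹ := by group
        rw [e]
        exact h1
      have hzB := h2 _ hzN hz
      have e4 : m⁻¹ * (c⁻¹ * t₀) * m = ((m⁻¹ * (c⁻¹ * t₀) * m) * t₀⁻¹) * t₀ := by group
      rw [e4]
      exact mul_mem (hBleQ hzB) ht₀
  -- Step 6: the core for all elements
  have core' : ∀ y : G, ∃ t ∈ (Q : Subgroup G), t ≠ 1 ∧ y⁻¹ * t * y ∈ (Q : Subgroup G) := by
    intro y
    by_cases hy : y ∈ N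
    · exact core y hy
    · have ht₀invN : t₀⁻¹ ∉ N := fun h => ht₀N (by simpa using inv_mem h)
      have hmN : t₀⁻¹ * y ∈ N :=
        (Subgroup.mul_mem_iff_of_index_two hidx).mpr
          ⟨fun h => absurd h ht₀invN, fun h => absurd h hy⟩
      obtain ⟨t₁, ht₁, ht₁1, ht₁m⟩ := core _ hmN
      refine ⟨t₀ * t₁ * t₀⁻¹, mul_mem (mul_mem ht₀ ht₁) (inv_mem ht₀), ?_, ?_⟩
      · intro h
        apply ht₁1
        have : t₁ = t₀⁻¹ * (t₀ * t₁ * t₀⁻¹) * t₀ := by group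
        rw [this, h]
        group
      · have : y⁻¹ * (t₀ * t₁ * t₀⁻¹) * y = (t₀⁻¹ * y)⁻¹ * t₁ * (t₀⁻¹ * y) := by group
        rw [this]
        exact ht₁m
  -- Step 7: transfer to `H`
  obtain ⟨g, hg⟩ := MulAction.exists_smul_eq G Q H
  have hH : (H : Subgroup G) = MulAut.conj g • (Q : Subgroup G) := by
    rw [← hg]; rfl
  obtain ⟨t, ht, ht1, hty⟩ := core' (g⁻¹ * x * g)
  intro hbot
  have hmem : g * t * g⁻¹ ∈ (H : Subgroup G) ⊓ MulAut.conj x • (H : Subgroup G) := by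
    refine Subgroup.mem_inf.mpr ⟨?_, ?_⟩
    · rw [hH, mem_conj_smul]
      have : g⁻¹ * (g * t * g⁻¹) * g = t := by group
      rw [this]; exact ht
    · rw [mem_conj_smul, hH, mem_conj_smul]
      have : g⁻¹ * (x⁻¹ * (g * t * g⁻¹) * x) * g = (g⁻¹ * x * g)⁻¹ * t * (g⁻¹ * x * g) := by group
      rw [this]; exact hty
  rw [hbot, Subgroup.mem_bot] at hmem
  apply ht1
  have : t = g⁻¹ * (g * t * g⁻¹) * g := by group
  rw [this, hmem]
  group

end Abstract

end Cfsg.Agent.Helper23.GLBigCell
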