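import Mathlib

/-!
# GS4 (V): the `t`-invariant complement `V = [K, t]` (helper87 server, S2608)
-/

set_option autoImplicit false

namespace Cfsg.Agent.Helper23.GS4

/-- the commutator map `k ↦ k⁻¹ (t k t⁻¹)` as a hom `K →* G` (`K` abelian normal). -/
def kappa {G : Type*} [Group G] (K : Subgroup G) [hKn : K.Normal]
    (hab : ∀ a ∈ K, ∀ b ∈ K, a * b = b * a) (t : G) : K →* G where
  toFun k := (k : G)⁻¹ * (t * k * t⁻¹)
  map_one' := by simp
  map_mul' a b := by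
    have h1 : t * (a : G) * t⁻¹ ∈ K := hKn.conj_mem _ a.2 t
    have h2 := hab _ (K.inv_mem b.2) _ (K.mul_mem (K.inv_mem a.2) h1)
    simp only [Subgroup.coe_mul]
    calc ((a : G) * b)⁻¹ * (t * ((a : G) * b) * t⁻¹)
        = (b : G)⁻¹ * ((a : G)⁻¹ * (t * a * t⁻¹)) * (t * b * t⁻¹) := by group
      _ = ((a : G)⁻¹ * (t * a * t⁻¹)) * (b : G)⁻¹ * (t * b * t⁻¹) := by rw [h2]
      _ = _ := by group

theorem kappa_apply {G : Type*} [Group G] (K : Subgroup G) [K.Normal]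
    (hab : ∀ a ∈ K, ∀ b ∈ K, a * b = b * a) (t : G) (k : K) :
    kappa K hab t k = (k : G)⁻¹ * (t * k * t⁻¹) := rfl

theorem central_cancel {G : Type*} [Group G] (x : G) (hx : ∀ g : G, x * g = g * x) (t u : G) :
    (u * x)⁻¹ * (t * (u * x) * t⁻¹) = u⁻¹ * (t * u * t⁻¹) := by
  have h1 : t * (u * x) * t⁻¹ = x * (t * u * t⁻¹) := by
    rw [← hx u, ← mul_assoc t x u, ← hx t]; group
  rw [h1, ← hx u]; group

theorem exists_complement {G : Type*} [Group G] [Finite G] (f : ℕ) (hf : 1 ≤ f) (K : Subgroup G)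
    [K.Normal] (hK : Nat.card K = 4 * f) (hab : ∀ a ∈ K, ∀ b ∈ K, a * b = b * a)
    (c : G) (hcK : c ∈ K) (hcz : ∀ g : G, c * g = g * c) (hcf : c ^ f = 1)
    (hcord : ∀ j : ℕ, c ^ j = 1 → f ∣ j)
    (hdec : ∀ k ∈ K, ∃ v ∈ K, ∃ i : ℕ, k = v * c ^ i ∧ v ^ 4 = 1)
    (t : G) (ht3 : t ^ 3 = 1)
    (hconj : ∀ g : G, ∃ k ∈ K, g * t * g⁻¹ = k * t ∨ g * t * g⁻¹ = k * t⁻¹)
    (z : G) (hzK : z ∈ K) (hz2 : z * z = 1) (htz : t * z ≠ z * t) :
    ∃ V : Subgroup G, V.Normal ∧ V ≤ K ∧ Nat.card V = 4 ∧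
      (∀ v ∈ V, ∀ j : ℕ, v = c ^ j → v = 1) ∧ (∀ v ∈ V, t * v = v * t → v = 1) ∧
      (∀ k ∈ K, ∃ v ∈ V, ∃ j : ℕ, k = v * c ^ j) := by
  classical
  have hKn : K.Normal := inferInstance
  have hmemV : ∀ x, x ∈ (kappa K hab t).range ↔ ∃ k ∈ K, x = k⁻¹ * (t * k * t⁻¹) := by
    intro x
    constructor
    · rintro ⟨k, rfl⟩
      exact ⟨k, k.2, rfl⟩
    · rintro ⟨k, hk, rfl⟩
      exact ⟨⟨k, hk⟩, rfl⟩
  have hVK : (kappa K hab t).range ≤ K := by
    intro x hx
    obtain ⟨k, hk, rfl⟩ := (hmemV x).1 hx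
    exact K.mul_mem (K.inv_mem hk) (hKn.conj_mem _ hk t)
  -- exponent 4
  have hV4 : ∀ v ∈ (kappa K hab t).range, v ^ 4 = 1 := by
    intro v hv
    obtain ⟨k, rfl⟩ := hv
    obtain ⟨u, hu, i, hki, hu4⟩ := hdec k k.2
    have hci : ∀ g : G, c ^ i * g = g * c ^ i := fun g =>
      ((show Commute c g from hcz g).pow_left i).eq
    have h1 : kappa K hab t k = kappa K hab t ⟨u, hu⟩ := by
      rw [kappa_apply, kappa_apply, hki]
      exact central_cancel (c ^ i) hci t u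
    rw [h1, ← map_pow]
    have h2 : (⟨u, hu⟩ : K) ^ 4 = 1 := Subtype.ext (by simpa using hu4)
    rw [h2, map_one]
  -- norm relation
  have hnorm : ∀ v ∈ (kappa K hab t).range,
      v * (t * v * t⁻¹) * (t * (t * v * t⁻¹) * t⁻¹) = 1 := by
    intro v hv
    obtain ⟨k, -, rfl⟩ := (hmemV v).1 hv
    have hb : t * (t * (t * k * t⁻¹) * t⁻¹) * t⁻¹ = k := by
      have ht3' : t * t * t = 1 := by rw [← ht3, pow_succ, pow_two]
      have : t * (t * (t * k * t⁻¹) * t⁻¹) * t⁻¹ = (t * t * t) * k * (t * t * t)⁻¹ := by group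
      rw [this, ht3']; simp
    obtain ⟨a, ha⟩ : ∃ a, a = t * k * t⁻¹ := ⟨_, rfl⟩
    obtain ⟨b, hb'⟩ : ∃ b, b = t * a * t⁻¹ := ⟨_, rfl⟩
    rw [← ha] at hb ⊢
    rw [← hb'] at hb
    have e1 : t * (k⁻¹ * a) * t⁻¹ = a⁻¹ * b := by rw [hb', ha]; group
    have e2 : t * (a⁻¹ * b) * t⁻¹ = b⁻¹ * k := by
      have : t * (a⁻¹ * b) * t⁻¹ = (t * a * t⁻¹)⁻¹ * (t * b * t⁻¹) := by group
      rw [this, hb, ← hb']
    rw [e1, e2]; group
  have hCV : ∀ v ∈ (kappa K hab t).range, t * v = v * t → v = 1 := by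
    intro v hv hc
    have h1 : t * v * t⁻¹ = v := by rw [hc]; group
    have h3 := hnorm v hv
    rw [h1, h1] at h3
    have h4 := hV4 v hv
    have h5 : v ^ 3 = 1 := by rw [pow_succ, pow_two]; exact h3
    calc v = v ^ 4 * (v ^ 3)⁻¹ := by group
      _ = 1 := by rw [h4, h5]; simp
  have hVc : ∀ v ∈ (kappa K hab t).range, ∀ j : ℕ, v = c ^ j → v = 1 := by
    intro v hv j hj
    refine hCV v hv ?_
    rw [hj]
    exact ((show Commute c t from hcz t).pow_left j).eq.symm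
  -- normality
  have hVn : ((kappa K hab t).range).Normal := by
    refine ⟨fun x hx g => ?_⟩
    obtain ⟨k, hk, rfl⟩ := (hmemV x).1 hx
    obtain ⟨k0, hk0, hs⟩ := hconj g
    have hk' : g * k * g⁻¹ ∈ K := hKn.conj_mem _ hk g
    obtain ⟨k', hk'e⟩ : ∃ k', k' = g * k * g⁻¹ := ⟨_, rfl⟩
    rw [← hk'e] at hk'
    have e : g * (k⁻¹ * (t * k * t⁻¹)) * g⁻¹
        = k'⁻¹ * ((g * t * g⁻¹) * k' * (g * t * g⁻¹)⁻¹) := by rw [hk'e]; group
    have hcomm : ∀ y ∈ K, k0 * y * k0⁻¹ = y := by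
      intro y hy
      rw [hab k0 hk0 y hy]; group
    rcases hs with hs | hs
    · rw [e, hs]
      have e2 : k0 * t * k' * (k0 * t)⁻¹ = k0 * (t * k' * t⁻¹) * k0⁻¹ := by group
      rw [e2, hcomm _ (hKn.conj_mem _ hk' t)]
      exact (hmemV _).2 ⟨k', hk', rfl⟩
    · rw [e, hs]
      have hk'' : t⁻¹ * k' * t ∈ K := by
        have := hKn.conj_mem _ hk' t⁻¹
        simpa using this
      have e2 : k0 * t⁻¹ * k' * (k0 * t⁻¹)⁻¹ = k0 * (t⁻¹ * k' * t) * k0⁻¹ := by group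
      rw [e2, hcomm _ hk'']
      have e3 : k'⁻¹ * (t⁻¹ * k' * t)
          = ((t⁻¹ * k' * t)⁻¹ * (t * (t⁻¹ * k' * t) * t⁻¹))⁻¹ := by group
      rw [e3]
      exact Subgroup.inv_mem _ ((hmemV _).2 ⟨_, hk'', rfl⟩)
  -- the cyclic group C
  have hord : orderOf c = f :=
    Nat.dvd_antisymm (orderOf_dvd_of_pow_eq_one hcf) (hcord _ (pow_orderOf_eq_one c))
  have hCcard : Nat.card (Subgroup.zpowers c) = f := by rw [Nat.card_zpowers, hord]
  have hCmem : ∀ x ∈ Subgroup.zpowers c, ∃ j : ℕ, c ^ j = x := by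
    intro x hx
    exact (Submonoid.mem_powers_iff _ _).1 (mem_powers_iff_mem_zpowers.2 hx)
  have hCK : Subgroup.zpowers c ≤ K := Subgroup.zpowers_le.2 hcK
  have hdisj : Disjoint (kappa K hab t).range (Subgroup.zpowers c) := by
    rw [Subgroup.disjoint_def]
    intro x hx hxc
    obtain ⟨j, rfl⟩ := hCmem x hxc
    exact hVc _ hx j rfl
  have inj := Subgroup.mul_injective_of_disjoint hdisj
  have hφinj : Function.Injective
      (fun p : (kappa K hab t).range × Subgroup.zpowers c =>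
        (⟨(p.1 : G) * p.2, K.mul_mem (hVK p.1.2) (hCK p.2.2)⟩ : K)) := by
    intro p q hpq
    exact inj (Subtype.ext_iff.1 hpq)
  have hcardle : Nat.card (kappa K hab t).range ≤ 4 := by
    have h := Nat.card_le_card_of_injective _ hφinj
    rw [Nat.card_prod, hCcard, hK] at h
    exact Nat.le_of_mul_le_mul_right h hf
  -- three distinct elements
  obtain ⟨w, hw⟩ : ∃ w, w = z⁻¹ * (t * z * t⁻¹) := ⟨_, rfl⟩
  have hwV : w ∈ (kappa K hab t).range := (hmemV w).2 ⟨z, hzK, hw⟩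
  have hw1 : w ≠ 1 := by
    intro h
    apply htz
    have : z * w = t * z * t⁻¹ := by rw [hw]; group
    rw [h, mul_one] at this
    calc t * z = (t * z * t⁻¹) * t := by group
      _ = z * t := by rw [← this]
  have hw'V : t * w * t⁻¹ ∈ (kappa K hab t).range := hVn.conj_mem _ hwV t
  have hw'1 : t * w * t⁻¹ ≠ 1 := by
    intro h
    apply hw1
    have : w = t⁻¹ * (t * w * t⁻¹) * t := by group
    rw [this, h]; group
  have hw'w : t * w * t⁻¹ ≠ w := by
    intro h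
    apply hw1
    refine hCV w hwV ?_
    have : t * w = (t * w * t⁻¹) * t := by group
    rw [this, h]
  have hcardge : 3 ≤ Nat.card (kappa K hab t).range := by
    have h3 : ({1, w, t * w * t⁻¹} : Finset G).card = 3 := by
      rw [Finset.card_eq_three]
      exact ⟨1, w, t * w * t⁻¹, hw1.symm, hw'1.symm, hw'w.symm, rfl⟩
    have hsub : ((({1, w, t * w * t⁻¹} : Finset G) : Set G)) ⊆ ((kappa K hab t).range : Set G) := by
      intro x hx
      simp only [Finset.coe_insert, Finset.coe_singleton, Set.mem_insert_iff,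
        Set.mem_singleton_iff] at hx
      rcases hx with rfl | rfl | rfl
      · exact Subgroup.one_mem _
      · exact hwV
      · exact hw'V
    have := Set.ncard_le_ncard hsub (Set.toFinite _)
    rw [Set.ncard_coe_finset, h3] at this
    rwa [← Nat.card_coe_set_eq] at this
  have hp : IsPGroup 2 (kappa K hab t).range := by
    intro v
    refine ⟨2, Subtype.ext ?_⟩
    have := hV4 v v.2
    simpa using this
  obtain ⟨n, hn⟩ := hp.exists_card_eq
  have hcard : Nat.card (kappa K hab t).range = 4 := by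
    have h1 : 2 ^ n ≤ 4 := hn ▸ hcardle
    have h2 : 3 ≤ 2 ^ n := hn ▸ hcardge
    have hn2 : n ≤ 2 := by
      by_contra h
      have h' : 3 ≤ n := by omega
      have := Nat.pow_le_pow_right (by norm_num : 0 < 2) h'
      omega
    have hn1 : 2 ≤ n := by
      by_contra h
      have h' : n ≤ 1 := by omega
      have := Nat.pow_le_pow_right (by norm_num : 0 < 2) h'
      omega
    have hn3 : n = 2 := le_antisymm hn2 hn1
    rw [hn, hn3]; norm_num
  refine ⟨(kappa K hab t).range, hVn, hVK, hcard, hVc, hCV, ?_⟩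
  have hbij := Function.Injective.bijective_of_nat_card_le hφinj
    (by rw [Nat.card_prod, hCcard, hK, hcard])
  intro k hk
  obtain ⟨⟨v, x⟩, hvx⟩ := hbij.2 ⟨k, hk⟩
  obtain ⟨j, hj⟩ := hCmem x x.2
  refine ⟨v, v.2, j, ?_⟩
  have := Subtype.ext_iff.1 hvx
  simp only at this
  rw [hj, this]

end Cfsg.Agent.Helper23.GS4
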