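import Cfsg.Agent.Lib.Helper53.IPDefs
import Cfsg.Agent.Lib.Helper79.LinearDeg
import Cfsg.Agent.Lib.Helper79.Restrict
import Cfsg.Agent.Lib.Helper76.CD2Basic

/-!
# IP (P1): a nonabelian `p`-group all of whose proper quotients are abelian has a fully ramified
character (helper53 server, S4463)
-/

set_option autoImplicit false

namespace Cfsg.Agent.Helper23.IP

open Cfsg Cfsg.Agent.Helper53.IP Cfsg.Agent.Helper79
open scoped commutatorElement

universe u

theorem exists_ramified {Q : Type u} [Group Q] [Finite Q] (p : ℕ) (hp : p.Prime)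
    (hP : IsPGroup p Q) (hna : ¬ ∀ a b : Q, a * b = b * a)
    (hq : ∀ L : Subgroup Q, L.Normal → L ≠ ⊥ → commutator Q ≤ L) :
    ∃ τ : IrrCharacter Q, 1 < charDegree (τ : Q → ℂ) ∧
      (∀ x : Q, x ∉ Subgroup.center Q → (τ : Q → ℂ) x = 0) ∧
      (∀ z ∈ Subgroup.center Q,
        Complex.normSq ((τ : Q → ℂ) z) = ((charDegree (τ : Q → ℂ) : ℕ) : ℝ) ^ 2) ∧
      (Subgroup.center Q).index = (charDegree (τ : Q → ℂ)) ^ 2 := by
  classical
  have hfact : Fact p.Prime := ⟨hp⟩
  have hfin := Fintype.ofFinite Q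
  -- Q is nontrivial
  have hnt : Nontrivial Q := by
    by_contra hcon
    rw [not_nontrivial_iff_subsingleton] at hcon
    exact hna (fun a b => Subsingleton.elim _ _)
  -- the centre is nontrivial, so Q' ≤ Z(Q)
  have hZnt : Nontrivial (Subgroup.center Q) := hP.center_nontrivial
  have hZbot : Subgroup.center Q ≠ ⊥ := (Subgroup.nontrivial_iff_ne_bot _).1 hZnt
  have hcZ : commutator Q ≤ Subgroup.center Q := hq _ inferInstance hZbot
  -- a nonlinear irreducible character
  obtain ⟨τ, hτ⟩ : ∃ τ : IrrCharacter Q, charDegree (τ : Q → ℂ) ≠ 1 := by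
    by_contra hcon
    push Not at hcon
    exact hna (Cfsg.Agent.Helper76.CD2.comm_of_all_linear hcon)
  have hτpos := (irr_one_eq τ).2
  have hτ1 : 1 < charDegree (τ : Q → ℂ) := by omega
  have hone := (irr_one_eq τ).1
  have hone0 : (τ : Q → ℂ) 1 ≠ 0 := irr_one_ne_zero τ
  have hvan : ∀ x : Q, x ∉ Subgroup.center Q → (τ : Q → ℂ) x = 0 := by
    intro x hx
    rw [Subgroup.mem_center_iff] at hx
    push Not at hx
    obtain ⟨y, hy⟩ := hx
    by_contra hx0
    obtain ⟨z, hz⟩ : ∃ z, z = y * x * y⁻¹ * x⁻¹ := ⟨_, rfl⟩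
    have hz1 : z ≠ 1 := by
      intro h
      apply hy
      have : y * x = z * (x * y) := by rw [hz]; group
      rw [this, h, one_mul]
    have hzc : z ∈ commutator Q := by
      have : z = ⁅y, x⁆ := by rw [hz, commutatorElement_def]
      rw [this]
      exact Subgroup.commutator_mem_commutator (Subgroup.mem_top y) (Subgroup.mem_top x)
    have hzZ : z ∈ Subgroup.center Q := hcZ hzc
    have h1 : (τ : Q → ℂ) (z * x) = (τ : Q → ℂ) x := by
      have : z * x = y * x * y⁻¹ := by rw [hz]; group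
      rw [this, irr_class]
    have h2 := irr_central_mul τ z hzZ x
    rw [h1] at h2
    have h3 : (τ : Q → ℂ) z = (τ : Q → ℂ) 1 := by
      have : (τ : Q → ℂ) x * (τ : Q → ℂ) 1 = (τ : Q → ℂ) x * (τ : Q → ℂ) z := by
        rw [h2, mul_comm]
      exact (mul_left_cancel₀ hx0 this).symm
    have hzK : z ∈ irrKer τ := (mem_irrKer τ z).2 h3
    have hKbot : irrKer τ ≠ ⊥ := by
      intro h
      rw [h, Subgroup.mem_bot] at hzK
      exact hz1 hzK
    have hcK : commutator Q ≤ irrKer τ := hq _ inferInstance hKbot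
    exact hτ ((degree_one_iff τ).2 hcK)
  have hnormZ : ∀ z ∈ Subgroup.center Q,
      Complex.normSq ((τ : Q → ℂ) z) = ((charDegree (τ : Q → ℂ) : ℕ) : ℝ) ^ 2 := by
    intro z hz
    apply irr_normSq_of_commutators τ {1}
    · intro b hb
      rw [Set.mem_singleton_iff] at hb
      rw [hb]
    · intro g
      rw [Set.mem_singleton_iff]
      rw [Subgroup.mem_center_iff] at hz
      rw [← hz g]; group
  refine ⟨τ, hτ1, hvan, hnormZ, ?_⟩
  · -- the index
    have hsum := irr_sum_normSq τ
    have hterm : ∀ g : Q, Complex.normSq ((τ : Q → ℂ) g)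
        = if g ∈ Subgroup.center Q then ((charDegree (τ : Q → ℂ) : ℕ) : ℝ) ^ 2 else 0 := by
      intro g
      by_cases hg : g ∈ Subgroup.center Q
      · rw [if_pos hg]
        exact hnormZ g hg
      · rw [if_neg hg, hvan g hg, map_zero]
    simp_rw [hterm] at hsum
    rw [Finset.sum_ite, Finset.sum_const, Finset.sum_const_zero, add_zero, nsmul_eq_mul] at hsum
    have hcardZ : (Finset.filter (fun g => g ∈ Subgroup.center Q) Finset.univ).card
        = Nat.card (Subgroup.center Q) := by
      rw [Nat.card_eq_fintype_card, Fintype.card_subtype]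
    rw [hcardZ] at hsum
    have hnat : Nat.card (Subgroup.center Q) * (charDegree (τ : Q → ℂ)) ^ 2 = Nat.card Q := by
      exact_mod_cast hsum
    have hidx := Subgroup.card_mul_index (Subgroup.center Q)
    rw [← hnat] at hidx
    exact Nat.eq_of_mul_eq_mul_left Nat.card_pos hidx

end Cfsg.Agent.Helper23.IP
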