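import Mathlib
import Cfsg.Prelude.Def_LocalStructure
import Cfsg.Agent.Lib.Helper23.Large
import Cfsg.Agent.S2843

set_option autoImplicit false

namespace Cfsg.Agent.Helper23

open scoped commutatorElement

variable {H : Type*} [Group H]

/-- elementary coprime action: if `x` normalizes the `p`-group `Q`, `x ^ n = 1` with `n` prime to `p`,
and `x` commutes with every `q⁻¹ * (x * q * x⁻¹)`, then `x` centralizes `Q`. -/
theorem centralizes_of_coprime {p : ℕ} [Fact p.Prime] {Q : Subgroup H} (hQp : IsPGroup p Q) {x : H}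
    (hxN : x ∈ Subgroup.normalizer (Q : Set H)) {n : ℕ} (hn : x ^ n = 1) (hnp : n.Coprime p)
    (hc : ∀ q ∈ Q, x * (q⁻¹ * (x * q * x⁻¹)) = (q⁻¹ * (x * q * x⁻¹)) * x) :
    ∀ q ∈ Q, x * q * x⁻¹ = q := by
  intro q hq
  set c := q⁻¹ * (x * q * x⁻¹) with hcdef
  have hcQ : c ∈ Q := by
    rw [Subgroup.mem_set_normalizer_iff] at hxN
    exact Q.mul_mem (Q.inv_mem hq) ((hxN q).mp hq)
  have hcx : Commute x c := hc q hq
  have hpow : ∀ k : ℕ, x ^ k * q * (x ^ k)⁻¹ = q * c ^ k := by
    intro k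
    induction k with
    | zero => simp
    | succ k ih =>
      have e : x ^ (k + 1) * q * (x ^ (k + 1))⁻¹ = x * (x ^ k * q * (x ^ k)⁻¹) * x⁻¹ := by
        rw [pow_succ']; group
      rw [e, ih]
      have hcxk : Commute x (c ^ k) := hcx.pow_right k
      have e2 : x * (q * c ^ k) * x⁻¹ = (x * q * x⁻¹) * (x * c ^ k * x⁻¹) := by group
      have e3 : x * c ^ k * x⁻¹ = c ^ k := by
        rw [hcxk.eq]; group
      have e4 : x * q * x⁻¹ = q * c := by rw [hcdef]; group
      rw [e2, e3, e4, pow_succ']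
      group
  have h1 := hpow n
  rw [hn] at h1
  have hcn : c ^ n = 1 := by
    have : q = q * c ^ n := by simpa using h1
    exact (mul_eq_left.mp this.symm)
  obtain ⟨m, hm⟩ := hQp ⟨c, hcQ⟩
  have hcm : c ^ (p ^ m) = 1 := by
    have := congrArg Subtype.val hm
    simpa using this
  have hcop : (p ^ m).Coprime n := (Nat.Coprime.pow_left m hnp.symm)
  have hc1 : c = 1 := by
    have h2 : orderOf c ∣ p ^ m := orderOf_dvd_of_pow_eq_one hcm
    have h3 : orderOf c ∣ n := orderOf_dvd_of_pow_eq_one hcn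
    have : orderOf c = 1 := Nat.eq_one_of_dvd_coprimes hcop h2 h3
    exact orderOf_eq_one_iff.mp this
  have : x * q * x⁻¹ = q * c := by rw [hcdef]; group
  rw [this, hc1, mul_one]

theorem weakClosure_le (Q L : Subgroup H) : Cfsg.weakClosure Q L ≤ L := by
  unfold Cfsg.weakClosure
  apply iSup_le
  rintro ⟨g, hg⟩
  exact hg

theorem le_weakClosure {Q L : Subgroup H} (hQL : Q ≤ L) : Q ≤ Cfsg.weakClosure Q L := by
  unfold Cfsg.weakClosure
  have h1 : Q.map (MulAut.conj (1 : H)).toMonoidHom ≤ L := by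
    have := cj_one Q
    unfold cj at this
    rw [this]; exact hQL
  refine le_trans ?_ (le_iSup _ (⟨1, h1⟩ : {g : H // Q.map (MulAut.conj g).toMonoidHom ≤ L}))
  have := cj_one Q
  unfold cj at this
  rw [this]

theorem le_normalizer_weakClosure (Q L : Subgroup H) :
    L ≤ Subgroup.normalizer ((Cfsg.weakClosure Q L : Subgroup H) : Set H) := by
  have key : ∀ l ∈ L, cj (Cfsg.weakClosure Q L) l ≤ Cfsg.weakClosure Q L := by
    intro l hl
    unfold Cfsg.weakClosure cj
    rw [Subgroup.map_iSup]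
    apply iSup_le
    rintro ⟨g, hg⟩
    have h2 : cj (cj Q g) l ≤ L := cj_le_of_mem hg hl
    rw [cj_cj] at h2
    have h3 := le_iSup (fun g : {g : H // Q.map (MulAut.conj g).toMonoidHom ≤ L} =>
      Q.map (MulAut.conj (g : H)).toMonoidHom) ⟨l * g, h2⟩
    refine le_trans ?_ h3
    have := cj_cj Q g l
    unfold cj at this
    rw [this]
  intro l hl
  rw [mem_normalizer_iff_cj_eq]
  apply le_antisymm (key l hl)
  have h2 := key l⁻¹ (L.inv_mem hl)
  have h3 := cj_mono h2 l
  rwa [cj_cj, mul_inv_cancel, cj_one] at h3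

/-- For a large `p`-subgroup `Q ≤ L` with `O_p(L) ≠ 1`, the centralizer of `O_p(L)` is a `p`-group. -/
theorem centralizer_pCoreOf_isPGroup [Finite H] {p : ℕ} [Fact p.Prime] {Q : Subgroup H}
    (hQp : IsPGroup p Q) (hQ1 : Q ≠ ⊥) (hL : Cfsg.IsLarge Q) {L : Subgroup H} (hQL : Q ≤ L)
    (hP1 : Cfsg.pCoreOf p L ≠ ⊥) :
    IsPGroup p ↥(Subgroup.centralizer ((Cfsg.pCoreOf p L : Subgroup H) : Set H)) := by
  set P := Cfsg.pCoreOf p L with hP
  set D := Subgroup.centralizer ((P : Subgroup H) : Set H) with hD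
  have hPp : IsPGroup p ↥P := pCoreOf_isPGroup L
  have hLP : L ≤ Subgroup.normalizer (P : Set H) := le_normalizer_pCoreOf L
  obtain ⟨-, h2, h3⟩ := Cfsg.Agent.S2843.result Q hQp hQ1 hL L hQL P hPp hP1 hLP
  -- D normalizes Q
  have hDQ : D ≤ Subgroup.normalizer (Q : Set H) := by
    have hne := inf_centralizer_ne_bot_of_le_normalizer hQp hPp hP1 (hQL.trans hLP)
    have hN := hL.2 _ inf_le_right hne
    refine le_trans ?_ hN
    refine le_trans ?_ (Subgroup.centralizer_le_normalizer _)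
    exact Subgroup.centralizer_le inf_le_left
  -- O_p(L°) ≤ P
  have hRP : Cfsg.pCoreOf p (Cfsg.weakClosure Q L) ≤ P := by
    apply le_pCoreOf_of_normal_pgroup
    · exact (pCoreOf_le _).trans (weakClosure_le Q L)
    · exact pCoreOf_isPGroup _
    · exact (le_normalizer_weakClosure Q L).trans (normalizer_le_normalizer_pCoreOf _)
  -- p'-elements of D are trivial
  have hp' : ∀ x ∈ D, ∀ n : ℕ, x ^ n = 1 → n.Coprime p → x = 1 := by
    intro x hx n hn hnp
    have hcent := centralizes_of_coprime hQp (hDQ hx) hn hnp (by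
      intro q hq
      have hq' : q⁻¹ ∈ Cfsg.weakClosure Q L := le_weakClosure hQL (Q.inv_mem hq)
      have hmem : ⁅q⁻¹, x⁆ ∈ ⁅Cfsg.weakClosure Q L, D⁆ := Subgroup.commutator_mem_commutator hq' hx
      have hmemP : ⁅q⁻¹, x⁆ ∈ P := hRP (h2 hmem)
      have e : ⁅q⁻¹, x⁆ = q⁻¹ * (x * q * x⁻¹) := by
        rw [commutatorElement_def]; group
      rw [e] at hmemP
      have := hx
      rw [hD, Subgroup.mem_centralizer_iff] at this
      exact (this _ hmemP).symm)
    have hxCQ : x ∈ Subgroup.centralizer (Q : Set H) := by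
      rw [Subgroup.mem_centralizer_iff]
      intro q hq
      have := hcent q hq
      calc q * x = (x * q * x⁻¹) * x := by rw [this]
        _ = x * q := by group
    have hxQ : x ∈ Q := hL.1 hxCQ
    obtain ⟨m, hm⟩ := hQp ⟨x, hxQ⟩
    have hxm : x ^ (p ^ m) = 1 := by
      have := congrArg Subtype.val hm
      simpa using this
    have hcop : (p ^ m).Coprime n := (Nat.Coprime.pow_left m hnp.symm)
    have h2' : orderOf x ∣ p ^ m := orderOf_dvd_of_pow_eq_one hxm
    have h3' : orderOf x ∣ n := orderOf_dvd_of_pow_eq_one hn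
    have : orderOf x = 1 := Nat.eq_one_of_dvd_coprimes hcop h2' h3'
    exact orderOf_eq_one_iff.mp this
  -- conclude
  intro y
  have hy0 : 0 < orderOf (y : H) := orderOf_pos _
  obtain ⟨k, m, hm, hkm⟩ := Nat.exists_eq_pow_mul_and_not_dvd hy0.ne' p (Fact.out : p.Prime).ne_one
  refine ⟨k, ?_⟩
  apply Subtype.ext
  rw [Subgroup.coe_pow, Subgroup.coe_one]
  apply hp' _ (D.pow_mem y.2 _) m
  · rw [← pow_mul, ← hkm]; exact pow_orderOf_eq_one _
  · exact (Nat.Coprime.symm ((Nat.Prime.coprime_iff_not_dvd Fact.out).mpr hm))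

end Cfsg.Agent.Helper23
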