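import Mathlib
import Cfsg.Prelude.Def_Blocks
import Cfsg.Agent.Lib.Helper7.M11LAMain
import Cfsg.Agent.Lib.Helper78.CharSchur
import Cfsg.Agent.Lib.Helper78.CharCount
import Cfsg.Agent.Lib.Helper81.CharDet
import Cfsg.Agent.Lib.Helper79.Integrality
import Cfsg.Agent.Lib.Helper74.FSBrauerFowler
import Cfsg.Agent.Lib.Helper17.PrimeTIApp

/-!
# M11CT piece ASM, core (helper49's lemma server for S4429): the final assembly with the five
inputs G5, G11, CT5, CT11, AR as hypotheses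
-/

set_option autoImplicit false

namespace Cfsg.Agent.Helper23.M11CT

open Cfsg
open scoped ComplexConjugate

universe u

/-- the assembly with the five inputs as hypotheses -/
theorem result_of {G : Type u} [Group G] [Fintype G] [IsSimpleGroup G] (hG : Nat.card G = 7920)
    (hG5 : ∃ x : G, orderOf x = 5 ∧ Nat.card (Subgroup.centralizer ({x} : Set G)) = 5 ∧
      ∀ k : ℕ, 0 < k → k < 5 → IsConj x (x ^ k))
    (hG11 : ∃ x : G, orderOf x = 11 ∧ Nat.card (Subgroup.centralizer ({x} : Set G)) = 11 ∧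
      IsConj x (x ^ 3) ∧ ¬ IsConj x x⁻¹)
    (hCT5 : ∀ (p : ℕ) (_ : p.Prime) (x : G) (_ : orderOf x = p)
      (_ : Nat.card (Subgroup.centralizer ({x} : Set G)) = p)
      (_ : ∀ k : ℕ, 0 < k → k < p → IsConj x (x ^ k)),
      ∃ c : IrrCharacter G → ℤ,
        (∀ χ : IrrCharacter G, (p : ℤ) ∣ (charDegree (χ : G → ℂ) : ℤ) - c χ) ∧
        ∑ χ : IrrCharacter G, c χ ^ 2 = (p : ℤ) ∧
        ∑ χ : IrrCharacter G, (charDegree (χ : G → ℂ) : ℤ) * c χ = 0)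
    (hCT11 : ∀ (x : G) (_ : orderOf x = 11)
      (_ : Nat.card (Subgroup.centralizer ({x} : Set G)) = 11)
      (_ : IsConj x (x ^ 3)) (_ : ¬ IsConj x x⁻¹),
      ∃ A B : IrrCharacter G → ℤ,
        (∀ χ : IrrCharacter G, (11 : ℤ) ∣ (charDegree (χ : G → ℂ) : ℤ) - A χ - 5 * B χ) ∧
        ∑ χ : IrrCharacter G, A χ ^ 2 = 6 ∧ ∑ χ : IrrCharacter G, A χ * B χ = 1 ∧
        ∑ χ : IrrCharacter G, B χ ^ 2 = 2 ∧
        ∑ χ : IrrCharacter G, (charDegree (χ : G → ℂ) : ℤ) * A χ = 0 ∧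
        ∑ χ : IrrCharacter G, (charDegree (χ : G → ℂ) : ℤ) * B χ = 0)
    (hAR : ∀ (d : IrrCharacter G → ℕ) (c A B : IrrCharacter G → ℤ) (i0 : IrrCharacter G)
      (_ : d i0 = 1) (_ : ∀ i, d i = 1 → i = i0) (_ : ∀ i, d i ∣ 7920)
      (_ : ∑ i, (d i : ℤ) ^ 2 = 7920)
      (_ : ∀ i, (5 : ℤ) ∣ (d i : ℤ) - c i) (_ : ∑ i, c i ^ 2 = 5)
      (_ : ∑ i, (d i : ℤ) * c i = 0)
      (_ : ∀ i, (11 : ℤ) ∣ (d i : ℤ) - A i - 5 * B i) (_ : ∑ i, A i ^ 2 = 6)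
      (_ : ∑ i, A i * B i = 1) (_ : ∑ i, B i ^ 2 = 2) (_ : ∑ i, (d i : ℤ) * A i = 0)
      (_ : ∑ i, (d i : ℤ) * B i = 0),
      Fintype.card (IrrCharacter G) = 10 ∧ ∀ n : ℕ, (Finset.univ.filter (fun i => d i = n)).card =
        (if n = 1 ∨ n = 11 ∨ n = 44 ∨ n = 45 ∨ n = 55 then 1 else if n = 10 then 3
          else if n = 16 then 2 else 0)) :
    Nat.card (Cfsg.IrrCharacter G) = 10 ∧ ∀ n : ℕ,
      Nat.card {χ : Cfsg.IrrCharacter G // Cfsg.charDegree (χ : G → ℂ) = n} =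
        (if n = 1 ∨ n = 11 ∨ n = 44 ∨ n = 45 ∨ n = 55 then 1 else if n = 10 then 3
          else if n = 16 then 2 else 0) := by
  classical
  obtain ⟨x5, hx5, hC5, hconj5⟩ := hG5
  obtain ⟨x11, hx11, hC11, h3, hinv⟩ := hG11
  obtain ⟨c, hc5, hc2, hdc⟩ := hCT5 5 (by norm_num) x5 hx5 hC5 hconj5
  obtain ⟨A, B, h11, hA2, hAB, hB2, hdA, hdB⟩ := hCT11 x11 hx11 hC11 h3 hinv
  let i0 : IrrCharacter G := ⟨fun _ => 1, Cfsg.Agent.Helper81.isIrrCharacter_one⟩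
  have hd0 : charDegree (i0 : G → ℂ) = 1 := by
    simp [charDegree, i0]
  have hperf : commutator G = ⊤ :=
    Cfsg.Agent.Helper17.PrimeTI.perfect_of_simple (by rw [hG]; norm_num)
  have huniq : ∀ χ : IrrCharacter G, charDegree (χ : G → ℂ) = 1 → χ = i0 := by
    intro χ h
    apply Subtype.ext
    exact Cfsg.Agent.Helper17.PrimeTI.linear_trivial_of_perfect hperf χ h
  have hdvd : ∀ χ : IrrCharacter G, charDegree (χ : G → ℂ) ∣ 7920 := by
    intro χ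
    rw [← hG]
    exact Cfsg.Agent.Helper79.irr_degree_dvd_card χ
  have hsq : ∑ χ : IrrCharacter G, ((charDegree (χ : G → ℂ) : ℕ) : ℤ) ^ 2 = 7920 := by
    have h := Cfsg.Agent.Helper74.FS.sum_sq_degree (G := G)
    rw [hG] at h
    have h' : ((∑ χ : IrrCharacter G, ((charDegree (χ : G → ℂ) : ℕ) : ℤ) ^ 2 : ℤ) : ℚ) =
        ((7920 : ℤ) : ℚ) := by
      push_cast
      exact_mod_cast h
    exact_mod_cast h'
  have key := hAR (fun χ => charDegree (χ : G → ℂ)) c A B i0 hd0 huniq hdvd hsq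
    (by exact_mod_cast hc5) (by exact_mod_cast hc2) hdc h11 hA2 hAB hB2 hdA hdB
  refine ⟨?_, ?_⟩
  · rw [Nat.card_eq_fintype_card]
    exact key.1
  · intro n
    rw [← key.2 n, Nat.card_eq_fintype_card, Fintype.card_subtype]

end Cfsg.Agent.Helper23.M11CT
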