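import Cfsg.Agent.Lib.Helper39.MH4Basic

/-!
# M. Hall's theorem (server MH4 of helper39, S4221): piece (E2) `card_reg_add`
-/

set_option autoImplicit false
set_option linter.unusedSectionVars false
set_option linter.unusedVariables false

namespace Cfsg.Agent.Helper23.MH4

open Equiv
open Cfsg.Agent.Helper39.MH4

variable {α : Type*} [Fintype α] [DecidableEq α] {G : Subgroup (Perm α)}

/-- an involution `t ≠ 1` of `G` fixing `p, q`, a commuting involution `u` swapping `p, q`:
every fixed point of `t` moved by `u` is `p` or `q`. -/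
theorem fx_sdiff_aux (hyp : Hyp G) {t u : Perm α} (htG : t ∈ G) (htt : t * t = 1)
    (huu : u * u = 1) (hcomm : t * u = u * t) {p q r : α} (hpq : p ≠ q) (htp : t p = p)
    (htq : t q = q) (hup : u p = q) (huq : u q = p) (htr : t r ≠ r) {x : α} (hx : t x = x)
    (hux : u x ≠ x) : x = p ∨ x = q := by
  by_contra hcon
  push Not at hcon
  obtain ⟨hxp, hxq⟩ := hcon
  have ht1 : t ≠ 1 := by
    intro h1
    apply htr
    rw [h1]; rfl
  have hle := invol_fix_le hyp htG htt ht1
  have huux : u (u x) = x := by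
    have h1 := congrArg (fun g : Perm α => g x) huu
    simpa using h1
  have htux : t (u x) = u x := by
    have h1 := congrArg (fun g : Perm α => g x) hcomm
    simp only [Perm.mul_apply] at h1
    rw [h1, hx]
  have huxp : u x ≠ p := by
    intro h1
    apply hxq
    rw [← huux, h1, hup]
  have huxq : u x ≠ q := by
    intro h1
    apply hxp
    rw [← huux, h1, huq]
  have hsub : ({p, q, x, u x} : Finset α) ⊆ fx t := by
    intro y hy
    simp only [Finset.mem_insert, Finset.mem_singleton] at hy
    rw [mem_fx]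
    rcases hy with rfl | rfl | rfl | rfl
    · exact htp
    · exact htq
    · exact hx
    · exact htux
  have hcard : ({p, q, x, u x} : Finset α).card = 4 := by
    rw [Finset.card_insert_of_notMem, Finset.card_insert_of_notMem, Finset.card_pair hux.symm]
    · simp only [Finset.mem_insert, Finset.mem_singleton, not_or]
      exact ⟨hxq.symm, huxq.symm⟩
    · simp only [Finset.mem_insert, Finset.mem_singleton, not_or]
      exact ⟨hpq, hxp.symm, huxp.symm⟩
  have h4 := Finset.card_le_card hsub
  omega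

theorem fx_sdiff_tu (hyp : Hyp G) {a : Fin 4 ↪ α} {t u : Perm α} (c : UConf G a t u) {x : α}
    (hx : t x = x) (hux : u x ≠ x) : x = a 0 ∨ x = a 1 := by
  have h01 : a 0 ≠ a 1 := a.injective.ne (by decide)
  have h23 : a 2 ≠ a 3 := a.injective.ne (by decide)
  refine fx_sdiff_aux hyp c.tG c.tt c.uu c.comm h01 c.t0 c.t1 c.u0 c.u1 (r := a 2) ?_ hx hux
  rw [c.t2]; exact h23.symm

theorem fx_sdiff_ut (hyp : Hyp G) {a : Fin 4 ↪ α} {t u : Perm α} (c : UConf G a t u) {x : α}
    (hx : u x = x) (htx : t x ≠ x) : x = a 2 ∨ x = a 3 := by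
  have h01 : a 0 ≠ a 1 := a.injective.ne (by decide)
  have h23 : a 2 ≠ a 3 := a.injective.ne (by decide)
  refine fx_sdiff_aux hyp c.uG c.uu c.tt c.comm.symm h23 c.u2 c.u3 c.t2 c.t3 (r := a 0) ?_ hx htx
  rw [c.u0]; exact h01.symm

theorem card_reg_add (hyp : Hyp G) {a : Fin 4 ↪ α} {t u : Perm α} (c : UConf G a t u) (f : ℕ)
    (hft : (fx t).card = f) (hfu : (fx u).card = f) (hfa : (fx (t * u)).card = f) :
    (reg t u).card + f + 4 = Fintype.card α := by
  classical
  have h01 : a 0 ≠ a 1 := a.injective.ne (by decide)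
  have hsd : fx t \ fx u = {a 0, a 1} := by
    ext x
    simp only [Finset.mem_sdiff, mem_fx, Finset.mem_insert, Finset.mem_singleton]
    constructor
    · rintro ⟨h1, h2⟩
      exact fx_sdiff_tu hyp c h1 h2
    · rintro (rfl | rfl)
      · exact ⟨c.t0, by rw [c.u0]; exact h01.symm⟩
      · exact ⟨c.t1, by rw [c.u1]; exact h01⟩
  have hF0 : (fx t ∩ fx u).card + 2 = f := by
    have h1 := Finset.card_sdiff_add_card_inter (fx t) (fx u)
    rw [hsd, Finset.card_pair h01, hft] at h1
    omega
  have h1 : fx t ∩ fx (t * u) = fx t ∩ fx u := by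
    ext x
    simp only [Finset.mem_inter, mem_fx, Perm.mul_apply]
    constructor
    · rintro ⟨k1, k2⟩
      refine ⟨k1, ?_⟩
      apply t.injective
      rw [k2, k1]
    · rintro ⟨k1, k2⟩
      exact ⟨k1, by rw [k2, k1]⟩
  have h2 : fx u ∩ fx (t * u) = fx t ∩ fx u := by
    ext x
    simp only [Finset.mem_inter, mem_fx, Perm.mul_apply]
    constructor
    · rintro ⟨k1, k2⟩
      rw [k1] at k2
      exact ⟨k2, k1⟩
    · rintro ⟨k1, k2⟩
      exact ⟨k2, by rw [k2, k1]⟩
  have hAB := Finset.card_union_add_card_inter (fx t) (fx u)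
  have hABC := Finset.card_union_add_card_inter (fx t ∪ fx u) (fx (t * u))
  have h3 : (fx t ∪ fx u) ∩ fx (t * u) = fx t ∩ fx u := by
    rw [Finset.union_inter_distrib_right, h1, h2, Finset.union_self]
  have hreg : reg t u = Finset.univ \ (fx t ∪ fx u ∪ fx (t * u)) := by
    ext x
    simp only [mem_reg, Finset.mem_sdiff, Finset.mem_univ, true_and, Finset.mem_union, mem_fx,
      not_or]
    tauto
  have hcard := Finset.card_sdiff_add_card_eq_card
    (Finset.subset_univ (fx t ∪ fx u ∪ fx (t * u)))
  rw [← hreg, Finset.card_univ] at hcard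
  rw [h3] at hABC
  omega

end Cfsg.Agent.Helper23.MH4
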