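import Cfsg.Agent.Lib.Helper39.MH4Basic
import Cfsg.Agent.Lib.Helper23.MH4E2

/-!
# M. Hall's theorem (server MH4 of helper39, S4221): piece (E3) `card_CG2_eq_four_mul`
-/

set_option autoImplicit false
set_option linter.unusedSectionVars false
set_option linter.unusedVariables false

namespace Cfsg.Agent.Helper23.MH4

open Equiv
open Cfsg.Agent.Helper39.MH4

variable {α : Type*} [Fintype α] [DecidableEq α] {G : Subgroup (Perm α)}

/-- the four elements `1, t, u, u * t`, indexed by `Bool × Bool`. -/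
def vv (t u : Perm α) (b : Bool × Bool) : Perm α :=
  (if b.1 then u else 1) * (if b.2 then t else 1)

theorem vv_mem {a : Fin 4 ↪ α} {t u : Perm α} (c : UConf G a t u) (b : Bool × Bool) :
    vv t u b ∈ CG2 G t u := by
  have ht : t ∈ CG2 G t u := mem_CG2.2 ⟨c.tG, rfl, c.comm⟩
  have hu : u ∈ CG2 G t u := mem_CG2.2 ⟨c.uG, c.comm.symm, rfl⟩
  unfold vv
  apply Subgroup.mul_mem
  · split_ifs
    · exact hu
    · exact Subgroup.one_mem _
  · split_ifs
    · exact ht
    · exact Subgroup.one_mem _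

theorem vv_sq {a : Fin 4 ↪ α} {t u : Perm α} (c : UConf G a t u) (b : Bool × Bool) :
    vv t u b * vv t u b = 1 := by
  have h1 : u * t * (u * t) = 1 := by
    have e : t * u * t = u := by rw [c.comm, mul_assoc, c.tt, mul_one]
    rw [mul_assoc u t (u * t), ← mul_assoc t u t, e, c.uu]
  rcases b with ⟨_ | _, _ | _⟩ <;> simp [vv, c.tt, c.uu, h1]

theorem vv_a0 {a : Fin 4 ↪ α} {t u : Perm α} (c : UConf G a t u) (b : Bool × Bool) :
    vv t u b (a 0) = if b.1 then a 1 else a 0 := by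
  rcases b with ⟨_ | _, _ | _⟩ <;> simp [vv, c.t0, c.u0]

theorem vv_a1 {a : Fin 4 ↪ α} {t u : Perm α} (c : UConf G a t u) (b : Bool × Bool) :
    vv t u b (a 1) = if b.1 then a 0 else a 1 := by
  rcases b with ⟨_ | _, _ | _⟩ <;> simp [vv, c.t1, c.u1]

theorem vv_a2 {a : Fin 4 ↪ α} {t u : Perm α} (c : UConf G a t u) (b : Bool × Bool) :
    vv t u b (a 2) = if b.2 then a 3 else a 2 := by
  rcases b with ⟨_ | _, _ | _⟩ <;> simp [vv, c.t2, c.u2, c.u3]

theorem vv_a3 {a : Fin 4 ↪ α} {t u : Perm α} (c : UConf G a t u) (b : Bool × Bool) :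
    vv t u b (a 3) = if b.2 then a 2 else a 3 := by
  rcases b with ⟨_ | _, _ | _⟩ <;> simp [vv, c.t3, c.u2, c.u3]

/-- how an element of `C_G(t, u)` acts on `a 0, a 1, a 2, a 3`. -/
theorem cg2_action (hyp : Hyp G) {a : Fin 4 ↪ α} {t u : Perm α} (c : UConf G a t u) {g : Perm α}
    (hg : g ∈ CG2 G t u) :
    ((g (a 0) = a 0 ∧ g (a 1) = a 1) ∨ (g (a 0) = a 1 ∧ g (a 1) = a 0)) ∧
      ((g (a 2) = a 2 ∧ g (a 3) = a 3) ∨ (g (a 2) = a 3 ∧ g (a 3) = a 2)) := by
  obtain ⟨hgG, hgt, hgu⟩ := mem_CG2.1 hg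
  have h01 : a 0 ≠ a 1 := a.injective.ne (by decide)
  have h23 : a 2 ≠ a 3 := a.injective.ne (by decide)
  have ht : ∀ x, t (g x) = g (t x) := by
    intro x
    have h1 := congrArg (fun k : Perm α => k x) hgt
    simp only [Perm.mul_apply] at h1
    exact h1.symm
  have hu : ∀ x, u (g x) = g (u x) := by
    intro x
    have h1 := congrArg (fun k : Perm α => k x) hgu
    simp only [Perm.mul_apply] at h1
    exact h1.symm
  have k0 : g (a 0) = a 0 ∨ g (a 0) = a 1 := by
    apply fx_sdiff_tu hyp c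
    · rw [ht, c.t0]
    · rw [hu, c.u0]
      exact fun h => h01 (g.injective h).symm
  have k1 : g (a 1) = a 0 ∨ g (a 1) = a 1 := by
    apply fx_sdiff_tu hyp c
    · rw [ht, c.t1]
    · rw [hu, c.u1]
      exact fun h => h01 (g.injective h)
  have k2 : g (a 2) = a 2 ∨ g (a 2) = a 3 := by
    apply fx_sdiff_ut hyp c
    · rw [hu, c.u2]
    · rw [ht, c.t2]
      exact fun h => h23 (g.injective h).symm
  have k3 : g (a 3) = a 2 ∨ g (a 3) = a 3 := by
    apply fx_sdiff_ut hyp c
    · rw [hu, c.u3]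
    · rw [ht, c.t3]
      exact fun h => h23 (g.injective h)
  constructor
  · rcases k0 with k0 | k0 <;> rcases k1 with k1 | k1
    · exact absurd (g.injective (k0.trans k1.symm)) h01
    · exact Or.inl ⟨k0, k1⟩
    · exact Or.inr ⟨k0, k1⟩
    · exact absurd (g.injective (k0.trans k1.symm)) h01
  · rcases k2 with k2 | k2 <;> rcases k3 with k3 | k3
    · exact absurd (g.injective (k2.trans k3.symm)) h23
    · exact Or.inl ⟨k2, k3⟩
    · exact Or.inr ⟨k2, k3⟩
    · exact absurd (g.injective (k2.trans k3.symm)) h23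

theorem card_CG2_eq_four_mul (hyp : Hyp G) {a : Fin 4 ↪ α} {t u : Perm α} (c : UConf G a t u) :
    Nat.card (CG2 G t u) = 4 * Nat.card (CPS2 G {a 0, a 1, a 2, a 3} t u) := by
  classical
  have h01 : a 0 ≠ a 1 := a.injective.ne (by decide)
  have h23 : a 2 ≠ a 3 := a.injective.ne (by decide)
  have hle : CPS2 G {a 0, a 1, a 2, a 3} t u ≤ CG2 G t u := by
    unfold CPS2
    exact inf_le_right
  have hfix : ∀ k ∈ CPS2 G {a 0, a 1, a 2, a 3} t u,
      k (a 0) = a 0 ∧ k (a 1) = a 1 ∧ k (a 2) = a 2 ∧ k (a 3) = a 3 := by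
    intro k hk
    obtain ⟨-, hk2, -, -⟩ := mem_CPS2.1 hk
    exact ⟨hk2 _ (by simp), hk2 _ (by simp), hk2 _ (by simp), hk2 _ (by simp)⟩
  let F : ↥(CPS2 G {a 0, a 1, a 2, a 3} t u) × (Bool × Bool) → ↥(CG2 G t u) :=
    fun kb => ⟨kb.1.1 * vv t u kb.2, Subgroup.mul_mem _ (hle kb.1.2) (vv_mem c kb.2)⟩
  have hbij : Function.Bijective F := by
    constructor
    · rintro ⟨⟨k, hk⟩, b⟩ ⟨⟨k', hk'⟩, b'⟩ h
      have h1 : k * vv t u b = k' * vv t u b' := congrArg Subtype.val h
      obtain ⟨f0, f1, f2, f3⟩ := hfix k hk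
      obtain ⟨f0', f1', f2', f3'⟩ := hfix k' hk'
      have e0 := congrArg (fun g : Perm α => g (a 0)) h1
      have e2 := congrArg (fun g : Perm α => g (a 2)) h1
      simp only [Perm.mul_apply, vv_a0 c, vv_a2 c] at e0 e2
      have hb1 : b.1 = b'.1 := by
        rcases b with ⟨_ | _, b2⟩ <;> rcases b' with ⟨_ | _, b2'⟩ <;>
          simp_all
      have hb2 : b.2 = b'.2 := by
        rcases b with ⟨b1, _ | _⟩ <;> rcases b' with ⟨b1', _ | _⟩ <;>
          simp_all
      have hb : b = b' := Prod.ext hb1 hb2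
      subst hb
      have hkk : k = k' := mul_right_cancel h1
      subst hkk
      rfl
    · rintro ⟨g, hg⟩
      obtain ⟨hA, hB⟩ := cg2_action hyp c hg
      have hvmem := vv_mem c (decide (g (a 0) = a 1), decide (g (a 2) = a 3))
      have hkmem : g * vv t u (decide (g (a 0) = a 1), decide (g (a 2) = a 3)) ∈
          CPS2 G {a 0, a 1, a 2, a 3} t u := by
        have hk0 := Subgroup.mul_mem _ hg hvmem
        obtain ⟨m1, m2, m3⟩ := mem_CG2.1 hk0
        refine mem_CPS2.2 ⟨m1, ?_, m2, m3⟩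
        intro x hx
        simp only [Finset.mem_insert, Finset.mem_singleton] at hx
        rcases hx with rfl | rfl | rfl | rfl
        · rw [Perm.mul_apply, vv_a0 c]
          rcases hA with ⟨p0, p1⟩ | ⟨p0, p1⟩
          · have : ¬ g (a 0) = a 1 := by rw [p0]; exact h01
            simp [this, p0]
          · simp [p0, p1]
        · rw [Perm.mul_apply, vv_a1 c]
          rcases hA with ⟨p0, p1⟩ | ⟨p0, p1⟩
          · have : ¬ g (a 0) = a 1 := by rw [p0]; exact h01
            simp [this, p1]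
          · simp [p0, p1]
        · rw [Perm.mul_apply, vv_a2 c]
          rcases hB with ⟨p2, p3⟩ | ⟨p2, p3⟩
          · have : ¬ g (a 2) = a 3 := by rw [p2]; exact h23
            simp [this, p2]
          · simp [p2, p3]
        · rw [Perm.mul_apply, vv_a3 c]
          rcases hB with ⟨p2, p3⟩ | ⟨p2, p3⟩
          · have : ¬ g (a 2) = a 3 := by rw [p2]; exact h23
            simp [this, p3]
          · simp [p2, p3]
      refine ⟨(⟨_, hkmem⟩, (decide (g (a 0) = a 1), decide (g (a 2) = a 3))), ?_⟩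
      apply Subtype.ext
      show g * vv t u _ * vv t u _ = g
      rw [mul_assoc, vv_sq c, mul_one]
  rw [← Nat.card_eq_of_bijective F hbij, Nat.card_prod, mul_comm]
  congr 1
  rw [Nat.card_eq_fintype_card]
  rfl

end Cfsg.Agent.Helper23.MH4
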