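import Mathlib
import Cfsg.Agent.Lib.Helper54.O5760BDefs

/-!
# N96 (L1) ln_smul, (L9) lines_smul, (L5) ln_symm, (L2) ln_congr (helper54 server, S0980 case n_5 = 96)
-/

set_option autoImplicit false
set_option linter.unusedSectionVars false

namespace Cfsg.Agent.Helper23.N96

open Cfsg MulAction Cfsg.Agent.Helper54.O5760B

universe u

section Lines

variable {G : Type u} [Group G] [Finite G] {x r : G} {M : Subgroup G}

theorem ln_smul (x : G) (M : Subgroup G) (g a b : G) :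
    (fun p : G ⧸ M => g • p) '' ln x M a b = ln x M (g * a) (g * b) := by
  ext q
  constructor
  · rintro ⟨p, hp, rfl⟩
    rcases hp with rfl | ⟨i, rfl⟩
    · left
      rfl
    · right
      refine ⟨i, ?_⟩
      show ((g * (a * x ^ i * a⁻¹ * b) : G) : G ⧸ M) = _
      congr 1
      group
  · rintro (rfl | ⟨i, rfl⟩)
    · exact ⟨((a : G) : G ⧸ M), Or.inl rfl, rfl⟩
    · refine ⟨((a * x ^ i * a⁻¹ * b : G) : G ⧸ M), Or.inr ⟨i, rfl⟩, ?_⟩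
      show ((g * (a * x ^ i * a⁻¹ * b) : G) : G ⧸ M) = _
      congr 1
      group

theorem lines_smul (x : G) (M : Subgroup G)
    (hsmul : ∀ g a b : G, (fun p : G ⧸ M => g • p) '' ln x M a b = ln x M (g * a) (g * b))
    (g : G) (ℓ : Set (G ⧸ M)) (hℓ : ℓ ∈ lines x M) :
    (fun p : G ⧸ M => g • p) '' ℓ ∈ lines x M := by
  obtain ⟨a, b, hab, rfl⟩ := hℓ
  refine ⟨g * a, g * b, ?_, hsmul g a b⟩
  intro h
  apply hab
  rw [QuotientGroup.eq] at h ⊢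
  have : (g * a)⁻¹ * (g * b) = a⁻¹ * b := by group
  rwa [this] at h

theorem ln_symm (c : Cfg x r M) (a b : G) (hab : ((a : G) : G ⧸ M) ≠ ((b : G) : G ⧸ M))
    (hfix : ∀ a b : G, ((a : G) : G ⧸ M) ≠ ((b : G) : G ⧸ M) → ∀ v : G, orderOf v = 2 →
      Commute v (a * x * a⁻¹) → Commute v (b * x * b⁻¹) → ln x M a b = fixedBy (G ⧸ M) v) :
    ln x M a b = ln x M b a := by
  have hg : a⁻¹ * b ∉ M := by
    intro h
    exact hab (QuotientGroup.eq.2 h)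
  obtain ⟨v₀, hv₀, hc1, hc2⟩ := c.hinv (a⁻¹ * b) hg
  have hv : orderOf (a * v₀ * a⁻¹) = 2 := by
    have := MulEquiv.orderOf_eq (MulAut.conj a) v₀
    rw [MulAut.conj_apply] at this
    rw [this, hv₀]
  have hva : Commute (a * v₀ * a⁻¹) (a * x * a⁻¹) := by
    show a * v₀ * a⁻¹ * (a * x * a⁻¹) = a * x * a⁻¹ * (a * v₀ * a⁻¹)
    have h1 : a * v₀ * a⁻¹ * (a * x * a⁻¹) = a * (v₀ * x) * a⁻¹ := by group
    have h2 : a * x * a⁻¹ * (a * v₀ * a⁻¹) = a * (x * v₀) * a⁻¹ := by group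
    rw [h1, h2, hc1.eq]
  have hvb : Commute (a * v₀ * a⁻¹) (b * x * b⁻¹) := by
    show a * v₀ * a⁻¹ * (b * x * b⁻¹) = b * x * b⁻¹ * (a * v₀ * a⁻¹)
    have h1 : a * v₀ * a⁻¹ * (b * x * b⁻¹) = a * (v₀ * (a⁻¹ * b * x * (a⁻¹ * b)⁻¹)) * a⁻¹ := by group
    have h2 : b * x * b⁻¹ * (a * v₀ * a⁻¹) = a * ((a⁻¹ * b * x * (a⁻¹ * b)⁻¹) * v₀) * a⁻¹ := by group
    rw [h1, h2, hc2.eq]
  rw [hfix a b hab _ hv hva hvb, hfix b a hab.symm _ hv hvb hva]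

/-- one inclusion of (L2) -/
theorem h23_ln_congr_le (c : Cfg x r M) (a a' b b' : G)
    (ha : ((a : G) : G ⧸ M) = ((a' : G) : G ⧸ M))
    (hb : ((b : G) : G ⧸ M) = ((b' : G) : G ⧸ M)) : ln x M a b ⊆ ln x M a' b' := by
  rintro p (rfl | ⟨i, rfl⟩)
  · left
    exact ha
  · right
    have hn : a'⁻¹ * a ∈ M := QuotientGroup.eq.1 ha.symm
    have hm : b⁻¹ * b' ∈ M := QuotientGroup.eq.1 hb
    have h1 : (a'⁻¹ * a) * x * (a'⁻¹ * a)⁻¹ ∈ Subgroup.zpowers x := c.hnorm _ hn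
    have h2 : ((a'⁻¹ * a) * x * (a'⁻¹ * a)⁻¹) ^ i ∈ Subgroup.zpowers x := Subgroup.pow_mem _ h1 i
    obtain ⟨j, hj⟩ := (Submonoid.mem_powers_iff _ _).1 (mem_powers_iff_mem_zpowers.2 h2)
    refine ⟨j, ?_⟩
    rw [QuotientGroup.eq]
    have h3 : (a * x ^ i * a⁻¹ * b)⁻¹ * (a' * x ^ j * a'⁻¹ * b') = b⁻¹ * b' := by
      rw [hj, conj_pow]
      group
    rw [h3]
    exact hm

theorem ln_congr (c : Cfg x r M) (a a' b b' : G) (ha : ((a : G) : G ⧸ M) = ((a' : G) : G ⧸ M))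
    (hb : ((b : G) : G ⧸ M) = ((b' : G) : G ⧸ M)) : ln x M a b = ln x M a' b' :=
  Set.Subset.antisymm (h23_ln_congr_le c a a' b b' ha hb) (h23_ln_congr_le c a' a b' b ha.symm hb.symm)

end Lines

end Cfsg.Agent.Helper23.N96
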