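import Mathlib
import Cfsg.Agent.Lib.Helper54.O5760BDefs

/-!
# N96 (L3) ln_ncard: a line has exactly four points (helper54 server, S0980 case n_5 = 96)
-/

set_option autoImplicit false
set_option linter.unusedSectionVars false

namespace Cfsg.Agent.Helper23.N96

open Cfsg MulAction Cfsg.Agent.Helper54.O5760B

universe u

section Lines

variable {G : Type u} [Group G] [Finite G] {x r : G} {M : Subgroup G}

theorem ln_ncard (c : Cfg x r M) (a b : G) (hab : ((a : G) : G ⧸ M) ≠ ((b : G) : G ⧸ M)) :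
    (ln x M a b).ncard = 4 := by
  classical
  have hx3 : x ^ 3 = 1 := by rw [← c.hx]; exact pow_orderOf_eq_one x
  have hx2 : x ^ 2 = x⁻¹ := by
    apply eq_inv_of_mul_eq_one_left
    rw [← pow_succ]; exact hx3
  have hgM : a⁻¹ * b ∉ M := fun h => hab (QuotientGroup.eq.2 h)
  -- key: a conjugate of x or x⁻¹ by g in M forces g ∈ M
  have key : ∀ g : G, (g⁻¹ * x * g ∈ M ∨ g⁻¹ * x⁻¹ * g ∈ M) → g ∈ M := by
    intro g hg
    rcases hg with h | h
    · exact c.hfx g h
    · apply c.hfx g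
      have := M.inv_mem h
      have e : (g⁻¹ * x⁻¹ * g)⁻¹ = g⁻¹ * x * g := by group
      rwa [e] at this
  -- the three other points
  let f : Fin 3 → G ⧸ M := fun k => ((a * x ^ (k : ℕ) * a⁻¹ * b : G) : G ⧸ M)
  have hln : ln x M a b = insert ((a : G) : G ⧸ M) (Set.range f) := by
    ext p
    constructor
    · rintro (rfl | ⟨i, rfl⟩)
      · exact Set.mem_insert _ _
      · right
        refine ⟨⟨i % 3, Nat.mod_lt _ (by norm_num)⟩, ?_⟩
        show ((a * x ^ (i % 3) * a⁻¹ * b : G) : G ⧸ M) = _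
        have : x ^ (i % 3) = x ^ i := by
          rw [← c.hx]; exact pow_mod_orderOf x i
        rw [this]
    · rintro (rfl | ⟨k, rfl⟩)
      · left; rfl
      · right; exact ⟨k, rfl⟩
  have hdiff : ∀ i j : Fin 3, i ≠ j →
      ((x ^ (i : ℕ))⁻¹ * x ^ (j : ℕ) = x ∨ (x ^ (i : ℕ))⁻¹ * x ^ (j : ℕ) = x⁻¹) := by
    intro i j hij
    fin_cases i <;> fin_cases j
    · exact absurd rfl hij
    · left; simp
    · right; simp [hx2]
    · right; simp
    · exact absurd rfl hij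
    · left
      show (x ^ 1)⁻¹ * x ^ 2 = x
      rw [pow_one, pow_two]; group
    · left
      show (x ^ 2)⁻¹ * x ^ 0 = x
      rw [hx2]; simp
    · right
      show (x ^ 2)⁻¹ * x ^ 1 = x⁻¹
      rw [pow_one, pow_two]; group
    · exact absurd rfl hij
  have hinj : Function.Injective f := by
    intro i j hij
    by_contra hne
    apply hgM
    apply key
    have h1 : (a * x ^ (i : ℕ) * a⁻¹ * b)⁻¹ * (a * x ^ (j : ℕ) * a⁻¹ * b) ∈ M :=
      QuotientGroup.eq.1 hij
    have e : (a * x ^ (i : ℕ) * a⁻¹ * b)⁻¹ * (a * x ^ (j : ℕ) * a⁻¹ * b)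
        = (a⁻¹ * b)⁻¹ * ((x ^ (i : ℕ))⁻¹ * x ^ (j : ℕ)) * (a⁻¹ * b) := by group
    rw [e] at h1
    rcases hdiff i j hne with h | h
    · left; rwa [h] at h1
    · right; rwa [h] at h1
  have hnot : ((a : G) : G ⧸ M) ∉ Set.range f := by
    rintro ⟨k, hk⟩
    apply hgM
    have h1 : (a * x ^ (k : ℕ) * a⁻¹ * b)⁻¹ * a ∈ M := QuotientGroup.eq.1 hk
    have h2 := M.inv_mem h1
    have e : ((a * x ^ (k : ℕ) * a⁻¹ * b)⁻¹ * a)⁻¹ = x ^ (k : ℕ) * (a⁻¹ * b) := by group
    rw [e] at h2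
    have h3 : (x ^ (k : ℕ))⁻¹ ∈ M := M.inv_mem (M.pow_mem c.hxM _)
    have := M.mul_mem h3 h2
    have e2 : (x ^ (k : ℕ))⁻¹ * (x ^ (k : ℕ) * (a⁻¹ * b)) = a⁻¹ * b := by group
    rwa [e2] at this
  rw [hln, Set.ncard_insert_of_notMem hnot (Set.finite_range f)]
  have : (Set.range f).ncard = 3 := by
    rw [← Set.image_univ, Set.ncard_image_of_injective _ hinj, Set.ncard_univ, Nat.card_fin]
  rw [this]

end Lines

end Cfsg.Agent.Helper23.N96
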