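import Mathlib
import Cfsg.Agent.S1017
import Cfsg.Agent.Lib.Helper54.O5760BDefs

/-!
# N96 (P1) ns96, (P3d) cx_card (helper54 server, S0980 case n_5 = 96)
-/

set_option autoImplicit false
set_option linter.unusedSectionVars false

namespace Cfsg.Agent.Helper23.N96

open Cfsg MulAction Cfsg.Agent.Helper54.O5760B

universe u

theorem h23_arith30 : ∀ a : Fin 97, a.val * 30 ∣ 5760 → 9 ∣ a.val * 30 → a.val % 5 = 1 → a.val ≠ 96 →
    a.val = 6 := by decide

theorem h23_arith60 : ∀ a : Fin 97, a.val * 60 ∣ 5760 → 9 ∣ a.val * 60 → a.val % 5 = 1 → a.val ≠ 96 →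
    a.val = 6 := by decide

section Sylow

variable {G : Type u} [Group G] [Finite G] [IsSimpleGroup G]

theorem ns96 (hG : Nat.card G = 5760) (h96 : Nat.card (Sylow 5 G) = 96) (R : Sylow 5 G) :
    Nat.card (R : Subgroup G) = 5 ∧
    Nat.card (Subgroup.normalizer ((R : Subgroup G) : Set G)) = 60 ∧
    (Nat.card (Subgroup.centralizer ((R : Subgroup G) : Set G)) = 15 ∨
     Nat.card (Subgroup.centralizer ((R : Subgroup G) : Set G)) = 30) := by
  have hfact : Fact (Nat.Prime 5) := ⟨by norm_num⟩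
  have hR : Nat.card (R : Subgroup G) = 5 := by
    have := Cfsg.Agent.S1017.sylow_card_eq R 1 1152 (by rw [hG]; norm_num) (by norm_num)
    simpa using this
  have hN := Cfsg.Agent.S1017.card_sylow_mul_card_normalizer R
  rw [h96, hG] at hN
  have hN60 : Nat.card (Subgroup.normalizer ((R : Subgroup G) : Set G)) = 60 := by omega
  obtain ⟨k, c, hk4, hk1, hC, hNk⟩ :=
    Cfsg.Agent.S1017.normalizer_structure R hR (by rw [hG]; norm_num)
  refine ⟨hR, hN60, ?_⟩
  rw [hC]
  rw [hN60] at hNk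
  have hk : k ∣ 4 := hk4
  have hk' : k ≤ 4 := Nat.le_of_dvd (by norm_num) hk
  interval_cases k
  · simp at hk
  · exact absurd rfl hk1
  · right; omega
  · norm_num at hk
  · left; omega

theorem cx_card (hG : Nat.card G = 5760) (h96 : Nat.card (Sylow 5 G) = 96) (R : Sylow 5 G)
    (x : G) (hxC : x ∈ Subgroup.centralizer ((R : Subgroup G) : Set G))
    (m : ℕ) (hm : Nat.card ↥(Subgroup.normalizer ((R : Subgroup G) : Set G) ⊓
      Subgroup.centralizer ({x} : Set G)) = m) (hm' : m = 30 ∨ m = 60)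
    (h9 : 9 ∣ Nat.card (Subgroup.centralizer ({x} : Set G)))
    (hA : Nat.card {Q : Sylow 5 G // (Q : Subgroup G) ≤ Subgroup.centralizer ({x} : Set G)} ≠ 96)
    (hB2 : Nat.card {Q : Sylow 5 G // (Q : Subgroup G) ≤ Subgroup.centralizer ({x} : Set G)} ≡ 1 [MOD 5]) :
    Nat.card (Subgroup.centralizer ({x} : Set G)) = 6 * m := by
  have hfact : Fact (Nat.Prime 5) := ⟨by norm_num⟩
  have hRle : (R : Subgroup G) ≤ Subgroup.centralizer ({x} : Set G) :=
    (Cfsg.Agent.S1017.le_centralizer_singleton_iff _ x).2 hxC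
  have hcard := Cfsg.Agent.S1017.card_eq_card_mul (Subgroup.centralizer ({x} : Set G)) R hRle
  rw [hm] at hcard
  obtain ⟨a, ha⟩ : ∃ a, a = Nat.card {Q : Sylow 5 G // (Q : Subgroup G) ≤
      Subgroup.centralizer ({x} : Set G)} := ⟨_, rfl⟩
  rw [← ha] at hcard hA hB2
  have ha96 : a ≤ 96 := by
    rw [ha, ← h96]
    exact Nat.card_le_card_of_injective Subtype.val Subtype.val_injective
  have hdvd : Nat.card (Subgroup.centralizer ({x} : Set G)) ∣ 5760 := by
    rw [← hG]
    exact Subgroup.card_subgroup_dvd_card _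
  rw [hcard] at hdvd h9 ⊢
  have hmod : a % 5 = 1 := hB2
  have ha6 : a = 6 := by
    rcases hm' with rfl | rfl
    · exact h23_arith30 ⟨a, by omega⟩ hdvd h9 hmod hA
    · exact h23_arith60 ⟨a, by omega⟩ hdvd h9 hmod hA
  rw [ha6]

end Sylow

end Cfsg.Agent.Helper23.N96
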