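import Mathlib
import Cfsg.Agent.Lib.Helper55.O2520Defs
import Cfsg.Agent.Lib.Helper17.SylowLink
import Cfsg.Agent.Lib.Helper17.Embed
import Cfsg.Agent.Lib.Helper17.EmbedNormalizer
import Cfsg.Agent.S0071
import Cfsg.Agent.Lib.Helper66.O2520C5a

/-!
# O2520 lemma server (helper55, row S0984), wave 2: piece (C5) `sylow5_local` (helper23)

The sub-case `|C(u ^ 2)| = 120` uses helper66's `frobD8` (piece C5a, Frobenius' criterion S0071).
-/

set_option autoImplicit false

namespace Cfsg.Agent.Helper23.O2520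

open Cfsg Cfsg.Agent.Helper55.O2520
open scoped Classical

universe u

/-- unique Sylow subgroup from arithmetic -/
theorem sylow_subsingleton {J : Type u} [Group J] [Finite J] {p : ℕ} [hp : Fact p.Prime] {k m : ℕ}
    (hJ : Nat.card J = p ^ k * m) (hm : ¬ p ∣ m) (h1 : ∀ d, d ∣ m → d % p = 1 → d = 1) :
    Subsingleton (Sylow p J) := by
  obtain ⟨hd, hmod⟩ := Cfsg.Agent.Helper17.sylow_count (G := J) hJ hm
  have h2 := h1 _ hd hmod
  exact (Nat.card_eq_one_iff_unique.1 h2).1

/-- (C5b) generic: a group with a normal subgroup of order 15 has a normal subgroup of order 5. -/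
theorem normal5_of_normal15 {J : Type u} [Group J] [Finite J] (N : Subgroup J) (hN : N.Normal)
    (hN15 : Nat.card N = 15) : ∃ R : Subgroup J, R.Normal ∧ Nat.card R = 5 := by
  haveI : Fact (Nat.Prime 5) := ⟨by norm_num⟩
  haveI := hN
  have hsub : Subsingleton (Sylow 5 ↥N) := by
    apply sylow_subsingleton (p := 5) (k := 1) (m := 3) (by rw [hN15]; norm_num) (by norm_num)
    intro d hd hmod
    have hle : d ≤ 3 := Nat.le_of_dvd (by norm_num) hd
    interval_cases d <;> simp_all
  obtain ⟨R0⟩ : Nonempty (Sylow 5 ↥N) := inferInstance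
  haveI hchar : (R0 : Subgroup ↥N).Characteristic := Sylow.characteristic_of_subsingleton R0
  refine ⟨(R0 : Subgroup ↥N).map N.subtype, ConjAct.normal_of_characteristic_of_normal, ?_⟩
  rw [Subgroup.card_map_of_injective (Subgroup.subtype_injective _)]
  exact Cfsg.Agent.Helper17.sylow_card_eq R0 (k := 1) (m := 3) (by rw [hN15]; norm_num) (by norm_num)

/-- a Sylow 2-subgroup of order 8 containing `a` and `w` -/
theorem exists_sylow2_card8 {J : Type u} [Group J] [Finite J] (a w : J) (ha : orderOf a = 4)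
    (hw : orderOf w = 2) (hwa : w * a * w⁻¹ = a⁻¹) (hJ : Nat.card J ∣ 2520) :
    ∃ P : Sylow 2 J, Nat.card (P : Subgroup J) = 8 ∧ a ∈ (P : Subgroup J) ∧
      w ∈ (P : Subgroup J) := by
  haveI : Fact (Nat.Prime 2) := ⟨Nat.prime_two⟩
  have hZ4 : IsPGroup 2 (Subgroup.zpowers a) :=
    IsPGroup.of_card (n := 2) (by rw [Nat.card_zpowers, ha]; norm_num)
  have hZ2 : IsPGroup 2 (Subgroup.zpowers w) :=
    IsPGroup.of_card (n := 1) (by rw [Nat.card_zpowers, hw]; norm_num)
  have hwa' : w⁻¹ * a * w = a⁻¹ := by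
    have h1 : a = w⁻¹ * a⁻¹ * w := by rw [← hwa]; group
    have h2 : w⁻¹ * a * w = (w⁻¹ * a⁻¹ * w)⁻¹ := by group
    rw [h2, ← h1]
  have hnorm : Subgroup.zpowers w ≤ Subgroup.normalizer (Subgroup.zpowers a : Set J) := by
    rw [Subgroup.zpowers_le, Subgroup.mem_normalizer_iff]
    intro h
    constructor
    · rintro ⟨k, rfl⟩
      refine ⟨-k, ?_⟩
      show a ^ (-k) = w * a ^ k * w⁻¹
      rw [← conj_zpow, hwa, inv_zpow, zpow_neg]
    · rintro ⟨k, hk⟩
      refine ⟨-k, ?_⟩
      have hk' : a ^ k = w * h * w⁻¹ := hk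
      have h3 : h = w⁻¹ * a ^ k * w := by rw [hk']; group
      show a ^ (-k) = h
      rw [h3]
      have h4 : w⁻¹ * a ^ k * w = (w⁻¹ * a * w) ^ k := by
        have := conj_zpow (a := w⁻¹) (b := a) (i := k)
        rw [inv_inv] at this
        exact this.symm
      rw [h4, hwa', inv_zpow, zpow_neg]
  have hT : IsPGroup 2 (Subgroup.zpowers a ⊔ Subgroup.zpowers w : Subgroup J) :=
    IsPGroup.to_sup_of_normal_left' hZ4 hZ2 hnorm
  obtain ⟨P, hTP⟩ := hT.exists_le_sylow
  have haP : a ∈ (P : Subgroup J) := hTP (Subgroup.mem_sup_left (Subgroup.mem_zpowers a))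
  have hwP : w ∈ (P : Subgroup J) := hTP (Subgroup.mem_sup_right (Subgroup.mem_zpowers w))
  refine ⟨P, ?_, haP, hwP⟩
  obtain ⟨n, hn⟩ := (P.isPGroup').exists_card_eq
  have h4 : 4 ∣ Nat.card (P : Subgroup J) := by
    rw [← ha]
    exact Subgroup.orderOf_dvd_natCard _ haP
  have hdvd : Nat.card (P : Subgroup J) ∣ 2520 := (Subgroup.card_subgroup_dvd_card _).trans hJ
  rw [hn] at h4 hdvd ⊢
  have hn3 : n ≤ 3 := by
    by_contra hcon
    have h16 : 2 ^ 4 ∣ 2 ^ n := pow_dvd_pow 2 (by omega)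
    have := h16.trans hdvd
    norm_num at this
  have hn2 : 2 ≤ n := by
    by_contra hcon
    have : n = 0 ∨ n = 1 := by omega
    rcases this with rfl | rfl <;> norm_num at h4
  have hne : n ≠ 2 := by
    rintro rfl
    -- `P = zpowers a`, so `w` commutes with `a`
    have hle : Subgroup.zpowers a ≤ (P : Subgroup J) := (Subgroup.zpowers_le).2 haP
    have heq : Subgroup.zpowers a = (P : Subgroup J) :=
      Subgroup.eq_of_le_of_card_ge hle (by rw [hn, Nat.card_zpowers, ha]; norm_num)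
    have hwZ : w ∈ Subgroup.zpowers a := by rw [heq]; exact hwP
    obtain ⟨k, hk⟩ := hwZ
    have hcomm : w * a * w⁻¹ = a := by
      rw [← hk]
      have : a ^ k * a = a * a ^ k := (Commute.zpow_self a k).eq.symm ▸ rfl
      rw [this, mul_assoc, mul_inv_cancel, mul_one]
    rw [hwa] at hcomm
    -- `a⁻¹ = a` gives `a ^ 2 = 1`
    have h2 : a ^ 2 = 1 := by
      have : a * a = 1 := by
        nth_rewrite 1 [← hcomm]
        exact inv_mul_cancel a
      rw [pow_two]
      exact this
    have := orderOf_dvd_of_pow_eq_one h2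
    rw [ha] at this
    norm_num at this
  have : n = 3 := by omega
  rw [this]
  norm_num

/-- a subgroup `J` of `G` with a normal (in `J`) subgroup of order 5 has order dividing 20, when all
Sylow 5-subgroups of `G` have order 5 and normalizers of order 20 -/
theorem card_dvd_of_normal5 {G : Type u} [Group G] [Finite G]
    (hQ5 : ∀ Q' : Sylow 5 G, Nat.card (Q' : Subgroup G) = 5)
    (hN5 : ∀ Q' : Sylow 5 G, Nat.card (Subgroup.normalizer ((Q' : Subgroup G) : Set G)) = 20)
    (J : Subgroup G) (R : Subgroup ↥J) (hR : R.Normal) (hR5 : Nat.card R = 5) :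
    Nat.card J ∣ 20 := by
  haveI : Fact (Nat.Prime 5) := ⟨by norm_num⟩
  have hR'card : Nat.card (R.map J.subtype) = 5 := by
    rw [Subgroup.card_map_of_injective (Subgroup.subtype_injective _), hR5]
  have hpg : IsPGroup 5 (R.map J.subtype) := IsPGroup.of_card (n := 1) (by rw [hR'card]; norm_num)
  obtain ⟨Q', hQ'⟩ := hpg.exists_le_sylow
  have heq : R.map J.subtype = (Q' : Subgroup G) :=
    Subgroup.eq_of_le_of_card_ge hQ' (by rw [hQ5, hR'card])
  have hJN : J ≤ Subgroup.normalizer ((Q' : Subgroup G) : Set G) := by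
    intro j hj
    rw [← heq, Subgroup.mem_normalizer_iff]
    intro h
    constructor
    · rintro ⟨r, hr, rfl⟩
      exact ⟨⟨j, hj⟩ * r * ⟨j, hj⟩⁻¹, hR.conj_mem r hr ⟨j, hj⟩, rfl⟩
    · rintro ⟨r, hr, hreq⟩
      have h1 : (⟨j, hj⟩ : ↥J)⁻¹ * r * (⟨j, hj⟩ : ↥J)⁻¹⁻¹ ∈ R := hR.conj_mem r hr _
      refine ⟨(⟨j, hj⟩ : ↥J)⁻¹ * r * (⟨j, hj⟩ : ↥J)⁻¹⁻¹, h1, ?_⟩
      have h2 : (r : G) = j * h * j⁻¹ := hreq
      show j⁻¹ * (r : G) * j⁻¹⁻¹ = h
      rw [h2]
      group
  rw [← hN5 Q']
  exact Subgroup.card_dvd_of_le hJN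

/-- divisors of 2520 divisible by 40 -/
theorem dvd_2520_of_40 : ∀ c ∈ Nat.divisors 2520, 40 ∣ c →
    c = 40 ∨ c = 120 ∨ c = 280 ∨ c = 360 ∨ c = 840 ∨ c = 2520 := by
  decide +kernel

section grp
variable {G : Type u} [Group G] [Finite G] [IsSimpleGroup G] (hG : Nat.card G = 2520)
include hG

set_option maxHeartbeats 2000000 in
/-- (C5) -/
theorem sylow5_local (h7 : Nat.card (Sylow 7 G) = 120) (h5 : Nat.card (Sylow 5 G) = 126)
    (u w : G) (hu : orderOf u = 4) (hw : orderOf w = 2) (hwu : w * u * w⁻¹ = u⁻¹)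
    (hinv : ∀ t : G, orderOf t = 2 → IsConj t (u ^ 2)) (Q : Sylow 5 G) :
    Done G ∨ (Nat.card (Subgroup.normalizer ((Q : Subgroup G) : Set G)) = 20 ∧
      Subgroup.centralizer ((Q : Subgroup G) : Set G) = (Q : Subgroup G)) := by
  haveI hp5 : Fact (Nat.Prime 5) := ⟨by norm_num⟩
  haveI hp7 : Fact (Nat.Prime 7) := ⟨by norm_num⟩
  haveI hp2 : Fact (Nat.Prime 2) := ⟨Nat.prime_two⟩
  have hnc : ¬ IsMulCommutative G :=
    Cfsg.Agent.Helper17.not_comm_of_not_prime (by rw [hG]; norm_num)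
  have hN5 : ∀ Q' : Sylow 5 G,
      Nat.card (Subgroup.normalizer ((Q' : Subgroup G) : Set G)) = 20 := by
    intro Q'
    have h := Cfsg.Agent.Helper17.card_normalizer_mul_sylow_count Q'
    rw [h5, hG] at h
    omega
  have hN7 : ∀ Q' : Sylow 7 G,
      Nat.card (Subgroup.normalizer ((Q' : Subgroup G) : Set G)) = 21 := by
    intro Q'
    have h := Cfsg.Agent.Helper17.card_normalizer_mul_sylow_count Q'
    rw [h7, hG] at h
    omega
  have hQ5 : ∀ Q' : Sylow 5 G, Nat.card (Q' : Subgroup G) = 5 := by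
    intro Q'
    have h := Cfsg.Agent.Helper17.sylow_card_eq Q' (k := 1) (m := 504) (by rw [hG]; norm_num)
      (by norm_num)
    simpa using h
  have hQ7 : ∀ Q' : Sylow 7 G, Nat.card (Q' : Subgroup G) = 7 := by
    intro Q'
    have h := Cfsg.Agent.Helper17.sylow_card_eq Q' (k := 1) (m := 360) (by rw [hG]; norm_num)
      (by norm_num)
    simpa using h
  obtain ⟨e, he4, he1, hCe⟩ := Cfsg.Agent.Helper17.exists_e Q (hQ5 Q) (by rw [hG]; norm_num)
  rw [hN5 Q] at hCe
  have he : e = 2 ∨ e = 4 := by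
    have hle : e ≤ 4 := Nat.le_of_dvd (by norm_num) he4
    interval_cases e <;> simp_all
  rcases he with rfl | rfl
  · -- `|C(Q)| = 10`
    left
    have hC10 : Nat.card (Subgroup.centralizer ((Q : Subgroup G) : Set G)) = 10 := by omega
    obtain ⟨t', ht'⟩ := exists_prime_orderOf_dvd_card'
      (G := ↥(Subgroup.centralizer ((Q : Subgroup G) : Set G))) 2 (by rw [hC10]; norm_num)
    have ht : orderOf (t' : G) = 2 := by rw [Subgroup.orderOf_coe]; exact ht'
    have htC : (t' : G) ∈ Subgroup.centralizer ((Q : Subgroup G) : Set G) := t'.2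
    obtain ⟨g, hg⟩ := isConj_iff.1 (hinv (t' : G) ht)
    obtain ⟨x0, hx0⟩ := exists_prime_orderOf_dvd_card' (G := ↥(Q : Subgroup G)) 5
      (by rw [hQ5])
    have hx : orderOf (x0 : G) = 5 := by rw [Subgroup.orderOf_coe]; exact hx0
    have hxt : (x0 : G) * (t' : G) = (t' : G) * (x0 : G) :=
      (Subgroup.mem_centralizer_iff.1 htC) (x0 : G) x0.2
    -- `y = g x g⁻¹` has order 5 and commutes with `u ^ 2`
    have hy : orderOf (g * (x0 : G) * g⁻¹) = 5 := by
      have hsc : SemiconjBy g (x0 : G) (g * (x0 : G) * g⁻¹) := by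
        unfold SemiconjBy
        group
      rw [← hsc.orderOf_eq, hx]
    have hyu : (g * (x0 : G) * g⁻¹) * u ^ 2 = u ^ 2 * (g * (x0 : G) * g⁻¹) := by
      rw [← hg]
      calc g * (x0 : G) * g⁻¹ * (g * (t' : G) * g⁻¹) = g * ((x0 : G) * (t' : G)) * g⁻¹ := by group
        _ = g * ((t' : G) * (x0 : G)) * g⁻¹ := by rw [hxt]
        _ = g * (t' : G) * g⁻¹ * (g * (x0 : G) * g⁻¹) := by group
    have hyJ : g * (x0 : G) * g⁻¹ ∈ Subgroup.centralizer ({u ^ 2} : Set G) := by
      rw [Subgroup.mem_centralizer_singleton_iff]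
      exact hyu
    have huJ : u ∈ Subgroup.centralizer ({u ^ 2} : Set G) := by
      rw [Subgroup.mem_centralizer_singleton_iff]
      rw [← pow_succ, ← pow_succ']
    have hwu2 : w * u ^ 2 = u ^ 2 * w := by
      have h1 : w * u ^ 2 * w⁻¹ = (u ^ 2)⁻¹ := by
        rw [← conj_pow, hwu, inv_pow]
      have h2 : (u ^ 2)⁻¹ = u ^ 2 := by
        rw [inv_eq_iff_mul_eq_one, ← pow_add]
        have := pow_orderOf_eq_one u
        rw [hu] at this
        exact this
      rw [h2] at h1
      calc w * u ^ 2 = w * u ^ 2 * w⁻¹ * w := by group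
        _ = u ^ 2 * w := by rw [h1]
    have hwJ : w ∈ Subgroup.centralizer ({u ^ 2} : Set G) := by
      rw [Subgroup.mem_centralizer_singleton_iff]
      exact hwu2
    -- move to the group `J = C(u ^ 2)`
    have hJdvd : Nat.card ↥(Subgroup.centralizer ({u ^ 2} : Set G)) ∣ 2520 := by
      rw [← hG]
      exact Subgroup.card_subgroup_dvd_card _
    have haJ : orderOf (⟨u, huJ⟩ : ↥(Subgroup.centralizer ({u ^ 2} : Set G))) = 4 := by
      rw [← Subgroup.orderOf_coe]
      exact hu
    have hwJo : orderOf (⟨w, hwJ⟩ : ↥(Subgroup.centralizer ({u ^ 2} : Set G))) = 2 := by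
      rw [← Subgroup.orderOf_coe]
      exact hw
    have hwaJ : (⟨w, hwJ⟩ : ↥(Subgroup.centralizer ({u ^ 2} : Set G))) * ⟨u, huJ⟩ * ⟨w, hwJ⟩⁻¹ =
        ⟨u, huJ⟩⁻¹ := Subtype.ext hwu
    obtain ⟨P, hP8, haP, hwP⟩ := exists_sylow2_card8 _ _ haJ hwJo hwaJ hJdvd
    have h8 : 8 ∣ Nat.card ↥(Subgroup.centralizer ({u ^ 2} : Set G)) := by
      rw [← hP8]
      exact Subgroup.card_subgroup_dvd_card _
    have h5c : 5 ∣ Nat.card ↥(Subgroup.centralizer ({u ^ 2} : Set G)) := by
      rw [← hy]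
      exact Subgroup.orderOf_dvd_natCard _ hyJ
    have h40 : 40 ∣ Nat.card ↥(Subgroup.centralizer ({u ^ 2} : Set G)) :=
      Nat.Coprime.mul_dvd_of_dvd_of_dvd (by norm_num : Nat.Coprime 8 5) h8 h5c
    have hcases := dvd_2520_of_40 _ (Nat.mem_divisors.2 ⟨hJdvd, by norm_num⟩) h40
    have hzJ : ∀ x : ↥(Subgroup.centralizer ({u ^ 2} : Set G)),
        x * (⟨u, huJ⟩ : ↥(Subgroup.centralizer ({u ^ 2} : Set G))) ^ 2 = ⟨u, huJ⟩ ^ 2 * x := by
      intro x
      apply Subtype.ext
      have h1 := Subgroup.mem_centralizer_singleton_iff.1 x.2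
      exact h1
    rcases hcases with hc | hc | hc | hc | hc | hc
    · -- 40: normal Sylow 5 in `J`
      exfalso
      have hsub : Subsingleton (Sylow 5 ↥(Subgroup.centralizer ({u ^ 2} : Set G))) := by
        apply sylow_subsingleton (p := 5) (k := 1) (m := 8) (by rw [hc]; norm_num) (by norm_num)
        intro d hd hmod
        have hle : d ≤ 8 := Nat.le_of_dvd (by norm_num) hd
        interval_cases d <;> simp_all
      obtain ⟨R0⟩ : Nonempty (Sylow 5 ↥(Subgroup.centralizer ({u ^ 2} : Set G))) := inferInstance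
      have hR0n : (R0 : Subgroup ↥(Subgroup.centralizer ({u ^ 2} : Set G))).Normal :=
        Sylow.normal_of_subsingleton R0
      have hR0c : Nat.card (R0 : Subgroup ↥(Subgroup.centralizer ({u ^ 2} : Set G))) = 5 := by
        have h := Cfsg.Agent.Helper17.sylow_card_eq R0 (k := 1) (m := 8) (by rw [hc]; norm_num)
          (by norm_num)
        simpa using h
      have h20 := card_dvd_of_normal5 hQ5 hN5 _ _ hR0n hR0c
      rw [hc] at h20
      norm_num at h20
    · -- 120: Frobenius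
      exfalso
      obtain ⟨N, hNn, hNc⟩ := Cfsg.Agent.Helper66.O2520.frobD8 _ _ haJ hwJo hwaJ hzJ P hP8 haP hwP
      have hN15 : Nat.card N = 15 := by
        have h1 := hNc.card_mul_card
        rw [hP8, hc] at h1
        omega
      obtain ⟨R, hRn, hR5⟩ := normal5_of_normal15 N hNn hN15
      have h20 := card_dvd_of_normal5 hQ5 hN5 _ _ hRn hR5
      rw [hc] at h20
      norm_num at h20
    · -- 280: an element of order 7 commuting with the involution `u ^ 2`
      exfalso
      obtain ⟨y7, hy7⟩ := exists_prime_orderOf_dvd_card'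
        (G := ↥(Subgroup.centralizer ({u ^ 2} : Set G))) 7 (by rw [hc]; norm_num)
      have hy7o : orderOf (y7 : G) = 7 := by rw [Subgroup.orderOf_coe]; exact hy7
      have hpg : IsPGroup 7 (Subgroup.zpowers (y7 : G)) :=
        IsPGroup.of_card (n := 1) (by rw [Nat.card_zpowers, hy7o]; norm_num)
      obtain ⟨Q7, hQ7le⟩ := hpg.exists_le_sylow
      have heq : Subgroup.zpowers (y7 : G) = (Q7 : Subgroup G) :=
        Subgroup.eq_of_le_of_card_ge hQ7le (by rw [hQ7, Nat.card_zpowers, hy7o])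
      have hu2N : u ^ 2 ∈ Subgroup.normalizer ((Q7 : Subgroup G) : Set G) := by
        apply Subgroup.centralizer_le_normalizer
        rw [← heq, Subgroup.mem_centralizer_iff]
        rintro h ⟨k, rfl⟩
        have h1 : (y7 : G) * u ^ 2 = u ^ 2 * (y7 : G) :=
          Subgroup.mem_centralizer_singleton_iff.1 y7.2
        have h2 : Commute (y7 : G) (u ^ 2) := h1
        exact (h2.zpow_left k).eq
      have h3 := Subgroup.orderOf_dvd_natCard _ hu2N
      rw [hN7 Q7] at h3
      have hu2 : orderOf (u ^ 2) = 2 := by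
        rw [orderOf_pow' u (by norm_num : (2 : ℕ) ≠ 0), hu]
        norm_num
      rw [hu2] at h3
      norm_num at h3
    · -- 360: done
      exact ⟨_, hc⟩
    · -- 840: index 3
      exfalso
      have hne : Subgroup.centralizer ({u ^ 2} : Set G) ≠ ⊤ := by
        intro htop
        rw [htop, Subgroup.card_top, hG] at hc
        norm_num at hc
      have h1 := Cfsg.Agent.Helper17.two_mul_card_dvd_factorial hnc _ hne
      have hidx : (Subgroup.centralizer ({u ^ 2} : Set G)).index = 3 := by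
        have h2 := Subgroup.card_mul_index (Subgroup.centralizer ({u ^ 2} : Set G))
        rw [hc, hG] at h2
        omega
      rw [hidx, hG] at h1
      norm_num [Nat.factorial] at h1
    · -- 2520: `u ^ 2` is central
      exfalso
      have htop : Subgroup.centralizer ({u ^ 2} : Set G) = ⊤ :=
        Subgroup.eq_top_of_card_eq _ (by rw [hc, hG])
      have hcen : u ^ 2 ∈ Subgroup.center G := by
        rw [Subgroup.mem_center_iff]
        intro x
        have hx : x ∈ Subgroup.centralizer ({u ^ 2} : Set G) := by rw [htop]; trivial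
        exact Subgroup.mem_centralizer_singleton_iff.1 hx
      have hu21 : u ^ 2 ≠ 1 := by
        intro h
        have := orderOf_dvd_of_pow_eq_one h
        rw [hu] at this
        norm_num at this
      rcases (Subgroup.center G).normal_of_characteristic.eq_bot_or_eq_top with hb | ht2
      · rw [hb, Subgroup.mem_bot] at hcen
        exact hu21 hcen
      · exact hnc (Subgroup.center_eq_top_iff.1 ht2)
  · -- `|C(Q)| = 5`
    right
    refine ⟨hN5 Q, ?_⟩
    have hC5 : Nat.card (Subgroup.centralizer ((Q : Subgroup G) : Set G)) = 5 := by omega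
    obtain ⟨x0, hx0⟩ := exists_prime_orderOf_dvd_card' (G := ↥(Q : Subgroup G)) 5
      (by rw [hQ5])
    have hx : orderOf (x0 : G) = 5 := by rw [Subgroup.orderOf_coe]; exact hx0
    have hzp : Subgroup.zpowers (x0 : G) = (Q : Subgroup G) :=
      Subgroup.eq_of_le_of_card_ge ((Subgroup.zpowers_le).2 x0.2)
        (by rw [hQ5, Nat.card_zpowers, hx])
    have hle : (Q : Subgroup G) ≤ Subgroup.centralizer ((Q : Subgroup G) : Set G) := by
      rw [← hzp]
      rintro a ⟨i, rfl⟩
      rw [Subgroup.mem_centralizer_iff]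
      rintro b ⟨j, rfl⟩
      show (x0 : G) ^ j * (x0 : G) ^ i = (x0 : G) ^ i * (x0 : G) ^ j
      rw [← zpow_add, ← zpow_add, add_comm]
    exact (Subgroup.eq_of_le_of_card_ge hle (by rw [hC5, hQ5])).symm

end grp

end Cfsg.Agent.Helper23.O2520
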