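import Mathlib
import Cfsg.Agent.Lib.Helper87.SVKit

/-!
# Server O459648 (helper53, S1022): piece (B1) `norm_eq` (helper23)
-/

set_option autoImplicit false

namespace Cfsg.Agent.Helper23.O459648

/-- divisors of 1008 that are 1 mod 19 -/
theorem dvd_1008_mod_19 : ∀ d ∈ Nat.divisors 1008, d % 19 = 1 → d = 1 ∨ d = 1008 := by
  decide +kernel

/-- (B1) KEY: `M = N_G(X)` contains `P`, `N_M(P) = N`, `|M : N|` is the number of Sylow 19-subgroups
of `M`: it is 1 mod 19 and divides 1008, so it is 1 or 1008; 1008 means `M = ⊤`, `X` normal -/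
theorem norm_eq {G : Type*} [Group G] [Finite G] [IsSimpleGroup G] (hG : Nat.card G = 459648)
    (h1008 : Nat.card (Sylow 19 G) = 1008) (P : Sylow 19 G) (X : Subgroup G) (hX : X ≠ ⊥)
    (hX' : X ≠ ⊤)
    (hN : Subgroup.normalizer ((P : Subgroup G) : Set G) ≤ Subgroup.normalizer (X : Set G)) :
    Subgroup.normalizer (X : Set G) = Subgroup.normalizer ((P : Subgroup G) : Set G) := by
  classical
  have : Fact (Nat.Prime 19) := ⟨by norm_num⟩
  have hNcard : Nat.card (Subgroup.normalizer ((P : Subgroup G) : Set G)) = 456 := by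
    have h1 := Cfsg.Agent.Helper17.card_normalizer_mul_sylow_count P
    rw [h1008, hG] at h1
    omega
  have hMtop : Subgroup.normalizer (X : Set G) ≠ ⊤ := by
    intro h
    have hn : X.Normal := Subgroup.normalizer_eq_top_iff.1 h
    rcases hn.eq_bot_or_eq_top with h | h
    exacts [hX h, hX' h]
  have hPM : (P : Subgroup G) ≤ Subgroup.normalizer (X : Set G) :=
    le_trans Subgroup.le_normalizer hN
  have h3 := Cfsg.Agent.Helper17.card_normalizer_subtype (Subgroup.normalizer (X : Set G)) P hPM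
  rw [inf_eq_left.2 hN, hNcard] at h3
  have h5 := Cfsg.Agent.Helper17.card_normalizer_mul_sylow_count
    (P.subtype hPM : Sylow 19 ↥(Subgroup.normalizer (X : Set G)))
  rw [h3] at h5
  have h7 : Nat.card (Sylow 19 ↥(Subgroup.normalizer (X : Set G))) % 19 = 1 := by
    have h := card_sylow_modEq_one 19 ↥(Subgroup.normalizer (X : Set G))
    rw [Nat.ModEq] at h
    omega
  have h8 : Nat.card ↥(Subgroup.normalizer (X : Set G)) ∣ 459648 := by
    rw [← hG]
    exact Subgroup.card_subgroup_dvd_card _
  have h9 : Nat.card (Sylow 19 ↥(Subgroup.normalizer (X : Set G))) ∣ 1008 := by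
    rw [← h5] at h8
    have h10 : (459648 : ℕ) = 456 * 1008 := by norm_num
    rw [h10] at h8
    exact Nat.dvd_of_mul_dvd_mul_left (by norm_num) h8
  have h11 := dvd_1008_mod_19 _ (Nat.mem_divisors.2 ⟨h9, by norm_num⟩) h7
  rcases h11 with h11 | h11
  · rw [h11] at h5
    symm
    apply Subgroup.eq_of_le_of_card_ge hN
    rw [hNcard, ← h5]
  · exfalso
    apply hMtop
    apply Subgroup.eq_top_of_card_eq
    rw [← h5, h11, hG]

end Cfsg.Agent.Helper23.O459648
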