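import Mathlib
import Cfsg.Agent.Lib.Helper87.SVKit

/-!
# Server O459648 (helper53, S1022): piece (B3p) `order_pow` (helper23)
-/

set_option autoImplicit false

namespace Cfsg.Agent.Helper23.O459648

/-- (B3p) `Z` central of order 19 in `H` of order `19 * 2 ^ k`: the Sylow 2-subgroup `V` has
`|N_H(V)|` divisible by `2 ^ k` and by 19, so it is normal, so it is the only subgroup of its order -/
theorem order_pow {H : Type*} [Group H] [Finite H] (k : ℕ) (hH : Nat.card H = 19 * 2 ^ k)
    (Z : Subgroup H) (hZ : Nat.card Z = 19) (hZc : Z ≤ Subgroup.center H) :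
    ∃ W : Subgroup H, Nat.card W = 2 ^ k ∧ ∀ W' : Subgroup H, Nat.card W' = 2 ^ k → W' = W := by
  classical
  haveI : Fact (Nat.Prime 2) := ⟨Nat.prime_two⟩
  obtain ⟨V⟩ : Nonempty (Sylow 2 H) := inferInstance
  have hVcard : Nat.card (V : Subgroup H) = 2 ^ k :=
    Cfsg.Agent.Helper17.sylow_card_eq V (by rw [hH, mul_comm]) (by norm_num)
  have hZN : Z ≤ Subgroup.normalizer ((V : Subgroup H) : Set H) :=
    hZc.trans (Subgroup.center_le_normalizer _)
  have h19 : 19 ∣ Nat.card (Subgroup.normalizer ((V : Subgroup H) : Set H)) := by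
    rw [← hZ]
    exact Subgroup.card_dvd_of_le hZN
  have h2k : 2 ^ k ∣ Nat.card (Subgroup.normalizer ((V : Subgroup H) : Set H)) := by
    rw [← hVcard]
    exact Subgroup.card_dvd_of_le Subgroup.le_normalizer
  have hcop : Nat.Coprime 19 (2 ^ k) := Nat.Coprime.pow_right k (by norm_num)
  have hdvd : 19 * 2 ^ k ∣ Nat.card (Subgroup.normalizer ((V : Subgroup H) : Set H)) :=
    hcop.mul_dvd_of_dvd_of_dvd h19 h2k
  have htop : Subgroup.normalizer ((V : Subgroup H) : Set H) = ⊤ := by
    apply Subgroup.eq_top_of_le_card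
    rw [hH]
    exact Nat.le_of_dvd Nat.card_pos hdvd
  haveI hVn : (V : Subgroup H).Normal := Subgroup.normalizer_eq_top_iff.1 htop
  refine ⟨V, hVcard, ?_⟩
  intro W' hW'
  have hp2 : IsPGroup 2 W' := IsPGroup.of_card hW'
  obtain ⟨Q, hQ⟩ := hp2.exists_le_sylow
  have hQV : Q = V := by
    obtain ⟨g, hg⟩ := MulAction.exists_smul_eq H V Q
    rw [← hg]
    exact Sylow.smul_eq_of_normal
  rw [hQV] at hQ
  exact Subgroup.eq_of_le_of_card_ge hQ (by rw [hVcard, hW'])

end Cfsg.Agent.Helper23.O459648
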