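import Mathlib
import Cfsg.Agent.Lib.Helper87.SVKit

/-!
# Server O459648 (helper53, S1022): piece (B3u) `unique_to_normal` (helper23)
-/

set_option autoImplicit false

namespace Cfsg.Agent.Helper23.O459648

/-- `N_G(P)` normalises `C_G(P)`, elementwise -/
theorem conj_mem_centralizer {G : Type*} [Group G] (P : Subgroup G) {n c : G}
    (hn : n ∈ Subgroup.normalizer (P : Set G)) (hc : c ∈ Subgroup.centralizer (P : Set G)) :
    n * c * n⁻¹ ∈ Subgroup.centralizer (P : Set G) := by
  rw [Subgroup.mem_centralizer_iff]
  intro x hx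
  have hy : n⁻¹ * x * n ∈ P := (Subgroup.mem_normalizer_iff''.1 hn x).1 hx
  have h1 := (Subgroup.mem_centralizer_iff.1 hc) (n⁻¹ * x * n) hy
  calc x * (n * c * n⁻¹) = n * ((n⁻¹ * x * n) * c) * n⁻¹ := by group
    _ = n * (c * (n⁻¹ * x * n)) * n⁻¹ := by rw [h1]
    _ = n * c * n⁻¹ * x := by group

/-- (B3u) a subgroup of `C_G(P)` that is the only one of its order there, pushed to `G`, is
normalised by `N_G(P)` (`N_G(P)` normalises `C_G(P)`) -/
theorem unique_to_normal {G : Type*} [Group G] [Finite G] (P : Subgroup G) (j : ℕ)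
    (W : Subgroup ↥(Subgroup.centralizer (P : Set G))) (hW : Nat.card W = j)
    (huniq : ∀ W' : Subgroup ↥(Subgroup.centralizer (P : Set G)), Nat.card W' = j → W' = W) :
    ∃ V : Subgroup G, Nat.card V = j ∧ V ≤ Subgroup.centralizer (P : Set G) ∧
      Subgroup.normalizer (P : Set G) ≤ Subgroup.normalizer (V : Set G) := by
  have hVcard : Nat.card (W.map (Subgroup.centralizer (P : Set G)).subtype) = j := by
    rw [Subgroup.card_map_of_injective (Subgroup.subtype_injective _), hW]
  have hVle : W.map (Subgroup.centralizer (P : Set G)).subtype ≤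
      Subgroup.centralizer (P : Set G) := Subgroup.map_subtype_le W
  refine ⟨W.map (Subgroup.centralizer (P : Set G)).subtype, hVcard, hVle, ?_⟩
  -- every `n ∈ N_G(P)` maps `V` into itself
  have key : ∀ n ∈ Subgroup.normalizer (P : Set G),
      (W.map (Subgroup.centralizer (P : Set G)).subtype).map (MulAut.conj n).toMonoidHom =
        W.map (Subgroup.centralizer (P : Set G)).subtype := by
    intro n hn
    have hKle : (W.map (Subgroup.centralizer (P : Set G)).subtype).map
        (MulAut.conj n).toMonoidHom ≤ Subgroup.centralizer (P : Set G) := by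
      rintro x ⟨y, hy, rfl⟩
      have hyC : y ∈ Subgroup.centralizer (P : Set G) := hVle hy
      show n * y * n⁻¹ ∈ Subgroup.centralizer (P : Set G)
      exact conj_mem_centralizer P hn hyC
    have hKcard : Nat.card (((W.map (Subgroup.centralizer (P : Set G)).subtype).map
        (MulAut.conj n).toMonoidHom).subgroupOf (Subgroup.centralizer (P : Set G))) = j := by
      rw [Nat.card_congr (Subgroup.subgroupOfEquivOfLe hKle).toEquiv,
        Subgroup.card_map_of_injective (MulAut.conj n).injective, hVcard]
    have h1 := huniq _ hKcard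
    have h2 := Subgroup.map_subgroupOf_eq_of_le hKle
    rw [h1] at h2
    exact h2.symm
  intro n hn
  rw [Subgroup.mem_normalizer_iff]
  intro h
  constructor
  · intro hh
    have h1 : n * h * n⁻¹ ∈ (W.map (Subgroup.centralizer (P : Set G)).subtype).map
        (MulAut.conj n).toMonoidHom := ⟨h, hh, rfl⟩
    rw [key n hn] at h1
    exact h1
  · intro hh
    rw [← key n hn] at hh
    obtain ⟨y, hy, hyeq⟩ := hh
    have h2 : n * y * n⁻¹ = n * h * n⁻¹ := hyeq
    have h3 : y = h := by
      have := mul_right_cancel h2
      exact mul_left_cancel this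
    rw [← h3]
    exact hy

end Cfsg.Agent.Helper23.O459648
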