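import Mathlib

/-!
# ONS (B): `a * b ∈ L` for `L` of index 2, `a, b` involutions with `(a b)^3 = 1` (helper37 server, S1699)
-/

set_option autoImplicit false

namespace Cfsg.Agent.Helper23.ONS
universe u

theorem mul_mem_of_index_two {H : Type u} [Group H] (L : Subgroup H) [hLn : L.Normal] (hL : L.index = 2)
    (a b : H) (ha : a * a = 1) (hb : b * b = 1) (hab : (a * b) ^ 3 = 1) : a * b ∈ L := by
  rw [Subgroup.mul_mem_iff_of_index_two hL]
  have hainv : a⁻¹ = a := inv_eq_of_mul_eq_one_right ha
  have hbinv : b⁻¹ = b := inv_eq_of_mul_eq_one_right hb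
  have h3 : a * b * (a * b) * (a * b) = 1 := by rw [← hab, pow_succ, pow_two]
  have hconj : (a * b) * a * (a * b)⁻¹ = b := by
    have h1 : (a * b) * a * (a * b)⁻¹ = a * b * a * b⁻¹ * a⁻¹ := by group
    rw [h1, hainv, hbinv]
    -- a b a b a = b
    have h2 : a * b * a * b * a * b = 1 := by
      calc a * b * a * b * a * b = a * b * (a * b) * (a * b) := by group
        _ = 1 := h3
    calc a * b * a * b * a = (a * b * a * b * a * b) * b⁻¹ := by group
      _ = b := by rw [h2, one_mul, hbinv]
  have hconj' : (a * b)⁻¹ * b * (a * b) = a := by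
    calc (a * b)⁻¹ * b * (a * b) = (a * b)⁻¹ * ((a * b) * a * (a * b)⁻¹) * (a * b) := by rw [hconj]
      _ = a := by group
  constructor
  · intro h
    rw [← hconj]
    exact hLn.conj_mem a h (a * b)
  · intro h
    rw [← hconj']
    have := hLn.conj_mem b h (a * b)⁻¹
    simpa using this

end Cfsg.Agent.Helper23.ONS
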