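import Mathlib

/-!
# ONS (CARD): `N` normal, `N ⊓ H = ⊥` ⟹ `|N|` divides `|G : H|` (helper37 server, S1699)
-/

set_option autoImplicit false

namespace Cfsg.Agent.Helper23.ONS
universe u

theorem card_dvd_index_of_inf_eq_bot {G : Type u} [Group G] [Finite G] (N H : Subgroup G) [N.Normal]
    (h : N ⊓ H = ⊥) : Nat.card N ∣ H.index := by
  have h1 : N.relIndex (H ⊔ N) = Nat.card H := by
    rw [Subgroup.relIndex_sup_right, ← Subgroup.inf_relIndex_right, h, Subgroup.relIndex_bot_left]
  have h2 := Subgroup.relIndex_mul_index (le_sup_right : N ≤ H ⊔ N)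
  rw [h1] at h2
  have h3 := Subgroup.card_mul_index N
  have h4 := Subgroup.card_mul_index H
  have hHpos : 0 < Nat.card H := Nat.card_pos
  refine ⟨(H ⊔ N).index, ?_⟩
  have h5 : Nat.card H * H.index = Nat.card H * (Nat.card N * (H ⊔ N).index) := by
    rw [h4, ← h3, ← h2]; ring
  exact Nat.eq_of_mul_eq_mul_left hHpos h5

end Cfsg.Agent.Helper23.ONS
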