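import Mathlib

/-!
# ONS (GEN): a subgroup of `N` containing a Sylow `r`-subgroup of `N` for every `r` is `N`
(helper37 server, S1699)
-/

set_option autoImplicit false

namespace Cfsg.Agent.Helper23.ONS
universe u

theorem eq_of_contains_sylows {G : Type u} [Group G] [Finite G] (N C : Subgroup G) (hC : C ≤ N)
    (h : ∀ (r : ℕ) [Fact r.Prime], ∃ P : Sylow r N, (P : Subgroup N).map N.subtype ≤ C) : C = N := by
  have hNpos : Nat.card N ≠ 0 := Nat.card_pos.ne'
  have hCpos : Nat.card C ≠ 0 := Nat.card_pos.ne'
  have hdvd : Nat.card N ∣ Nat.card C := by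
    rw [← Nat.factorization_prime_le_iff_dvd hNpos hCpos]
    intro r hr
    have : Fact r.Prime := ⟨hr⟩
    obtain ⟨P, hP⟩ := h r
    have h1 : Nat.card P = r ^ (Nat.card N).factorization r := Sylow.card_eq_multiplicity P
    have h2 : Nat.card ((P : Subgroup N).map N.subtype) = Nat.card P :=
      Subgroup.card_map_of_injective N.subtype_injective
    have h3 : Nat.card ((P : Subgroup N).map N.subtype) ∣ Nat.card C := Subgroup.card_dvd_of_le hP
    rw [h2, h1] at h3
    exact (hr.pow_dvd_iff_le_factorization hCpos).1 h3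
  exact Subgroup.eq_of_le_of_card_ge hC (Nat.le_of_dvd Nat.card_pos hdvd)

end Cfsg.Agent.Helper23.ONS
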