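import Mathlib

/-!
# ONS (NUM1), (NUM2): arithmetic of `122760 = 8 * 9 * 5 * 11 * 31` (helper37 server, S1699)
-/

set_option autoImplicit false

namespace Cfsg.Agent.Helper23.ONS

theorem prime_pow_dvd (r k : ℕ) (hr : r.Prime) (h : r ^ k ∣ 122760) :
    r ^ k ∣ 8 ∨ r ^ k ∣ 9 ∨ r ^ k ∣ 5 ∨ r ^ k ∣ 11 ∨ r ^ k ∣ 31 := by
  rcases Nat.eq_zero_or_pos k with hk | hk
  · left
    rw [hk, pow_zero]
    exact one_dvd _
  · have hpp : IsPrimePow (r ^ k) := hr.isPrimePow.pow hk.ne'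
    have e1 : (122760 : ℕ) = 8 * (9 * (5 * (11 * 31))) := by norm_num
    rw [e1] at h
    rcases (Nat.Coprime.isPrimePow_dvd_mul (by norm_num) hpp).1 h with h1 | h1
    · exact Or.inl h1
    rcases (Nat.Coprime.isPrimePow_dvd_mul (by norm_num) hpp).1 h1 with h2 | h2
    · exact Or.inr (Or.inl h2)
    rcases (Nat.Coprime.isPrimePow_dvd_mul (by norm_num) hpp).1 h2 with h3 | h3
    · exact Or.inr (Or.inr (Or.inl h3))
    rcases (Nat.Coprime.isPrimePow_dvd_mul (by norm_num) hpp).1 h3 with h4 | h4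
    · exact Or.inr (Or.inr (Or.inr (Or.inl h4)))
    · exact Or.inr (Or.inr (Or.inr (Or.inr h4)))

theorem h23_num19_bdd : ∀ m c : Fin 32,
    (m.val ∣ 8 ∨ m.val ∣ 9 ∨ m.val ∣ 5 ∨ m.val ∣ 11 ∨ m.val ∣ 31) → c.val ∣ m.val → 0 < c.val →
      m.val % 19 = c.val % 19 → c.val = m.val := by
  decide

theorem num19 (m c : ℕ) (hm : m ∣ 8 ∨ m ∣ 9 ∨ m ∣ 5 ∨ m ∣ 11 ∨ m ∣ 31) (hc : c ∣ m) (hc0 : 0 < c)
    (h : m % 19 = c % 19) : c = m := by
  have hm31 : m ≤ 31 := by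
    rcases hm with h1 | h1 | h1 | h1 | h1
    · exact (Nat.le_of_dvd (by norm_num) h1).trans (by norm_num)
    · exact (Nat.le_of_dvd (by norm_num) h1).trans (by norm_num)
    · exact (Nat.le_of_dvd (by norm_num) h1).trans (by norm_num)
    · exact (Nat.le_of_dvd (by norm_num) h1).trans (by norm_num)
    · exact Nat.le_of_dvd (by norm_num) h1
  have hm0 : 0 < m := by
    rcases hm with h1 | h1 | h1 | h1 | h1 <;> exact Nat.pos_of_dvd_of_pos h1 (by norm_num)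
  have hcm : c ≤ m := Nat.le_of_dvd hm0 hc
  exact h23_num19_bdd ⟨m, by omega⟩ ⟨c, by omega⟩ hm hc hc0 h

end Cfsg.Agent.Helper23.ONS
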