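import Mathlib
import Cfsg.Prelude.Def_FusionSystem
import Cfsg.Agent.Lib.Helper87.Om7Defs
import Cfsg.Agent.Lib.Helper77.Om7API1
import Cfsg.Agent.Lib.Helper8.Om7API2a
import Cfsg.Agent.Lib.Helper46.Om7API2b

/-!
# OM7 (EVEN) `perm_mem_P8`, core (helper87's lemma server for S2647)

`perm_mem_P8_core` is (EVEN) with the two facts (PERM) `P16_cases` and (DIAG) `diag_mem_closure` as hypotheses.

The permutation of a monomial element of `Ω` is even (lies in `P8`): otherwise `x r_{f4-f5} r_{f6}` is monomial over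
`P8` of determinant `1`, hence in `Ω`, so `r_{f4-f5} r_{f6} ∈ Ω`, contradicting `R_not_mem_Omega`.
-/

set_option autoImplicit false

namespace Cfsg.Agent.Helper23.Om7

open Matrix QuadraticMap Cfsg.Agent.Helper36.QuadInv Cfsg.Agent.Helper36.OmegaTrans
  Cfsg.Agent.Helper43 Cfsg.Agent.Helper87.Om7
open Cfsg.Agent.Helper77.Om7 Cfsg.Agent.Helper8.Om7 Cfsg.Agent.Helper46.Om7

variable {F : Type*} [Field F] [Fintype F] [DecidableEq F] {ι : Type} [Fintype ι] [DecidableEq ι]
variable {Q : QuadraticForm F (ι → F)} {c : F} {f : Fin 7 → ι → F}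

/-- the reflection in `f m` on the frame -/
theorem even_refl_frame (hF : Frame Q c f) (m k : Fin 7) :
    actHom (⇑Q) (reflIso' Q (f m)) (f k) = if k = m then - f k else f k := by
  have h2c : (2 : F) * c ≠ 0 := mul_ne_zero hF.two hF.c0
  rw [act_reflIso' (frame_Q_ne hF m)]
  by_cases hkm : k = m
  · rw [if_pos hkm, hkm, frame_polar_self hF m, hF.norm m]
    have h1 : c⁻¹ * (2 * c) = 2 := by field_simp [hF.c0]
    rw [h1, two_smul]
    abel
  · rw [if_neg hkm, hF.orth m k (Ne.symm hkm), mul_zero, zero_smul, sub_zero]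

/-- the reflection in `f a - f b` on the frame -/
theorem even_refl_sub_frame (hF : Frame Q c f) {a b : Fin 7} (hab : a ≠ b) (k : Fin 7) :
    actHom (⇑Q) (reflIso' Q (f a - f b)) (f k) = f (Equiv.swap a b k) := by
  have h2c : (2 : F) * c ≠ 0 := mul_ne_zero hF.two hF.c0
  rw [act_reflIso' (frame_Q_sub_ne hF hab), frame_Q_sub hF hab, polar_sub_left]
  by_cases hka : k = a
  · rw [hka, frame_polar_self hF a, hF.orth b a hab.symm, sub_zero, inv_mul_cancel₀ h2c, one_smul,
      Equiv.swap_apply_left]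
    abel
  · by_cases hkb : k = b
    · rw [hkb, hF.orth a b hab, frame_polar_self hF b, zero_sub, mul_neg, inv_mul_cancel₀ h2c,
        neg_smul, one_smul, Equiv.swap_apply_right]
      abel
    · rw [hF.orth a k (Ne.symm hka), hF.orth b k (Ne.symm hkb), sub_zero, mul_zero, zero_smul,
        sub_zero, Equiv.swap_apply_of_ne_of_ne hka hkb]

theorem even_R_isMono (hF : Frame Q c f) :
    IsMono Q f (reflIso' Q (f 4 - f 5) * reflIso' Q (f 6)) (Equiv.swap 4 5) := by
  intro i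
  rw [act_mul, even_refl_frame hF 6 i]
  by_cases hi : i = 6
  · right
    rw [if_pos hi, map_neg, even_refl_sub_frame hF (by decide) i]
  · left
    rw [if_neg hi, even_refl_sub_frame hF (by decide) i]

theorem even_R_det (hF : Frame Q c f) :
    (((reflIso' Q (f 4 - f 5) * reflIso' Q (f 6) : OG F ⇑Q) : GL ι F) : Matrix ι ι F).det = 1 := by
  have h1 : Q (f 4 - f 5) ≠ 0 := frame_Q_sub_ne hF (by decide)
  have h2 : Q (f 6) ≠ 0 := frame_Q_ne hF 6
  rw [Subgroup.coe_mul, Units.val_mul, Matrix.det_mul, reflIso'_coe Q h1, reflIso'_coe Q h2,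
    reflectionMatrix_det Q h1, reflectionMatrix_det Q h2]
  norm_num

/-- every permutation in `P8` is the permutation of a monomial element of `Ω` -/
theorem even_word (hF : Frame Q c f) {π : Equiv.Perm (Fin 7)} (hπ : π ∈ P8) :
    ∃ w : OG F ⇑Q, w ∈ Cfsg.Omega F ⇑Q ∧ IsMono Q f w π := by
  unfold P8 at hπ
  induction hπ using Subgroup.closure_induction with
  | mem π hπ =>
    rcases hπ with rfl | hπ
    · exact ⟨W Q f 0 1 2 3, W_mem_Omega hF (by decide) (by decide),
        W_isMono hF (by decide) (by decide) (by decide) (by decide) (by decide) (by decide)⟩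
    · rw [Set.mem_singleton_iff] at hπ
      rw [hπ]
      exact ⟨W Q f 0 2 4 5, W_mem_Omega hF (by decide) (by decide),
        W_isMono hF (by decide) (by decide) (by decide) (by decide) (by decide) (by decide)⟩
  | one => exact ⟨1, one_mem _, isMono_one f⟩
  | mul a b _ _ ha hb =>
    obtain ⟨w1, h1, m1⟩ := ha
    obtain ⟨w2, h2, m2⟩ := hb
    exact ⟨w1 * w2, mul_mem h1 h2, isMono_mul m1 m2⟩
  | inv a _ ha =>
    obtain ⟨w, h, m⟩ := ha
    exact ⟨w⁻¹, inv_mem h, isMono_inv m⟩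

/-- a monomial element over `P8` of determinant `1` lies in `Ω` -/
theorem even_mem_Omega (hF : Frame Q c f)
    (hDIAG : ∀ x : OG F ⇑Q, ((x : GL ι F) : Matrix ι ι F).det = 1 → IsMono Q f x 1 →
      x ∈ Subgroup.closure {y : OG F ⇑Q | ∃ i j : Fin 7, i ≠ j ∧ y = D Q f i j})
    (y : OG F ⇑Q) (π : Equiv.Perm (Fin 7)) (hπ : π ∈ P8)
    (hm : IsMono Q f y π) (hdet : ((y : GL ι F) : Matrix ι ι F).det = 1) :
    y ∈ Cfsg.Omega F ⇑Q := by
  obtain ⟨w, hw, hwm⟩ := even_word (Q := Q) hF hπ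
  have hdiag : IsMono Q f (y * w⁻¹) 1 := by
    have h := isMono_mul hm (isMono_inv hwm)
    rwa [mul_inv_cancel] at h
  have hdet' : (((y * w⁻¹ : OG F ⇑Q) : GL ι F) : Matrix ι ι F).det = 1 := by
    have hwinv := det_eq_one_of_mem_Omega (inv_mem hw)
    rw [Subgroup.coe_mul, Units.val_mul, Matrix.det_mul, hdet, hwinv, one_mul]
  have hcl := hDIAG (y * w⁻¹) hdet' hdiag
  have hle : Subgroup.closure {y : OG F ⇑Q | ∃ i j : Fin 7, i ≠ j ∧ y = D Q f i j} ≤
      Cfsg.Omega F ⇑Q := by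
    rw [Subgroup.closure_le]
    rintro _ ⟨i, j, hij, rfl⟩
    exact D_mem_Omega hF hij
  have h : y = (y * w⁻¹) * w := by group
  rw [h]
  exact mul_mem (hle hcl) hw

/-- (EVEN) the permutation of a monomial element of `Ω` is even; `hP16` is (PERM) `P16_cases`, `hDIAG` is (DIAG)
`diag_mem_closure hF` -/
theorem perm_mem_P8_core (hF : Frame Q c f) (h2 : ¬ IsSquare (2 : F))
    (hP16 : ∀ σ : Equiv.Perm (Fin 7), σ ∈ P16 → σ ∈ P8 ∨ σ * Equiv.swap 4 5 ∈ P8)
    (hDIAG : ∀ x : OG F ⇑Q, ((x : GL ι F) : Matrix ι ι F).det = 1 → IsMono Q f x 1 →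
      x ∈ Subgroup.closure {y : OG F ⇑Q | ∃ i j : Fin 7, i ≠ j ∧ y = D Q f i j})
    (x : OG F ⇑Q)
    (hx : x ∈ Cfsg.Omega F ⇑Q) (σ : Equiv.Perm (Fin 7)) (hσ : σ ∈ P16) (hm : IsMono Q f x σ) :
    σ ∈ P8 := by
  rcases hP16 σ hσ with h | h
  · exact h
  exfalso
  apply R_not_mem_Omega hF h2
  have hy : x * (reflIso' Q (f 4 - f 5) * reflIso' Q (f 6)) ∈ Cfsg.Omega F ⇑Q := by
    apply even_mem_Omega hF hDIAG _ (σ * Equiv.swap 4 5) h (isMono_mul hm (even_R_isMono hF))
    rw [Subgroup.coe_mul, Units.val_mul, Matrix.det_mul, det_eq_one_of_mem_Omega hx, even_R_det hF,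
      one_mul]
  have h3 : reflIso' Q (f 4 - f 5) * reflIso' Q (f 6) =
      x⁻¹ * (x * (reflIso' Q (f 4 - f 5) * reflIso' Q (f 6))) := by group
  rw [h3]
  exact mul_mem (inv_mem hx) hy

end Cfsg.Agent.Helper23.Om7
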