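import Mathlib
import Cfsg.Prelude.Def_FusionSystem
import Cfsg.Agent.Lib.Helper87.Om7Defs

/-!
# OM7 (FRAME) `exists_frame` (helper87's lemma server for S2647)

An explicit orthogonal frame of seven vectors of norm `-1` for `x₀² + x₁y₁ + x₂y₂ + x₃y₃` over a finite field of odd
characteristic, from a solution of `x² + y² = -1`.
-/

set_option autoImplicit false
set_option linter.style.haveILetI false

namespace Cfsg.Agent.Helper23.Om7

open Matrix QuadraticMap Cfsg.Agent.Helper36.QuadInv Cfsg.Agent.Helper36.OmegaTrans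
  Cfsg.Agent.Helper43 Cfsg.Agent.Helper87.Om7

variable {F : Type*} [Field F] [Fintype F] [DecidableEq F] {ι : Type} [Fintype ι] [DecidableEq ι]
variable {Q : QuadraticForm F (ι → F)} {c : F} {f : Fin 7 → ι → F}

/-- the vector with coordinates `(z; a₀ a₁ a₂; b₀ b₁ b₂)` -/
def frMk (z a0 a1 a2 b0 b1 b2 : F) : Unit ⊕ (Fin 3 ⊕ Fin 3) → F :=
  Sum.elim (fun _ => z) (Sum.elim ![a0, a1, a2] ![b0, b1, b2])

omit [Fintype F] [DecidableEq F] in
theorem frMk_Q (z a0 a1 a2 b0 b1 b2 : F) :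
    stdOdd F 3 (frMk z a0 a1 a2 b0 b1 b2) = z ^ 2 + a0 * b0 + a1 * b1 + a2 * b2 := by
  rw [stdOdd_apply]
  simp [Cfsg.quadFormOdd, frMk, Fin.sum_univ_three]
  ring

omit [Fintype F] [DecidableEq F] in
theorem frMk_polar (z a0 a1 a2 b0 b1 b2 z' a0' a1' a2' b0' b1' b2' : F) :
    polar (stdOdd F 3) (frMk z a0 a1 a2 b0 b1 b2) (frMk z' a0' a1' a2' b0' b1' b2') =
      2 * z * z' + (a0 * b0' + a0' * b0) + (a1 * b1' + a1' * b1) + (a2 * b2' + a2' * b2) := by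
  rw [polar_stdOdd]
  simp [frMk, Fin.sum_univ_three]
  ring

/-- the explicit frame -/
def frVec (x y : F) : Fin 7 → (Unit ⊕ (Fin 3 ⊕ Fin 3) → F) :=
  ![frMk 0 1 0 0 (-1) 0 0, frMk 0 0 1 0 0 (-1) 0, frMk 0 0 0 1 0 0 (-1),
    frMk x y 0 0 y 0 0, frMk (-y) x 0 0 x 0 0, frMk 0 0 x y 0 x y, frMk 0 0 (-y) x 0 (-y) x]

theorem exists_frame (h2 : (2 : F) ≠ 0) :
    ∃ f : Fin 7 → (Unit ⊕ (Fin 3 ⊕ Fin 3) → F), Frame (stdOdd F 3) (-1) f := by
  obtain ⟨p, hp⟩ := CharP.exists F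
  haveI := hp
  haveI : NeZero p := ⟨CharP.char_ne_zero_of_finite F p⟩
  obtain ⟨a, b, hab⟩ := CharP.sq_add_sq F p (-1)
  have hxy : (a : F) ^ 2 + (b : F) ^ 2 = -1 := by
    rw [hab]; simp
  refine ⟨frVec (a : F) (b : F), ?_, h2, neg_ne_zero.mpr one_ne_zero, stdOdd_nondegenerate F 3 h2, ?_, ?_⟩
  · simp
  · intro i
    fin_cases i <;> simp [frVec, frMk_Q] <;> linear_combination hxy
  · intro i j hij
    fin_cases i <;> fin_cases j <;>
      first
        | exact absurd rfl hij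
        | (simp [frVec, frMk_polar] <;> ring)

end Cfsg.Agent.Helper23.Om7
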