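import Mathlib
import Cfsg.Agent.S0040

/-!
# PF1542 mini server of helper29 (S1542): piece (E2) `exponent_quotient_eq_index`
-/

set_option autoImplicit false

namespace Cfsg.Agent.Helper23.PF1542

open Cfsg

theorem exponent_quotient_eq_index {N : Type*} [Group N] [Finite N] (H U : Subgroup N) [H.Normal]
    (hodd : Odd (Nat.card N)) (hH1 : H ≠ ⊥) (hcompl : Subgroup.IsComplement' H U)
    (hC : ∀ h ∈ H, h ≠ 1 → Subgroup.centralizer ({h} : Set N) ≤ H) :
    Monoid.exponent (N ⧸ H) = H.index := by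
  classical
  have hfpf : ∀ u ∈ U, u ≠ 1 → H ⊓ Subgroup.centralizer {u} = ⊥ := by
    intro u hu hu1
    rw [eq_bot_iff]
    intro x hx
    rw [Subgroup.mem_bot]
    by_contra hx1
    obtain ⟨hxH, hxC⟩ := Subgroup.mem_inf.1 hx
    have hcomm : u * x = x * u := by
      rw [Subgroup.mem_centralizer_iff] at hxC
      exact hxC u rfl
    have huC : u ∈ Subgroup.centralizer ({x} : Set N) := by
      rw [Subgroup.mem_centralizer_iff]
      intro y hy
      rw [Set.mem_singleton_iff] at hy
      rw [hy]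
      exact hcomm.symm
    have huH : u ∈ H := hC x hxH hx1 huC
    have h1 : u ∈ H ⊓ U := ⟨huH, hu⟩
    rw [hcompl.disjoint.eq_bot, Subgroup.mem_bot] at h1
    exact hu1 h1
  have hZ : IsZGroup U := by
    refine ⟨fun p hp P => ?_⟩
    have := Fact.mk hp
    rcases Cfsg.Agent.S0040.result H U hcompl hH1 hfpf p P with h | ⟨n, ⟨e⟩⟩
    · exact h
    · exfalso
      have h1 : Nat.card P = 4 * 2 ^ n := by
        rw [Nat.card_congr e.toEquiv, Nat.card_eq_fintype_card, QuaternionGroup.card]
      have h2 : Nat.card P ∣ Nat.card N :=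
        (Subgroup.card_subgroup_dvd_card (P : Subgroup U)).trans (Subgroup.card_subgroup_dvd_card U)
      have h3 : 2 ∣ Nat.card N := dvd_trans ⟨2 * 2 ^ n, by rw [h1]; ring⟩ h2
      exact (Nat.not_even_iff_odd.2 hodd) (even_iff_two_dvd.2 h3)
  rw [Monoid.exponent_eq_of_mulEquiv hcompl.symm.QuotientMulEquiv, IsZGroup.exponent_eq_card,
    hcompl.symm.index_eq_card]

end Cfsg.Agent.Helper23.PF1542
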