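import Mathlib
import Cfsg.Agent.Lib.Helper87.Psl3Defs

/-!
# PSL3F server of helper87 (S5318): piece (SCns) `strongly_closed_nonsplit`

No proper nontrivial strongly closed subgroup of `S3` when `-1` is a nonsquare.
-/

set_option autoImplicit false

namespace Cfsg.Agent.Helper23.Psl3

open Matrix Cfsg.Agent.Helper87.Psl3

variable {F : Type*} [Field F]

local notation "SL3" => Matrix.SpecialLinearGroup (Fin 3) F
local notation "GL2" => GL (Fin 2) F

theorem scn_tau_mul_tau : (tau : GL2) * tau = 1 := by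
  apply Units.ext
  rw [Units.val_mul, tau_val, Units.val_one]
  ext i j
  fin_cases i <;> fin_cases j <;> simp [Matrix.mul_apply, Fin.sum_univ_two]

theorem scn_tau_inv : (tau : GL2)⁻¹ = tau := inv_eq_of_mul_eq_one_right scn_tau_mul_tau

/-- the matrix of `M * tau` for `M = rot a b`. -/
theorem scn_mul_tau_val (M : GL2) (a b : F) (h : (M : Matrix (Fin 2) (Fin 2) F) = rot a b) :
    ((M * tau : GL2) : Matrix (Fin 2) (Fin 2) F) = !![a, -b; -b, -a] := by
  rw [Units.val_mul, h, tau_val]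
  ext i j
  fin_cases i <;> fin_cases j <;> simp [rot, Matrix.mul_apply, Fin.sum_univ_two]

theorem scn_sq_val (a b : F) :
    (!![a, -b; -b, -a] : Matrix (Fin 2) (Fin 2) F) * !![a, -b; -b, -a] =
      (a * a + b * b) • (1 : Matrix (Fin 2) (Fin 2) F) := by
  ext i j
  fin_cases i <;> fin_cases j <;> simp [Matrix.mul_apply, Fin.sum_univ_two] <;> ring

/-- conjugation by `tau` on the torus. -/
theorem scn_tau_conj_val (X : GL2) (a b : F) (h : (X : Matrix (Fin 2) (Fin 2) F) = rot a b) :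
    ((tau * X * tau⁻¹ : GL2) : Matrix (Fin 2) (Fin 2) F) = rot a (-b) := by
  rw [scn_tau_inv, Units.val_mul, Units.val_mul, h, tau_val]
  ext i j
  fin_cases i <;> fin_cases j <;> simp [rot, Matrix.mul_apply, Fin.sum_univ_two]

theorem scn_tau_conj_mem_P2 {X : GL2} (h : X ∈ P2) : tau * X * tau⁻¹ ∈ P2 := by
  obtain ⟨hE, m, hm⟩ := h
  obtain ⟨a, b, hab⟩ := (mem_Eu_iff X).1 hE
  refine ⟨(mem_Eu_iff _).2 ⟨a, -b, scn_tau_conj_val X a b hab⟩, m, ?_⟩
  rw [conj_pow, hm, mul_one, mul_inv_cancel]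

theorem scn_tau_mem_normalizer : (tau : GL2) ∈ Subgroup.normalizer ((P2 : Subgroup GL2) : Set GL2) := by
  rw [Subgroup.mem_normalizer_iff]
  intro X
  constructor
  · exact scn_tau_conj_mem_P2
  · intro h
    have h1 := scn_tau_conj_mem_P2 h
    have h2 : tau * (tau * X * tau⁻¹) * tau⁻¹ = X := by
      rw [scn_tau_inv]
      calc tau * (tau * X * tau) * tau = (tau * tau) * X * (tau * tau) := by group
        _ = X := by rw [scn_tau_mul_tau, one_mul, mul_one]
    rwa [h2] at h1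

theorem scn_isPGroup_P2 : IsPGroup 2 (P2 : Subgroup GL2) := by
  rintro ⟨X, hE, m, hm⟩
  exact ⟨m, Subtype.ext hm⟩

theorem scn_isPGroup_tau : IsPGroup 2 (Subgroup.zpowers (tau : GL2)) := by
  rintro ⟨X, hX⟩
  refine ⟨1, Subtype.ext ?_⟩
  obtain ⟨k, rfl⟩ := Subgroup.mem_zpowers_iff.1 hX
  show (tau ^ k) ^ 2 ^ 1 = 1
  rw [pow_one, ← zpow_natCast, ← _root_.zpow_mul, mul_comm, _root_.zpow_mul, zpow_natCast, pow_two,
    scn_tau_mul_tau, _root_.one_zpow]

theorem scn_isPGroup_S2 : IsPGroup 2 (S2 : Subgroup GL2) := by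
  unfold S2
  refine IsPGroup.to_sup_of_normal_left' scn_isPGroup_P2 scn_isPGroup_tau ?_
  rw [Subgroup.zpowers_le]
  exact scn_tau_mem_normalizer

theorem scn_isPGroup_S3 : IsPGroup 2 (S3 : Subgroup SL3) := by
  unfold S3
  exact scn_isPGroup_S2.map iota

/-- `2`-elements of `F` when `-1` is a nonsquare. -/
theorem scn_two_elt (hns : ∀ x : F, x * x ≠ -1) (m : ℕ) (x : F) (h : x ^ (2 ^ m) = 1) :
    x = 1 ∨ x = -1 := by
  induction m generalizing x with
  | zero => left; simpa using h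
  | succ m ih =>
    have h1 : (x * x) ^ (2 ^ m) = 1 := by
      rw [← pow_two, ← pow_mul, ← pow_succ']
      exact h
    rcases ih (x * x) h1 with h2 | h2
    · have h3 : (x - 1) * (x + 1) = 0 := by linear_combination h2
      rcases mul_eq_zero.1 h3 with h4 | h4
      · left; exact sub_eq_zero.1 h4
      · right; exact eq_neg_of_add_eq_zero_left h4
    · exact absurd h2 (hns x)

/-- the norm of an element of `P2` is `±1`. -/
theorem scn_norm (hns : ∀ x : F, x * x ≠ -1) {M : GL2} (hM : M ∈ P2) (a b : F)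
    (hab : (M : Matrix (Fin 2) (Fin 2) F) = rot a b) : a * a + b * b = 1 ∨ a * a + b * b = -1 := by
  obtain ⟨-, m, hm⟩ := hM
  have h1 : (rot a b) ^ (2 ^ m) = 1 := by
    rw [← hab, ← Units.val_pow_eq_pow_val, hm, Units.val_one]
  have h2 := congrArg Matrix.det h1
  rw [Matrix.det_pow, Matrix.det_one] at h2
  have h3 : (rot a b).det = a * a + b * b := by
    rw [rot, Matrix.det_fin_two_of]
    ring
  rw [h3] at h2
  exact scn_two_elt hns m _ h2

theorem scn_iota_ne_one {X : GL2} (h : (X : Matrix (Fin 2) (Fin 2) F) 1 1 ≠ 1) :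
    (iota X : SL3) ≠ 1 := by
  intro h1
  apply h
  have h2 := congrArg (fun g : SL3 => (g : Matrix (Fin 3) (Fin 3) F) 1 1) h1
  simpa [iotaMat] using h2

theorem scn_M0_mem_P2 : (M0 : GL2) ∈ P2 := by
  refine ⟨(mem_Eu_iff _).2 ⟨0, 1, M0_val⟩, 2, ?_⟩
  apply Units.ext
  rw [Units.val_pow_eq_pow_val, M0_val, Units.val_one]
  have h1 : (rot (0 : F) 1) ^ 2 = rot (-1) 0 := by
    rw [pow_two, rot_mul]; congr 1 <;> ring
  have h2 : (rot (-1 : F) 0) ^ 2 = 1 := by
    rw [pow_two, rot_mul, ← rot_one]; congr 1 <;> ring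
  rw [show (2 : ℕ) ^ 2 = 2 * 2 from rfl, pow_mul, h1, h2]

theorem strongly_closed_nonsplit [Finite F] (h2 : (2 : F) ≠ 0) (hns : ∀ x : F, x * x ≠ -1)
    (hINV : ∀ g : SL3, g * g = 1 → g ≠ 1 → ∃ c : SL3, c * g * c⁻¹ = zz)
    (hC4 : ∀ X : GL2, X * X = sc (-1) → (∀ c : Fˣ, X ≠ sc c) → ∃ C : GL2, C * X * C⁻¹ = M0)
    (T : Subgroup SL3) (hT : T ≤ S3) (hT1 : T ≠ ⊥)
    (hcl : ∀ t ∈ T, ∀ g : SL3, g * t * g⁻¹ ∈ (S3 : Subgroup SL3) → g * t * g⁻¹ ∈ T) : T = S3 := by
  classical
  have hneg : (-1 : F) ≠ 1 := by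
    intro h
    apply h2
    have : (2 : F) = 1 - (-1) := by ring
    rw [this, h, sub_self]
  -- an involution in `T`
  obtain ⟨t0, ht0T, ht0sq, ht0ne⟩ : ∃ t0 ∈ T, t0 * t0 = 1 ∧ t0 ≠ 1 := by
    obtain ⟨⟨t, htT⟩, ht1⟩ := (Subgroup.ne_bot_iff_exists_ne_one).1 hT1
    have ht1' : t ≠ 1 := fun h => ht1 (Subtype.ext h)
    obtain ⟨k, hk⟩ := scn_isPGroup_S3 ⟨t, hT htT⟩
    have hk' : t ^ (2 ^ k) = 1 := congrArg Subtype.val hk
    have hex : ∃ k, t ^ (2 ^ k) = 1 := ⟨k, hk'⟩
    obtain ⟨k0, hk0spec, hk0min⟩ : ∃ k0, t ^ (2 ^ k0) = 1 ∧ ∀ j < k0, t ^ (2 ^ j) ≠ 1 :=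
      ⟨Nat.find hex, Nat.find_spec hex, fun j hj => Nat.find_min hex hj⟩
    have hk0pos : k0 ≠ 0 := by
      intro h
      rw [h, pow_zero, pow_one] at hk0spec
      exact ht1' hk0spec
    obtain ⟨j, hj⟩ := Nat.exists_eq_succ_of_ne_zero hk0pos
    refine ⟨t ^ (2 ^ j), T.pow_mem htT _, ?_, hk0min j (by omega)⟩
    rw [← pow_two, ← pow_mul, ← pow_succ, ← Nat.succ_eq_add_one, ← hj]
    exact hk0spec
  -- all involutions of `S3` lie in `T`
  have hinv : ∀ s : SL3, s * s = 1 → s ≠ 1 → s ∈ (S3 : Subgroup SL3) → s ∈ T := by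
    intro s hs hs1 hsS
    obtain ⟨c1, hc1⟩ := hINV t0 ht0sq ht0ne
    obtain ⟨c2, hc2⟩ := hINV s hs hs1
    have h1 : (c2⁻¹ * c1) * t0 * (c2⁻¹ * c1)⁻¹ = s := by
      have : c2⁻¹ * zz * c2 = s := by rw [← hc2]; group
      rw [← this, ← hc1]; group
    have h3 := hcl t0 ht0T (c2⁻¹ * c1) (by rw [h1]; exact hsS)
    rwa [h1] at h3
  have htauS2 : (tau : GL2) ∈ S2 := (le_sup_right : Subgroup.zpowers tau ≤ S2) (Subgroup.mem_zpowers tau)
  have hP2S2 : (P2 : Subgroup GL2) ≤ S2 := le_sup_left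
  -- `iota tau ∈ T`
  have htauT : (iota tau : SL3) ∈ T := by
    apply hinv
    · rw [← map_mul, scn_tau_mul_tau, map_one]
    · apply scn_iota_ne_one
      rw [tau_val]
      simp only [Matrix.of_apply, Matrix.cons_val', Matrix.cons_val_one,
        Matrix.empty_val', Matrix.cons_val_fin_one]
      exact hneg
    · exact Subgroup.mem_map_of_mem _ htauS2
  -- norm one
  have hnorm1 : ∀ M : GL2, M ∈ P2 → ∀ a b : F, (M : Matrix (Fin 2) (Fin 2) F) = rot a b →
      a * a + b * b = 1 → (iota M : SL3) ∈ T := by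
    intro M hM a b hab h1
    have hv := scn_mul_tau_val M a b hab
    have hsq : (M * tau) * (M * tau) = 1 := by
      apply Units.ext
      rw [Units.val_mul, hv, scn_sq_val, h1, one_smul, Units.val_one]
    have hmem : (iota (M * tau) : SL3) ∈ T := by
      apply hinv
      · rw [← map_mul, hsq, map_one]
      · intro h
        have ha : a = 1 := by
          have h3 := congrArg (fun g : SL3 => (g : Matrix (Fin 3) (Fin 3) F) 0 0) h
          have e : ((iota (M * tau) : SL3) : Matrix (Fin 3) (Fin 3) F) 0 0 =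
              ((M * tau : GL2) : Matrix (Fin 2) (Fin 2) F) 0 0 := rfl
          simp only [e, hv] at h3
          simpa using h3
        have ha' : -a = 1 := by
          have h3 := congrArg (fun g : SL3 => (g : Matrix (Fin 3) (Fin 3) F) 1 1) h
          have e : ((iota (M * tau) : SL3) : Matrix (Fin 3) (Fin 3) F) 1 1 =
              ((M * tau : GL2) : Matrix (Fin 2) (Fin 2) F) 1 1 := rfl
          simp only [e, hv] at h3
          simpa using h3
        rw [ha] at ha'
        exact hneg ha'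
      · exact Subgroup.mem_map_of_mem _ (S2.mul_mem (hP2S2 hM) htauS2)
    have : (iota M : SL3) = iota (M * tau) * iota tau := by
      rw [← map_mul, mul_assoc, scn_tau_mul_tau, mul_one]
    rw [this]
    exact T.mul_mem hmem htauT
  have hM0T : (iota M0 : SL3) ∈ T :=
    hnorm1 M0 scn_M0_mem_P2 0 1 M0_val (by ring)
  -- norm minus one
  have hnormm1 : ∀ M : GL2, M ∈ P2 → ∀ a b : F, (M : Matrix (Fin 2) (Fin 2) F) = rot a b →
      a * a + b * b = -1 → (iota M : SL3) ∈ T := by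
    intro M hM a b hab h1
    have hv := scn_mul_tau_val M a b hab
    have hsq : (M * tau) * (M * tau) = sc (-1) := by
      apply Units.ext
      rw [Units.val_mul, hv, scn_sq_val, h1]
      ext i j
      fin_cases i <;> fin_cases j <;> simp [sc, Matrix.GeneralLinearGroup.coe_scalar]
    have hnsc : ∀ c : Fˣ, M * tau ≠ sc c := by
      intro c h
      have h3 := congrArg (fun g : GL2 => (g : Matrix (Fin 2) (Fin 2) F)) h
      simp only [hv] at h3
      have e00 := congrFun (congrFun h3 0) 0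
      have e11 := congrFun (congrFun h3 1) 1
      simp [sc, Matrix.GeneralLinearGroup.coe_scalar] at e00 e11
      have h4 : (2 : F) * (c : F) = 0 := by linear_combination (-1 : F) * e00 - e11
      rcases mul_eq_zero.1 h4 with h5 | h5
      · exact h2 h5
      · exact c.ne_zero h5
    obtain ⟨C, hC⟩ := hC4 (M * tau) hsq hnsc
    have hmem : (iota (M * tau) : SL3) ∈ T := by
      have h3 : (iota C)⁻¹ * iota M0 * ((iota C)⁻¹)⁻¹ = (iota (M * tau) : SL3) := by
        rw [← hC]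
        simp only [map_mul, map_inv]
        group
      have h4 := hcl (iota M0) hM0T (iota C)⁻¹
        (by rw [h3]; exact Subgroup.mem_map_of_mem _ (S2.mul_mem (hP2S2 hM) htauS2))
      rwa [h3] at h4
    have : (iota M : SL3) = iota (M * tau) * iota tau := by
      rw [← map_mul, mul_assoc, scn_tau_mul_tau, mul_one]
    rw [this]
    exact T.mul_mem hmem htauT
  -- conclusion
  apply le_antisymm hT
  unfold S3 S2
  rw [Subgroup.map_le_iff_le_comap, sup_le_iff]
  constructor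
  · intro M hM
    obtain ⟨a, b, hab⟩ := (mem_Eu_iff M).1 hM.1
    rcases scn_norm hns hM a b hab with h | h
    · exact hnorm1 M hM a b hab h
    · exact hnormm1 M hM a b hab h
  · rw [Subgroup.zpowers_le]
    exact htauT

end Cfsg.Agent.Helper23.Psl3
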