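import Mathlib

set_option autoImplicit false

namespace Cfsg.Agent.Helper23

section ring
variable {𝔸 : Type*} [Ring 𝔸]

theorem pow_eq_of_sq_zero (c : 𝔸) (hc : c * c = 0) (i : ℕ) :
    (1 + c) ^ i = 1 + (i : 𝔸) * c := by
  induction i with
  | zero => simp
  | succ n ih =>
    rw [pow_succ, ih, Nat.cast_succ]
    have h1 : (1 + (n : 𝔸) * c) * (1 + c) = 1 + c + (n : 𝔸) * c + (n : 𝔸) * (c * c) := by
      simp only [add_mul, mul_add, one_mul, mul_one, mul_assoc]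
      abel
    rw [h1, hc, mul_zero, add_zero, add_mul, one_mul]
    abel

theorem sum_pow_eq_zero_of_sq_zero {p : ℕ} [hp : Fact p.Prime] (hp2 : p ≠ 2)
    (hchar : (p : 𝔸) = 0) (x : 𝔸) (hx : (x - 1) * (x - 1) = 0) :
    ∑ i ∈ Finset.range p, x ^ i = 0 := by
  set c := x - 1 with hc
  have hx1 : x = 1 + c := by rw [hc]; abel
  rw [hx1]
  simp_rw [pow_eq_of_sq_zero c hx]
  rw [Finset.sum_add_distrib, Finset.sum_const, Finset.card_range, ← Finset.sum_mul,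
    ← Nat.cast_sum]
  obtain ⟨m, hm⟩ := hp.out.eq_two_or_odd'.resolve_left hp2
  have hsum : ∑ i ∈ Finset.range p, i = p * m := by
    have h1 := Finset.sum_range_id_mul_two p
    have h2 : p * (p - 1) = (p * m) * 2 := by
      rw [hm, Nat.add_sub_cancel]; ring
    rw [h2] at h1
    exact Nat.eq_of_mul_eq_mul_right (by norm_num) h1
  rw [hsum, Nat.cast_mul, hchar, zero_mul, zero_mul, add_zero, nsmul_eq_mul, hchar, zero_mul]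

theorem eq_of_pow_eq_of_coprime {M : Type*} [Group M] {p i : ℕ} (hp1 : 1 < p)
    (hi : Nat.Coprime i p) {x y : M} (hx : x ^ p = 1) (hy : y ^ p = 1) (h : x ^ i = y ^ i) :
    x = y := by
  obtain ⟨m, -, hm⟩ := Nat.exists_mul_mod_eq_one_of_coprime hi hp1
  have key : ∀ z : M, z ^ p = 1 → z = (z ^ i) ^ m := by
    intro z hz
    have e : i * m = p * (i * m / p) + 1 := by
      have := Nat.div_add_mod (i * m) p
      rw [hm] at this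
      exact this.symm
    rw [← pow_mul, e, pow_add, pow_mul, hz, one_pow, one_mul, pow_one]
  rw [key x hx, key y hy, h]

/-- Key lemma: in a ring with `p = 0` (`p` odd), a unit `a` with `(a-1)^2 = 0` commutes with
every finite commutative subgroup `R` of units of order prime to `p` that it normalizes. -/
theorem quadratic_commute {p : ℕ} [hp : Fact p.Prime] (hp2 : p ≠ 2)
    (hchar : (p : 𝔸) = 0) (a : 𝔸ˣ) (ha : ((a : 𝔸) - 1) * ((a : 𝔸) - 1) = 0)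
    (R : Subgroup 𝔸ˣ) [Finite R] (hRc : ∀ r ∈ R, ∀ s ∈ R, r * s = s * r)
    (hcop : (Nat.card R).Coprime p)
    (hnorm : ∀ r ∈ R, a⁻¹ * r * a ∈ R) :
    ∀ r ∈ R, a * r = r * a := by
  classical
  have hN : ∑ i ∈ Finset.range p, ((a : 𝔸)) ^ i = 0 :=
    sum_pow_eq_zero_of_sq_zero hp2 hchar _ ha
  have hap : a ^ p = 1 := by
    apply Units.ext
    rw [Units.val_pow_eq_pow_val, Units.val_one]
    have h1 : (a : 𝔸) = 1 + ((a : 𝔸) - 1) := by abel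
    rw [h1, pow_eq_of_sq_zero _ ha, hchar, zero_mul, add_zero]
  let τ : ↥R → 𝔸ˣ := fun s => a⁻¹ * (s : 𝔸ˣ)⁻¹ * a * (s : 𝔸ˣ)
  have hτR : ∀ s : ↥R, τ s ∈ R := fun s => R.mul_mem (hnorm _ (R.inv_mem s.2)) s.2
  have hτmul : ∀ s s' : ↥R, τ (s * s') = τ s * τ s' := by
    intro s s'
    have hu' : a⁻¹ * (s' : 𝔸ˣ)⁻¹ * a ∈ R := hnorm _ (R.inv_mem s'.2)
    have c1 : (s : 𝔸ˣ) * (a⁻¹ * (s' : 𝔸ˣ)⁻¹ * a) = (a⁻¹ * (s' : 𝔸ˣ)⁻¹ * a) * (s : 𝔸ˣ) :=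
      hRc _ s.2 _ hu'
    have c2 : (s : 𝔸ˣ) * (s' : 𝔸ˣ) = (s' : 𝔸ˣ) * (s : 𝔸ˣ) := hRc _ s.2 _ s'.2
    show a⁻¹ * ((s * s' : ↥R) : 𝔸ˣ)⁻¹ * a * ((s * s' : ↥R) : 𝔸ˣ) =
      (a⁻¹ * (s : 𝔸ˣ)⁻¹ * a * s) * (a⁻¹ * (s' : 𝔸ˣ)⁻¹ * a * s')
    rw [Subgroup.coe_mul]
    calc a⁻¹ * ((s : 𝔸ˣ) * s')⁻¹ * a * ((s : 𝔸ˣ) * s')
        = a⁻¹ * ((s' : 𝔸ˣ) * s)⁻¹ * a * ((s : 𝔸ˣ) * s') := by rw [c2]
      _ = (a⁻¹ * (s : 𝔸ˣ)⁻¹ * a) * ((a⁻¹ * (s' : 𝔸ˣ)⁻¹ * a) * (s : 𝔸ˣ)) * s' := by group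
      _ = (a⁻¹ * (s : 𝔸ˣ)⁻¹ * a) * ((s : 𝔸ˣ) * (a⁻¹ * (s' : 𝔸ˣ)⁻¹ * a)) * s' := by rw [c1]
      _ = _ := by group
  let τh : ↥R →* 𝔸ˣ := MonoidHom.mk' τ hτmul
  set R₁ : Subgroup 𝔸ˣ := τh.range with hR₁
  have hR₁R : R₁ ≤ R := by
    rintro _ ⟨s, rfl⟩
    exact hτR s
  have : Finite ↥R₁ :=
    Finite.of_injective (Subgroup.inclusion hR₁R) (Subgroup.inclusion_injective hR₁R)
  have : Fintype ↥R₁ := Fintype.ofFinite _
  have hconj : ∀ t ∈ R₁, ∃ s : 𝔸ˣ, a * t = s⁻¹ * a * s := by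
    rintro _ ⟨s, rfl⟩
    refine ⟨s, ?_⟩
    show a * (a⁻¹ * (s : 𝔸ˣ)⁻¹ * a * s) = _
    group
  have hcp : ∀ (s : 𝔸ˣ) (i : ℕ), (s⁻¹ * a * s) ^ i = s⁻¹ * a ^ i * s := by
    intro s i
    have := conj_pow (a := s⁻¹) (b := a) (i := i)
    rwa [inv_inv] at this
  have hinner : ∀ t ∈ R₁, ∑ i ∈ Finset.range p, (((a * t) ^ i : 𝔸ˣ) : 𝔸) = 0 := by
    intro t ht
    obtain ⟨s, hs⟩ := hconj t ht
    have h1 : ∀ i : ℕ, (((a * t) ^ i : 𝔸ˣ) : 𝔸) =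
        ((s⁻¹ : 𝔸ˣ) : 𝔸) * (a : 𝔸) ^ i * (s : 𝔸) := by
      intro i
      rw [hs, hcp, Units.val_mul, Units.val_mul, Units.val_pow_eq_pow_val]
    simp_rw [h1]
    rw [← Finset.sum_mul, ← Finset.mul_sum, hN, mul_zero, zero_mul]
  have hpow_p : ∀ t ∈ R₁, (a * t) ^ p = 1 := by
    intro t ht
    obtain ⟨s, hs⟩ := hconj t ht
    rw [hs, hcp, hap, mul_one, inv_mul_cancel]
  have hκ : ∀ r ∈ R₁, a⁻¹ * r * a ∈ R₁ := by
    rintro _ ⟨s, rfl⟩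
    refine ⟨⟨a⁻¹ * s * a, hnorm _ s.2⟩, ?_⟩
    show a⁻¹ * (a⁻¹ * (s : 𝔸ˣ) * a)⁻¹ * a * (a⁻¹ * s * a) =
      a⁻¹ * (a⁻¹ * (s : 𝔸ˣ)⁻¹ * a * s) * a
    group
  have hC : ∀ i : ℕ, ∀ t ∈ R₁, (a⁻¹) ^ i * (a * t) ^ i ∈ R₁ := by
    intro i
    induction i with
    | zero =>
      intro t _
      simp only [pow_zero, mul_one]
      exact R₁.one_mem
    | succ n ih =>
      intro t ht
      have h1 := hκ _ (ih t ht)
      have h2 := R₁.mul_mem h1 ht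
      have e : a⁻¹ * ((a⁻¹) ^ n * (a * t) ^ n) * a * t =
          (a⁻¹) ^ (n + 1) * (a * t) ^ (n + 1) := by
        rw [pow_succ' (a⁻¹) n, pow_succ (a * t) n]
        simp only [mul_assoc]
      rwa [e] at h2
  let f : ℕ → ↥R₁ → ↥R₁ := fun i t => ⟨(a⁻¹) ^ i * (a * t) ^ i, hC i t t.2⟩
  have hfinj : ∀ i, 0 < i → i < p → Function.Injective (f i) := by
    intro i hi0 hip t t' h
    have h1 : (a⁻¹) ^ i * (a * (t : 𝔸ˣ)) ^ i = (a⁻¹) ^ i * (a * (t' : 𝔸ˣ)) ^ i :=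
      congrArg Subtype.val h
    have h2 : (a * (t : 𝔸ˣ)) ^ i = (a * (t' : 𝔸ˣ)) ^ i := mul_left_cancel h1
    have hcop' : Nat.Coprime i p :=
      ((Nat.Prime.coprime_iff_not_dvd hp.out).mpr (Nat.not_dvd_of_pos_of_lt hi0 hip)).symm
    have h3 := eq_of_pow_eq_of_coprime hp.out.one_lt hcop' (hpow_p t t.2) (hpow_p t' t'.2) h2
    exact Subtype.ext (mul_left_cancel h3)
  have hfbij : ∀ i, 0 < i → i < p → Function.Bijective (f i) := fun i h0 hp' =>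
    Finite.injective_iff_bijective.mp (hfinj i h0 hp')
  set e : 𝔸 := ∑ t : ↥R₁, ((t : 𝔸ˣ) : 𝔸) with he
  have hsum_i : ∀ i, 0 < i → i < p →
      ∑ t : ↥R₁, (((a * t) ^ i : 𝔸ˣ) : 𝔸) = (a : 𝔸) ^ i * e := by
    intro i h0 hip
    have h1 : ∀ t : ↥R₁, (((a * t) ^ i : 𝔸ˣ) : 𝔸) =
        (a : 𝔸) ^ i * (((f i t : ↥R₁) : 𝔸ˣ) : 𝔸) := by
      intro t
      rw [← Units.val_pow_eq_pow_val, ← Units.val_mul]
      congr 1
      show (a * t) ^ i = a ^ i * ((a⁻¹) ^ i * (a * t) ^ i)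
      rw [← mul_assoc, inv_pow, mul_inv_cancel, one_mul]
    simp_rw [h1]
    rw [← Finset.mul_sum, he]
    congr 1
    exact (hfbij i h0 hip).sum_comp (fun t : ↥R₁ => ((t : 𝔸ˣ) : 𝔸))
  have hdouble : ∑ t : ↥R₁, ∑ i ∈ Finset.range p, (((a * t) ^ i : 𝔸ˣ) : 𝔸) = 0 :=
    Finset.sum_eq_zero (fun t _ => hinner t t.2)
  rw [Finset.sum_comm] at hdouble
  obtain ⟨q, hq⟩ : ∃ q, p = q + 1 := ⟨p - 1, (Nat.succ_pred_eq_of_pos hp.out.pos).symm⟩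
  have h2 : ∑ j ∈ Finset.range q, ∑ t : ↥R₁, (((a * t) ^ (j + 1) : 𝔸ˣ) : 𝔸) =
      ∑ j ∈ Finset.range q, (a : 𝔸) ^ (j + 1) * e := by
    apply Finset.sum_congr rfl
    intro j hj
    exact hsum_i (j + 1) (Nat.succ_pos j)
      (by rw [hq]; exact Nat.succ_lt_succ (Finset.mem_range.mp hj))
  have h3 : ∑ j ∈ Finset.range q, (a : 𝔸) ^ (j + 1) = -1 := by
    have := hN
    rw [hq, Finset.sum_range_succ', pow_zero] at this
    exact eq_neg_of_add_eq_zero_left this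
  rw [hq, Finset.sum_range_succ', h2, ← Finset.sum_mul, h3] at hdouble
  have he_eq : e = (Fintype.card ↥R₁ : 𝔸) := by
    have h4 : -1 * e + (Fintype.card ↥R₁ : 𝔸) = 0 := by
      simpa [nsmul_eq_mul] using hdouble
    rw [neg_one_mul, neg_add_eq_zero] at h4
    exact h4
  have hR₁bot : ∀ t₀ ∈ R₁, t₀ = 1 := by
    intro t₀ ht₀
    have hmul : (t₀ : 𝔸) * e = e := by
      rw [he, Finset.mul_sum]
      have h5 := Equiv.sum_comp (Equiv.mulLeft (⟨t₀, ht₀⟩ : ↥R₁)) (fun t : ↥R₁ => ((t : 𝔸ˣ) : 𝔸))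
      rw [← h5]
      apply Finset.sum_congr rfl
      intro t _
      simp [Units.val_mul]
    rw [he_eq] at hmul
    have h1 : ((t₀ : 𝔸) - 1) * (Fintype.card ↥R₁ : 𝔸) = 0 := by
      rw [sub_mul, hmul, one_mul, sub_self]
    have h2' : ((t₀ : 𝔸) - 1) * (p : 𝔸) = 0 := by rw [hchar, mul_zero]
    have hcard_cop : Nat.Coprime (Fintype.card ↥R₁) p := by
      rw [← Nat.card_eq_fintype_card]
      exact Nat.Coprime.coprime_dvd_left (Subgroup.card_dvd_of_le hR₁R) hcop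
    obtain ⟨u, v, huv⟩ := Nat.isCoprime_iff_coprime.mpr hcard_cop
    have huv' : ((Fintype.card ↥R₁ : ℕ) : ℤ) * u + ((p : ℕ) : ℤ) * v = 1 := by
      rw [← huv]; ring
    have h6 := congrArg (Int.cast : ℤ → 𝔸) huv'
    push_cast at h6
    have h3' : ((t₀ : 𝔸) - 1) = 0 := by
      calc ((t₀ : 𝔸) - 1) = ((t₀ : 𝔸) - 1) * 1 := (mul_one _).symm
        _ = ((t₀ : 𝔸) - 1) * ((Fintype.card ↥R₁ : 𝔸) * (u : 𝔸) + (p : 𝔸) * (v : 𝔸)) := by rw [h6]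
        _ = 0 := by rw [mul_add, ← mul_assoc, ← mul_assoc, h1, h2', zero_mul, zero_mul, add_zero]
    exact Units.ext (by rw [Units.val_one]; exact sub_eq_zero.mp h3')
  intro r hr
  have h4 : a⁻¹ * r⁻¹ * a * r = 1 := hR₁bot (τ ⟨r, hr⟩) ⟨⟨r, hr⟩, rfl⟩
  calc a * r = r * a * (a⁻¹ * r⁻¹ * a * r) := by group
    _ = r * a := by rw [h4, mul_one]

end ring

end Cfsg.Agent.Helper23
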