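import Mathlib
import Cfsg.Prelude.Def_Transfer
import Cfsg.Agent.Lib.Helper10.ElemAb
import Cfsg.Agent.Lib.Helper23.Quadratic

set_option autoImplicit false

namespace Cfsg.Agent.Helper23

open Cfsg Cfsg.Agent.Helper10

/-- Group form of the quadratic lemma: if `x` acts quadratically on the normal elementary abelian
`p`-subgroup `V` (`p` odd), and `T` is a `p'`-subgroup, abelian modulo `C_G(V)`, with
`T C_G(V)` normalized by `x`, then `[x, T] ≤ C_G(V)`. -/
theorem quadratic_centralizes {G : Type*} [Group G] [Finite G] {p : ℕ} [hp : Fact p.Prime]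
    (hp2 : p ≠ 2) (V : Subgroup G) [hVn : V.Normal] (hV : Cfsg.IsElementaryAbelian p V)
    (x : G) (hx : ∀ v ∈ V, x * (x * v * x⁻¹ * v⁻¹) = (x * v * x⁻¹ * v⁻¹) * x)
    (T : Subgroup G)
    (hTc : ∀ s ∈ T, ∀ t ∈ T, s * t * s⁻¹ * t⁻¹ ∈ Subgroup.centralizer (V : Set G))
    (hcop : (Nat.card T).Coprime p)
    (hnorm : ∀ t ∈ T, ∃ t' ∈ T, ∃ c ∈ Subgroup.centralizer (V : Set G), x⁻¹ * t * x = t' * c) :
    ∀ t ∈ T, x * t * x⁻¹ * t⁻¹ ∈ Subgroup.centralizer (V : Set G) := by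
  classical
  obtain ⟨hVc, hVp⟩ := isElementaryAbelian_iff.mp hV
  let _ : CommGroup ↥V :=
    { (inferInstance : Group ↥V) with
      mul_comm := fun a b => Subtype.ext (hVc a a.2 b b.2) }
  let Φ₀ : G →* AddMonoid.End (Additive ↥V) :=
    { toFun := fun g => MonoidHom.toAdditive ((MulAut.conjNormal g : MulAut ↥V).toMonoidHom)
      map_one' := by
        rw [map_one]
        rfl
      map_mul' := by
        intro g h
        rw [map_mul]
        rfl }
  have hΦ₀ : ∀ (g : G) (v : ↥V), Φ₀ g (Additive.ofMul v) =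
      Additive.ofMul (⟨g * v * g⁻¹, hVn.conj_mem v v.2 g⟩ : ↥V) := by
    intro g v
    rfl
  let Φ : G →* (AddMonoid.End (Additive ↥V))ˣ := Φ₀.toHomUnits
  have hΦ : ∀ g : G, ((Φ g : (AddMonoid.End (Additive ↥V))ˣ) : AddMonoid.End (Additive ↥V)) = Φ₀ g :=
    fun g => MonoidHom.coe_toHomUnits Φ₀ g
  -- kernel
  have hker1 : ∀ g : G, g ∈ Subgroup.centralizer (V : Set G) → Φ g = 1 := by
    intro g hg
    apply Units.ext
    rw [hΦ, Units.val_one]
    refine AddMonoidHom.ext fun v => ?_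
    have key : ∀ w : ↥V, Φ₀ g (Additive.ofMul w) = Additive.ofMul w := by
      intro w
      rw [hΦ₀]
      congr 1
      apply Subtype.ext
      show g * (w : G) * g⁻¹ = w
      have := Subgroup.mem_centralizer_iff.mp hg w w.2
      rw [← this, mul_inv_cancel_right]
    exact key (Additive.toMul v)
  have hker2 : ∀ g : G, Φ g = 1 → g ∈ Subgroup.centralizer (V : Set G) := by
    intro g hg
    rw [Subgroup.mem_centralizer_iff]
    intro w hw
    have h1 : Φ₀ g (Additive.ofMul (⟨w, hw⟩ : ↥V)) = Additive.ofMul (⟨w, hw⟩ : ↥V) := by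
      rw [← hΦ, hg, Units.val_one]
      rfl
    rw [hΦ₀] at h1
    have h2 := congrArg Subtype.val (Additive.ofMul.injective h1)
    have h3 : g * w * g⁻¹ = w := h2
    calc w * g = (g * w * g⁻¹) * g := by rw [h3]
      _ = g * w := by group
  -- characteristic p
  have hchar : ((p : ℕ) : AddMonoid.End (Additive ↥V)) = 0 := by
    refine AddMonoidHom.ext fun v => ?_
    have key : ∀ w : ↥V, ((p : ℕ) : AddMonoid.End (Additive ↥V)) (Additive.ofMul w) = 0 := by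
      intro w
      rw [AddMonoid.End.natCast_apply, ← ofMul_pow]
      show Additive.ofMul (w ^ p) = Additive.ofMul 1
      congr 1
      apply Subtype.ext
      rw [Subgroup.coe_pow, Subgroup.coe_one]
      exact hVp w w.2
    exact key (Additive.toMul v)
  -- quadratic
  have ha : (((Φ x : (AddMonoid.End (Additive ↥V))ˣ) : AddMonoid.End (Additive ↥V)) - 1) *
      (((Φ x : (AddMonoid.End (Additive ↥V))ˣ) : AddMonoid.End (Additive ↥V)) - 1) = 0 := by
    rw [hΦ]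
    have hcV : ∀ w : ↥V, x * (w : G) * x⁻¹ * (w : G)⁻¹ ∈ V := fun w =>
      V.mul_mem (hVn.conj_mem w w.2 x) (V.inv_mem w.2)
    have c1 : ∀ w : ↥V, (Φ₀ x - 1) (Additive.ofMul w) =
        Additive.ofMul (⟨x * (w : G) * x⁻¹ * (w : G)⁻¹, hcV w⟩ : ↥V) := by
      intro w
      have e : (Φ₀ x - 1) (Additive.ofMul w) = Φ₀ x (Additive.ofMul w) - Additive.ofMul w := rfl
      rw [e, hΦ₀, ← ofMul_div]
      congr 1
      apply Subtype.ext
      rw [Subgroup.coe_div, div_eq_mul_inv]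
    have c2 : ∀ w : ↥V, Φ₀ x (Additive.ofMul (⟨x * (w : G) * x⁻¹ * (w : G)⁻¹, hcV w⟩ : ↥V)) =
        Additive.ofMul (⟨x * (w : G) * x⁻¹ * (w : G)⁻¹, hcV w⟩ : ↥V) := by
      intro w
      rw [hΦ₀]
      congr 1
      apply Subtype.ext
      show x * (x * (w : G) * x⁻¹ * (w : G)⁻¹) * x⁻¹ = x * (w : G) * x⁻¹ * (w : G)⁻¹
      rw [hx w w.2, mul_inv_cancel_right]
    refine AddMonoidHom.ext fun v => ?_
    have key : ∀ w : ↥V, (Φ₀ x - 1) ((Φ₀ x - 1) (Additive.ofMul w)) = 0 := by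
      intro w
      rw [c1]
      have e : (Φ₀ x - 1) (Additive.ofMul (⟨x * (w : G) * x⁻¹ * (w : G)⁻¹, hcV w⟩ : ↥V)) =
          Φ₀ x (Additive.ofMul (⟨x * (w : G) * x⁻¹ * (w : G)⁻¹, hcV w⟩ : ↥V)) -
            Additive.ofMul (⟨x * (w : G) * x⁻¹ * (w : G)⁻¹, hcV w⟩ : ↥V) := rfl
      rw [e, c2, sub_self]
    exact key (Additive.toMul v)
  -- the subgroup R
  have hfin : Finite ↥(T.map Φ) :=
    Finite.of_surjective (Φ.subgroupMap T) (Φ.subgroupMap_surjective T)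
  have hRc : ∀ r ∈ T.map Φ, ∀ s ∈ T.map Φ, r * s = s * r := by
    rintro _ ⟨t₁, ht₁, rfl⟩ _ ⟨t₂, ht₂, rfl⟩
    have h1 := hker1 _ (hTc t₁ ht₁ t₂ ht₂)
    rw [map_mul, map_mul, map_mul, map_inv, map_inv] at h1
    calc Φ t₁ * Φ t₂ = (Φ t₁ * Φ t₂ * (Φ t₁)⁻¹ * (Φ t₂)⁻¹) * (Φ t₂ * Φ t₁) := by group
      _ = Φ t₂ * Φ t₁ := by rw [h1, one_mul]
  have hcopR : (Nat.card ↥(T.map Φ)).Coprime p :=
    Nat.Coprime.coprime_dvd_left (Subgroup.card_map_dvd T Φ) hcop
  have hnormR : ∀ r ∈ T.map Φ, (Φ x)⁻¹ * r * Φ x ∈ T.map Φ := by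
    rintro _ ⟨t, ht, rfl⟩
    obtain ⟨t', ht', c, hc, htc⟩ := hnorm t ht
    refine ⟨t', ht', ?_⟩
    have h1 : Φ (x⁻¹ * t * x) = Φ (t' * c) := by rw [htc]
    rw [map_mul, map_mul, map_inv, map_mul, hker1 c hc, mul_one] at h1
    exact h1.symm
  have key := quadratic_commute hp2 hchar (Φ x) ha (T.map Φ) hRc hcopR hnormR
  intro t ht
  apply hker2
  have h1 := key (Φ t) ⟨t, ht, rfl⟩
  rw [map_mul, map_mul, map_mul, map_inv, map_inv, h1]
  group

end Cfsg.Agent.Helper23
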