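import Mathlib
import Cfsg.Prelude.Def_RootSubgroups
import Cfsg.Agent.Lib.Helper21.RankOneSpecial
import Cfsg.Agent.Lib.Helper83.R2Defs
import Cfsg.Agent.Lib.Helper83.R1Braid
import Cfsg.Agent.S5017
import Cfsg.Agent.S5021
import Cfsg.Agent.S5022

/-!
# R2 piece S (helper83's lemma server for S5020): the small case `|A| ≤ 3`
-/

set_option autoImplicit false

namespace Cfsg.Agent.Helper23.R2

open Cfsg Cfsg.Agent.Helper83 Cfsg.Agent.Helper83.R2 Cfsg.Agent.Helper21.RankOneSpecial

variable {X : Type*} [Group X] {A B : Subgroup X}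

/-- the centre of `SL₂(ZMod 2)` is trivial -/
theorem s_center_sl2_zmod2 :
    Subgroup.center (Matrix.SpecialLinearGroup (Fin 2) (ZMod 2)) = ⊥ := by
  rw [Subgroup.eq_bot_iff_forall]
  intro g hg
  rw [Matrix.SpecialLinearGroup.mem_center_iff] at hg
  obtain ⟨r, hr, hg⟩ := hg
  have hdec : ∀ r : ZMod 2, r ^ Fintype.card (Fin 2) = 1 → r = 1 := by decide
  have hr1 : r = 1 := hdec r hr
  rw [hr1] at hg
  apply Subtype.ext
  rw [← hg]
  simp

/-- `PSL₂(ZMod 2) ≃* SL₂(ZMod 2)` -/
noncomputable def s_psl2_zmod2 :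
    Matrix.ProjectiveSpecialLinearGroup (Fin 2) (ZMod 2) ≃*
      Matrix.SpecialLinearGroup (Fin 2) (ZMod 2) :=
  (QuotientGroup.quotientMulEquivOfEq s_center_sl2_zmod2).trans QuotientGroup.quotientBot

/-- a subgroup of prime order is generated by any of its non-identity elements -/
theorem s_zpowers_eq {C : Subgroup X} [Finite C] {p : ℕ} (hp : p.Prime) (hC : Nat.card C = p)
    {c : X} (hc : c ∈ C) (hc1 : c ≠ 1) : Subgroup.zpowers c = C := by
  apply Subgroup.eq_of_le_of_card_ge (Subgroup.zpowers_le.2 hc)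
  rw [Nat.card_zpowers, hC]
  have hdvd : orderOf c ∣ p := by
    have h := Subgroup.orderOf_dvd_natCard C hc
    rwa [hC] at h
  rcases (Nat.dvd_prime hp).1 hdvd with h | h
  · exact absurd (orderOf_eq_one_iff.1 h) hc1
  · exact h.ge

/-- the small case for a given prime `p = |A|` -/
theorem s_small_prime (h : IsRankOneGroup X A B) (hs : IsSpecialRankOnePair A B)
    (hab : HasAbelianUnipotents A B) [Finite A] (p : ℕ) [hp : Fact p.Prime]
    (hA : Nat.card A = p) :
    Nonempty (X ≃* Matrix.SpecialLinearGroup (Fin 2) (ZMod p)) ∨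
      Nonempty (X ≃* Matrix.ProjectiveSpecialLinearGroup (Fin 2) (ZMod p)) := by
  have hAel : IsElementaryAbelian p A := by
    refine ⟨hab.1, ?_⟩
    intro a ha
    have h1 : (⟨a, ha⟩ : A) ^ Nat.card A = 1 := pow_card_eq_one'
    rw [hA] at h1
    have h2 := congrArg Subtype.val h1
    simpa using h2
  obtain ⟨a, ha, ha1⟩ := exists_mem_ne_one_of_ne_bot (rankOne_ne_bot_left h.2)
  obtain ⟨b, hb, hb1, hab'⟩ := h.2.cond_left a ha ha1
  obtain ⟨x, _, hBx⟩ := right_mem_unipotentSubgroups h.2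
  have hBcard : Nat.card B = p := by
    rw [hBx, ← hA]
    exact (Nat.card_congr (A.equivMapOfInjective _ (MulAut.conj x).injective).toEquiv).symm
  have : Finite B := Nat.finite_of_card_ne_zero (by rw [hBcard]; exact hp.out.ne_zero)
  have hza := s_zpowers_eq hp.out hA ha ha1
  have hzb := s_zpowers_eq hp.out hBcard hb hb1
  have hcl : Subgroup.closure ({a, b} : Set X) = ⊤ := by
    rw [eq_top_iff, ← h.1, ← hza, ← hzb, sup_le_iff]
    constructor
    · rw [Subgroup.zpowers_le]
      exact Subgroup.subset_closure (by simp)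
    · rw [Subgroup.zpowers_le]
      exact Subgroup.subset_closure (by simp)
  have e : X ≃* ↥(Subgroup.closure ({a, b} : Set X)) :=
    ((MulEquiv.subgroupCongr hcl).trans Subgroup.topEquiv).symm
  rcases Cfsg.Agent.S5022.result h hs hab hAel ha ha1 hb hb1 hab' with hf | hf
  · obtain ⟨f⟩ := hf
    exact Or.inl ⟨e.trans f⟩
  · obtain ⟨f⟩ := hf
    exact Or.inr ⟨e.trans f⟩

/-- (S) the small case. -/
theorem small_case (h : IsRankOneGroup X A B) (hs : IsSpecialRankOnePair A B)
    (hab : HasAbelianUnipotents A B) (hcard : ENat.card A ≤ 3) :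
    Nonempty (X ≃* Matrix.SpecialLinearGroup (Fin 2) (ZMod 2)) ∨
      Nonempty (X ≃* Matrix.SpecialLinearGroup (Fin 2) (ZMod 3)) ∨
      Nonempty (X ≃* Matrix.ProjectiveSpecialLinearGroup (Fin 2) (ZMod 3)) := by
  have hfin : Finite A := by
    rw [← ENat.card_lt_top]
    exact lt_of_le_of_lt hcard (by decide)
  have hle : Nat.card A ≤ 3 := by
    let _ := Fintype.ofFinite A
    rw [ENat.card_eq_coe_fintype_card] at hcard
    rw [Nat.card_eq_fintype_card]
    exact_mod_cast hcard
  have hpos : 0 < Nat.card A := Nat.card_pos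
  have hne1 : Nat.card A ≠ 1 := by
    intro h1
    exact rankOne_ne_bot_left h.2 (Subgroup.card_eq_one.1 h1)
  have h23 : Nat.card A = 2 ∨ Nat.card A = 3 := by omega
  rcases h23 with h2 | h3
  · have : Fact (Nat.Prime 2) := ⟨Nat.prime_two⟩
    rcases s_small_prime h hs hab 2 h2 with hf | hf
    · exact Or.inl hf
    · obtain ⟨f⟩ := hf
      exact Or.inl ⟨f.trans s_psl2_zmod2⟩
  · have : Fact (Nat.Prime 3) := ⟨Nat.prime_three⟩
    rcases s_small_prime h hs hab 3 h3 with hf | hf
    · exact Or.inr (Or.inl hf)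
    · exact Or.inr (Or.inr hf)

end Cfsg.Agent.Helper23.R2
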