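import Mathlib
import Cfsg.Prelude.Def_Characters
import Cfsg.Prelude.Def_Blocks
import Cfsg.Agent.Lib.Helper80.RPDDefs
import Cfsg.Agent.Lib.Helper79.DegreeRatio
import Cfsg.Agent.Lib.Helper79.LinearDeg
import Cfsg.Agent.Lib.Helper81.CharClifford
import Cfsg.Agent.Lib.Helper3.CharDecomp

/-!
# RPD (DAG) `dagger` (helper80's lemma server for S4861, Isaacs–Navarro)

Characters of `p'`-degree are trivial on `N = [N, M]` when `N` is abelian normal, `M ⊴ G` and `|M : N|` is a power of `p`: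
restrict `χ` to `M`, pick a constituent `ξ` of `p'`-degree; `ξ(1)` divides `|M : N|` (degree ratio, `N` abelian), so `ξ` is
linear, hence trivial on `[M, M] ≥ N`; by Clifford all constituents of `χ|_M` are conjugates of `ξ`, also trivial on `N`.
-/

set_option autoImplicit false
set_option linter.style.haveILetI false

namespace Cfsg.Agent.Helper23.RPD

open Cfsg Cfsg.Agent.Helper80.RPD
open scoped ComplexConjugate
open scoped commutatorElement

universe u

theorem dag_dvd_of_sum {ι : Type*} (s : Finset ι) (m d : ι → ℕ) (p D : ℕ)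
    (h : (D : ℂ) = ∑ i ∈ s, (m i : ℂ) * (d i : ℂ)) (hd : ∀ i ∈ s, m i ≠ 0 → p ∣ d i) : p ∣ D := by
  have h' : D = ∑ i ∈ s, m i * d i := by
    have h2 : (D : ℂ) = ((∑ i ∈ s, m i * d i : ℕ) : ℂ) := by
      rw [h, Nat.cast_sum]
      apply Finset.sum_congr rfl
      intro i _
      rw [Nat.cast_mul]
    exact_mod_cast h2
  rw [h']
  apply Finset.dvd_sum
  intro i hi
  by_cases h0 : m i = 0
  · rw [h0, zero_mul]; exact dvd_zero p
  · exact Dvd.dvd.mul_left (hd i hi h0) _

theorem dag_char_one {M : Type u} [Group M] {f : M → ℂ} (hf : IsCharacter M f) :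
    f 1 = (charDegree f : ℂ) := by
  obtain ⟨n, ρ, hρ⟩ := hf
  rw [← hρ]
  simp only [charDegree, Representation.char_one, Module.finrank_fin_fun, Complex.natCast_re,
    Nat.floor_natCast]

/-- a character of degree prime to `p` has an irreducible constituent of degree prime to `p` -/
theorem dag_exists_constituent {M : Type u} [Group M] [Fintype M] (p : ℕ) {f : M → ℂ}
    (hf : IsCharacter M f) (hp : ¬ p ∣ charDegree f) :
    ∃ ξ : IrrCharacter M, classInner f (ξ : M → ℂ) ≠ 0 ∧ ¬ p ∣ charDegree (ξ : M → ℂ) := by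
  classical
  by_contra hcon
  have hcon' : ∀ ξ : IrrCharacter M, classInner f (ξ : M → ℂ) ≠ 0 → p ∣ charDegree (ξ : M → ℂ) := by
    intro ξ h
    by_contra h'
    exact hcon ⟨ξ, h, h'⟩
  have hsum := Helper3.isCharacter_eq_sum_irrMult hf
  have h1 := congrFun hsum 1
  rw [Finset.sum_apply] at h1
  have h2 := dag_char_one hf
  apply hp
  refine dag_dvd_of_sum Finset.univ (fun ψ : IrrCharacter M => Helper3.irrMult f ψ)
    (fun ψ : IrrCharacter M => charDegree (ψ : M → ℂ)) p _ ?_ ?_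
  · rw [← h2, h1]
    apply Finset.sum_congr rfl
    intro ψ _
    rw [Pi.smul_apply, smul_eq_mul, (Helper79.irr_one_eq ψ).1]
  · intro ψ _ h0
    apply hcon' ψ
    rw [Helper3.irrMult_spec hf ψ]
    exact_mod_cast h0

/-- a character with nonzero degree has an irreducible constituent -/
theorem dag_exists_any_constituent {M : Type u} [Group M] [Fintype M] {f : M → ℂ}
    (hf : IsCharacter M f) (h1 : f 1 ≠ 0) :
    ∃ ϑ : IrrCharacter M, classInner f (ϑ : M → ℂ) ≠ 0 := by
  classical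
  by_contra hcon
  have hcon' : ∀ ϑ : IrrCharacter M, classInner f (ϑ : M → ℂ) = 0 := by
    intro ϑ
    by_contra h'
    exact hcon ⟨ϑ, h'⟩
  have hsum := Helper3.isCharacter_eq_sum_irrMult hf
  have h2 := congrFun hsum 1
  rw [Finset.sum_apply] at h2
  apply h1
  rw [h2]
  apply Finset.sum_eq_zero
  intro ψ _
  have h3 : (Helper3.irrMult f ψ : ℂ) = 0 := by
    rw [← Helper3.irrMult_spec hf ψ]; exact hcon' ψ
  rw [Pi.smul_apply, h3, zero_smul]

open Cfsg.Agent.Helper81 in
/-- (DAG) characters of `p'`-degree are trivial on `N = [N, M]` when `N` is abelian normal,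
`M ⊴ G` and `|M : N|` is a power of `p` -/
theorem dagger {G : Type u} [Group G] [Finite G] (p : ℕ) [Fact p.Prime] (N M : Subgroup G)
    (hN : N.Normal) (hM : M.Normal) (hcomm : ∀ a ∈ N, ∀ b ∈ N, a * b = b * a) (hNM : N ≤ M)
    (hidx : ∃ k : ℕ, N.relIndex M = p ^ k) (hNc : N ≤ ⁅N, M⁆) (χ : IrrCharacter G)
    (hχ : ¬ p ∣ charDegree (χ : G → ℂ)) :
    ∀ n ∈ N, (χ : G → ℂ) n = (χ : G → ℂ) 1 := by
  classical
  letI : Fintype G := Fintype.ofFinite G
  letI : Fintype M := Fintype.ofFinite M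
  have hp : p.Prime := Fact.out
  -- Step 1: a constituent `ξ` of `χ|_M` of degree prime to `p`
  have hres : IsCharacter M (fun m : M => (χ : G → ℂ) m) :=
    isCharacter_restrict M (IsIrrCharacter.isCharacter χ.2)
  have hdegres : charDegree (fun m : M => (χ : G → ℂ) m) = charDegree (χ : G → ℂ) := rfl
  obtain ⟨ξ, hξne, hξp⟩ := dag_exists_constituent p hres (by rw [hdegres]; exact hχ)
  -- Step 2: `ξ` is linear
  let N' : Subgroup M := N.subgroupOf M
  haveI hN' : N'.Normal := hN.subgroupOf M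
  letI : Fintype N' := Fintype.ofFinite N'
  have hξ1 := Helper79.irr_one_eq ξ
  have hresN : IsCharacter N' (fun x : N' => (ξ : M → ℂ) x) :=
    isCharacter_restrict N' (IsIrrCharacter.isCharacter ξ.2)
  obtain ⟨ϑ, hϑne⟩ := dag_exists_any_constituent hresN (by
    show (ξ : M → ℂ) ((1 : N') : M) ≠ 0
    rw [Subgroup.coe_one, hξ1.1]
    exact_mod_cast hξ1.2.ne')
  have hϑdeg : charDegree (ϑ : N' → ℂ) = 1 := by
    apply Helper79.degree_one_of_commutator_le_irrKer
    rw [commutator_def, Subgroup.commutator_le]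
    intro a _ b _
    have ha : ((a : M) : G) ∈ N := Subgroup.mem_subgroupOf.mp a.2
    have hb : ((b : M) : G) ∈ N := Subgroup.mem_subgroupOf.mp b.2
    have hab : ⁅a, b⁆ = 1 := by
      rw [commutatorElement_eq_one_iff_commute]
      apply Subtype.ext
      apply Subtype.ext
      exact hcomm _ ha _ hb
    rw [hab]
    exact one_mem _
  obtain ⟨e, he1, he2⟩ := Helper79.degree_ratio_dvd_index N' ξ.2 ϑ.2 hϑne
  obtain ⟨k, hk⟩ := hidx
  have hedeg : charDegree (ξ : M → ℂ) = e := by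
    have h := he1
    rw [hξ1.1, (Helper79.irr_one_eq ϑ).1, hϑdeg, Nat.cast_one, mul_one] at h
    exact_mod_cast h
  have hξdeg : charDegree (ξ : M → ℂ) = 1 := by
    have h1 : e ∣ p ^ k := by rw [← hk]; exact he2
    obtain ⟨j, -, hj⟩ := (Nat.dvd_prime_pow hp).mp h1
    rw [hedeg, hj]
    cases j with
    | zero => rfl
    | succ j =>
      exfalso
      apply hξp
      rw [hedeg, hj, pow_succ]
      exact dvd_mul_left p _
  -- Step 3: `ξ` is trivial on `N`
  have hker : ∀ n (hn : n ∈ N), (ξ : M → ℂ) ⟨n, hNM hn⟩ = (ξ : M → ℂ) 1 := by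
    have hcle := Helper79.commutator_le_irrKer_of_degree_one ξ hξdeg
    have hK : ⁅N, M⁆ ≤ (Helper79.irrKer ξ).map M.subtype := by
      rw [Subgroup.commutator_le]
      intro a ha b hb
      refine Subgroup.mem_map.mpr ⟨⁅(⟨a, hNM ha⟩ : M), (⟨b, hb⟩ : M)⁆, hcle ?_, rfl⟩
      rw [commutator_def]
      exact Subgroup.commutator_mem_commutator (Subgroup.mem_top _) (Subgroup.mem_top _)
    intro n hn
    obtain ⟨y, hy, hyn⟩ := Subgroup.mem_map.mp (hK (hNc hn))
    have hyn' : y = ⟨n, hNM hn⟩ := Subtype.ext hyn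
    rw [← hyn']
    exact (Helper79.mem_irrKer ξ y).mp hy
  -- Step 4: Clifford
  have hcl := clifford M hM χ.2 ξ.2 hξne
  have hS := conjSet_finite M hM (ξ : M → ℂ)
  rw [finsum_mem_eq_finite_toFinset_sum _ hS] at hcl
  intro n hn
  have e1 : (χ : G → ℂ) n = classInner (fun m : M => (χ : G → ℂ) m) (ξ : M → ℂ) *
      ∑ ψ ∈ hS.toFinset, ψ ⟨n, hNM hn⟩ := by
    have h := congrFun hcl ⟨n, hNM hn⟩
    rw [Pi.smul_apply, Finset.sum_apply, smul_eq_mul] at h
    exact h
  have e2 : (χ : G → ℂ) 1 = classInner (fun m : M => (χ : G → ℂ) m) (ξ : M → ℂ) *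
      ∑ ψ ∈ hS.toFinset, ψ 1 := by
    have h := congrFun hcl 1
    rw [Pi.smul_apply, Finset.sum_apply, smul_eq_mul] at h
    exact h
  have e3 : ∑ ψ ∈ hS.toFinset, ψ ⟨n, hNM hn⟩ = ∑ ψ ∈ hS.toFinset, ψ 1 := by
    apply Finset.sum_congr rfl
    intro ψ hψ
    rw [Set.Finite.mem_toFinset] at hψ
    obtain ⟨g, rfl⟩ := hψ
    rw [conjFun_apply, conjFun_apply]
    have hL : (ξ : M → ℂ) ⟨g * ((⟨n, hNM hn⟩ : M) : G) * g⁻¹, hM.conj_mem _ (hNM hn) g⟩ =
        (ξ : M → ℂ) 1 := hker (g * n * g⁻¹) (hN.conj_mem n hn g)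
    have hR : (ξ : M → ℂ) ⟨g * ((1 : M) : G) * g⁻¹, hM.conj_mem _ (1 : M).2 g⟩ = (ξ : M → ℂ) 1 :=
      congrArg (ξ : M → ℂ) (Subtype.ext (by simp))
    exact hL.trans hR.symm
  rw [e1, e3, ← e2]

end Cfsg.Agent.Helper23.RPD
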