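import Mathlib
import Cfsg.Prelude.Def_Characters
import Cfsg.Prelude.Def_Blocks
import Cfsg.Agent.Lib.Helper23.RPDDAG
import Cfsg.Agent.Lib.Helper79.Integrality

/-!
# RPD2 (DAG2) `dagger_derived` (helper80's lemma server for S4862, Isaacs–Navarro)

A character of degree prime to `p` is trivial on every normal subgroup `V` of `G` contained in the derived subgroup of a
Sylow `p`-subgroup `P`: `χ|_P` has a constituent `μ` of degree prime to `p`, hence linear, hence trivial on `[P, P] ≥ V`;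
so `⟨χ|_V, 1_V⟩ ≠ 0`, and Clifford for `V ⊴ G` and the trivial character gives `χ v = χ 1`.
-/

set_option autoImplicit false
set_option linter.style.haveILetI false

namespace Cfsg.Agent.Helper23.RPD2

open Cfsg
open scoped ComplexConjugate
open scoped commutatorElement

universe u

theorem dag2_isCharacter_comp {H K : Type u} [Group H] [Group K] (j : K →* H) {φ : H → ℂ}
    (hφ : IsCharacter H φ) : IsCharacter K (fun k => φ (j k)) := by
  obtain ⟨n, ρ, rfl⟩ := hφ
  exact ⟨n, ρ.comp j, rfl⟩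

theorem dag2_pair_nat {K : Type u} [Group K] [Fintype K] {φ : K → ℂ} (hφ : IsCharacter K φ) :
    ∃ m : ℕ, (Nat.card K : ℂ)⁻¹ * ∑ k : K, φ k = (m : ℂ) := by
  obtain ⟨m, hm⟩ := Helper3.classInner_isCharacter_nat hφ (Helper3.isCharacter_one (G := K))
  refine ⟨m, ?_⟩
  rw [← hm]
  unfold classInner
  simp

/-- if `μ` is a constituent of the character `f` of `H` and `μ ∘ j = 1`, then `⟨f ∘ j, 1⟩ ≠ 0` -/
theorem dag2_pair_ne_zero {H K : Type u} [Group H] [Fintype H] [Group K] [Fintype K] (j : K →* H)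
    {f : H → ℂ} (hf : IsCharacter H f) (μ : IrrCharacter H) (hμ : classInner f (μ : H → ℂ) ≠ 0)
    (hμK : ∀ k : K, (μ : H → ℂ) (j k) = 1) :
    (Nat.card K : ℂ)⁻¹ * ∑ k : K, f (j k) ≠ 0 := by
  classical
  have hsum := Helper3.isCharacter_eq_sum_irrMult hf
  have hn : ∀ ζ : IrrCharacter H, ∃ m : ℕ,
      (Nat.card K : ℂ)⁻¹ * ∑ k : K, (ζ : H → ℂ) (j k) = (m : ℂ) :=
    fun ζ => dag2_pair_nat (dag2_isCharacter_comp j (Helper3.isCharacter_of_isIrrCharacter ζ.2))
  choose n hn using hn
  have hexp : (Nat.card K : ℂ)⁻¹ * ∑ k : K, f (j k) =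
      ((∑ ζ : IrrCharacter H, Helper3.irrMult f ζ * n ζ : ℕ) : ℂ) := by
    have h1 : ∀ k : K, f (j k) =
        ∑ ζ : IrrCharacter H, (Helper3.irrMult f ζ : ℂ) * (ζ : H → ℂ) (j k) := by
      intro k
      have h := congrFun hsum (j k)
      rw [Finset.sum_apply] at h
      rw [h]
      apply Finset.sum_congr rfl
      intro ζ _
      rw [Pi.smul_apply, smul_eq_mul]
    rw [Finset.sum_congr rfl (fun k _ => h1 k), Finset.sum_comm, Finset.mul_sum, Nat.cast_sum]
    apply Finset.sum_congr rfl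
    intro ζ _
    rw [← Finset.mul_sum, Nat.cast_mul, ← hn ζ]
    ring
  rw [hexp]
  have hm1 : 1 ≤ Helper3.irrMult f μ := by
    rw [Nat.one_le_iff_ne_zero]
    intro h0
    apply hμ
    rw [Helper3.irrMult_spec hf μ, h0]
    simp
  have hn1 : n μ = 1 := by
    have h := hn μ
    simp only [hμK, Finset.sum_const, Finset.card_univ, nsmul_eq_mul, mul_one] at h
    rw [Nat.card_eq_fintype_card,
      inv_mul_cancel₀ (Nat.cast_ne_zero.mpr Fintype.card_ne_zero)] at h
    exact_mod_cast h.symm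
  have hpos : 1 ≤ ∑ ζ : IrrCharacter H, Helper3.irrMult f ζ * n ζ := by
    calc 1 ≤ Helper3.irrMult f μ * n μ := by rw [hn1, mul_one]; exact hm1
      _ ≤ ∑ ζ : IrrCharacter H, Helper3.irrMult f ζ * n ζ :=
        Finset.single_le_sum (f := fun ζ => Helper3.irrMult f ζ * n ζ) (fun _ _ => Nat.zero_le _)
          (Finset.mem_univ μ)
  exact Nat.cast_ne_zero.mpr (by omega)

/-- (DAG2) a character of degree prime to `p` is trivial on every normal subgroup `V` of `G`
contained in the derived subgroup of a Sylow `p`-subgroup `P`. -/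
theorem dagger_derived {G : Type u} [Group G] [Finite G] (p : ℕ) [Fact p.Prime] (P : Sylow p G)
    (V : Subgroup G) (hV : V.Normal) (hVP : V ≤ ⁅(P : Subgroup G), (P : Subgroup G)⁆)
    (χ : IrrCharacter G) (hχ : ¬ p ∣ charDegree (χ : G → ℂ)) :
    ∀ v ∈ V, (χ : G → ℂ) v = (χ : G → ℂ) 1 := by
  classical
  letI : Fintype G := Fintype.ofFinite G
  letI : Fintype (P : Subgroup G) := Fintype.ofFinite _
  letI : Fintype V := Fintype.ofFinite V
  have hp : p.Prime := Fact.out
  -- Step 1: a constituent `μ` of `χ|_P` of degree prime to `p`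
  have hres : IsCharacter (P : Subgroup G) (fun x : (P : Subgroup G) => (χ : G → ℂ) x) :=
    Helper81.isCharacter_restrict _ (Helper81.IsIrrCharacter.isCharacter χ.2)
  have hdegres : charDegree (fun x : (P : Subgroup G) => (χ : G → ℂ) x) =
      charDegree (χ : G → ℂ) := rfl
  obtain ⟨μ, hμne, hμp⟩ := RPD.dag_exists_constituent p hres (by rw [hdegres]; exact hχ)
  -- Step 2: `μ` is linear
  have hμdeg : charDegree (μ : ↥(P : Subgroup G) → ℂ) = 1 := by
    have hdvd := Helper79.irr_degree_dvd_card μ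
    obtain ⟨n, hn⟩ := IsPGroup.iff_card.mp P.isPGroup'
    rw [hn] at hdvd
    obtain ⟨j, -, hj⟩ := (Nat.dvd_prime_pow hp).mp hdvd
    cases j with
    | zero => rw [hj, pow_zero]
    | succ j =>
      exfalso
      apply hμp
      rw [hj, pow_succ]
      exact dvd_mul_left p _
  -- Step 3: `μ` is trivial on `V`
  have hPP : ⁅(P : Subgroup G), (P : Subgroup G)⁆ ≤ (P : Subgroup G) :=
    Subgroup.commutator_le.mpr fun a ha b hb =>
      mul_mem (mul_mem (mul_mem ha hb) (inv_mem ha)) (inv_mem hb)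
  have hVP' : V ≤ (P : Subgroup G) := hVP.trans hPP
  have hker : ∀ v (hv : v ∈ V), (μ : ↥(P : Subgroup G) → ℂ) ⟨v, hVP' hv⟩ = 1 := by
    have hcle := Helper79.commutator_le_irrKer_of_degree_one μ hμdeg
    have hK : ⁅(P : Subgroup G), (P : Subgroup G)⁆ ≤
        (Helper79.irrKer μ).map (P : Subgroup G).subtype := by
      rw [Subgroup.commutator_le]
      intro a ha b hb
      refine Subgroup.mem_map.mpr
        ⟨⁅(⟨a, ha⟩ : (P : Subgroup G)), (⟨b, hb⟩ : (P : Subgroup G))⁆, hcle ?_, rfl⟩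
      rw [commutator_def]
      exact Subgroup.commutator_mem_commutator (Subgroup.mem_top _) (Subgroup.mem_top _)
    intro v hv
    obtain ⟨y, hy, hyv⟩ := Subgroup.mem_map.mp (hK (hVP hv))
    have hyv' : y = ⟨v, hVP' hv⟩ := Subtype.ext hyv
    rw [← hyv', (Helper79.mem_irrKer μ y).mp hy, (Helper79.irr_one_eq μ).1, hμdeg, Nat.cast_one]
  -- Step 4: `⟨χ|_V, 1_V⟩ ≠ 0`
  have hne : classInner (fun v : V => (χ : G → ℂ) v) (fun _ => (1 : ℂ)) ≠ 0 := by
    have h := dag2_pair_ne_zero (Subgroup.inclusion hVP') hres μ hμne (fun k => hker k.1 k.2)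
    unfold classInner
    simpa using h
  -- Step 5: Clifford for `V ⊴ G` and the trivial character
  have hirr1 : IsIrrCharacter V (fun _ => (1 : ℂ)) := Helper3.isIrrCharacter_one
  have hcl := Helper81.clifford V hV χ.2 hirr1 hne
  have hset : Helper81.conjSet V hV (fun _ => (1 : ℂ)) = {fun _ => (1 : ℂ)} := by
    ext ψ
    constructor
    · rintro ⟨g, rfl⟩
      exact Set.mem_singleton_iff.mpr rfl
    · intro h
      rw [Set.mem_singleton_iff] at h
      exact ⟨1, by rw [h]; rfl⟩
  rw [hset, finsum_mem_singleton] at hcl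
  intro v hv
  have e1 := congrFun hcl ⟨v, hv⟩
  have e2 := congrFun hcl 1
  simp only [Pi.smul_apply, smul_eq_mul, mul_one] at e1 e2
  calc (χ : G → ℂ) v = _ := e1
    _ = (χ : G → ℂ) 1 := e2.symm

end Cfsg.Agent.Helper23.RPD2
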