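import Mathlib
import Cfsg.Prelude.Def_Characters
import Cfsg.Prelude.Def_Blocks
import Cfsg.Agent.Lib.Helper80.BrauerOdd
import Cfsg.Agent.Lib.Helper80.RPDDefs
import Cfsg.Agent.Lib.Helper79.Glaub.RealCorr

/-!
# RPD4 piece CHT (helper80's lemma server for S4864): from the action language to `InvAt`
-/

set_option autoImplicit false
set_option linter.style.haveILetI false

namespace Cfsg.Agent.Helper23.RPD4

open Cfsg Cfsg.Agent.Helper80 Cfsg.Agent.Helper79.Glaub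

universe u v

attribute [local instance] realIrrAction realEltAction

/-- a real irreducible character of `K` is fixed by `g` iff it is `InvAt`-invariant under `g` -/
theorem cht_key {Γ : Type u} [Group Γ] (K : Subgroup Γ) [hK : K.Normal] (g : Γ)
    (θ : {θ : IrrCharacter ↥K // ∀ k : ↥K, ((θ : ↥K → ℂ) k).im = 0}) :
    g • θ = θ ↔ InvAt K ((θ : IrrCharacter ↥K) : ↥K → ℂ) g := by
  rw [Subtype.ext_iff]
  exact mem_stabilizer_irrConjAction K hK g θ.1

/-- (CHT) translation from the action language to the `InvAt` language -/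
theorem cht_count {Γ : Type u} [Group Γ] [Finite Γ] (K : Subgroup Γ) [hK : K.Normal]
    (P : Subgroup Γ) (n : Γ) :
    Nat.card {θ : {θ : IrrCharacter ↥K // ∀ k : ↥K, ((θ : ↥K → ℂ) k).im = 0} //
        (∀ s ∈ P, s • θ = θ) ∧ n • θ = θ} =
    Nat.card {θ : IrrCharacter K // ((∀ k : K, ((θ : K → ℂ) k).im = 0) ∧
        InvAt K (θ : K → ℂ) n) ∧ ∀ x ∈ P, InvAt K (θ : K → ℂ) x} := by
  apply Nat.card_congr
  refine ⟨fun θ => ⟨θ.1.1, ⟨θ.1.2, (cht_key K n θ.1).1 θ.2.2⟩,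
      fun x hx => (cht_key K x θ.1).1 (θ.2.1 x hx)⟩,
    fun θ => ⟨⟨θ.1, θ.2.1.1⟩, fun s hs => (cht_key K s ⟨θ.1, θ.2.1.1⟩).2 (θ.2.2 s hs),
      (cht_key K n ⟨θ.1, θ.2.1.1⟩).2 θ.2.1.2⟩, ?_, ?_⟩
  · intro θ
    rfl
  · intro θ
    rfl

end Cfsg.Agent.Helper23.RPD4
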