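import Mathlib
import Cfsg.Prelude.Def_Characters
import Cfsg.Prelude.Def_Blocks
import Cfsg.Agent.Lib.Helper80.BrauerOdd
import Cfsg.Agent.Lib.Helper80.RPDDefs
import Cfsg.Agent.Lib.Helper79.Glaub.RealCorr
import Cfsg.Agent.Lib.Helper80.RPD4SA
import Cfsg.Agent.Lib.Helper78.ItoMichler

/-!
# RPD4 piece HFIX (helper80's lemma server for S4864): every real character of `K` has a conjugate
fixed by a Sylow `p`-subgroup, under the degree hypothesis
-/

set_option autoImplicit false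
set_option linter.style.haveILetI false

namespace Cfsg.Agent.Helper23.RPD4

open Cfsg Cfsg.Agent.Helper80 Cfsg.Agent.Helper79.Glaub

universe u v

attribute [local instance] realIrrAction realEltAction

/-- the orbit of a real character under `realIrrAction` has as many elements as its `conjSet` -/
theorem hfix_card_orbit {Γ : Type u} [Group Γ] [Fintype Γ] (K : Subgroup Γ) [hK : K.Normal]
    (θ : {θ : IrrCharacter ↥K // ∀ k : ↥K, ((θ : ↥K → ℂ) k).im = 0}) :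
    Nat.card ↥(MulAction.orbit Γ θ) =
      Nat.card ↥(Cfsg.Agent.Helper81.conjSet K hK ((θ : IrrCharacter ↥K) : ↥K → ℂ)) := by
  apply Nat.card_congr
  refine Equiv.ofBijective
    (fun y => (⟨((y.1 : IrrCharacter ↥K) : ↥K → ℂ), by
      obtain ⟨g, hg⟩ := MulAction.mem_orbit_iff.1 y.2
      refine ⟨g⁻¹, ?_⟩
      rw [← hg]
      rfl⟩ : ↥(Cfsg.Agent.Helper81.conjSet K hK ((θ : IrrCharacter ↥K) : ↥K → ℂ)))) ⟨?_, ?_⟩
  · intro y y' h
    have h1 : ((y.1 : IrrCharacter ↥K) : ↥K → ℂ) = ((y'.1 : IrrCharacter ↥K) : ↥K → ℂ) := by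
      have h0 := congrArg Subtype.val h
      exact h0
    exact Subtype.ext (Subtype.ext (Subtype.ext h1))
  · rintro ⟨ψ, g, rfl⟩
    refine ⟨⟨g⁻¹ • θ, MulAction.mem_orbit _ _⟩, ?_⟩
    apply Subtype.ext
    show (((g⁻¹ • θ : {θ : IrrCharacter ↥K // ∀ k : ↥K, ((θ : ↥K → ℂ) k).im = 0}) :
      IrrCharacter ↥K) : ↥K → ℂ) = _
    rw [realIrrAction_smul_coe, irrConjAction_smul_coe, inv_inv]

/-- (HFIX) under the degree hypothesis every real character of `K` has a conjugate fixed by `P` -/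
theorem hfix_of_hreal {Γ : Type u} [Group Γ] [Finite Γ] (p : ℕ) [Fact p.Prime]
    (K : Subgroup Γ) [hK : K.Normal] (hodd : Odd K.index)
    (hreal : ∀ χ : IrrCharacter Γ, (∀ g : Γ, ((χ : Γ → ℂ) g).im = 0) →
      ¬ p ∣ charDegree (χ : Γ → ℂ))
    (P : Sylow p Γ) (θ : {θ : IrrCharacter ↥K // ∀ k : ↥K, ((θ : ↥K → ℂ) k).im = 0}) :
    ∃ g : Γ, ∀ s ∈ (P : Subgroup Γ), s • (g • θ) = g • θ := by
  classical
  letI : Fintype Γ := Fintype.ofFinite Γ
  letI : Fintype ↥K := Fintype.ofFinite ↥K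
  obtain ⟨χ, hχr, hχθ⟩ := Cfsg.Agent.Helper80.RPD4.real_over_real K hodd θ.1 θ.2
  have hp := hreal χ hχr
  obtain ⟨e, he⟩ := Cfsg.Agent.Helper78.clifford_degree K hK χ.2 θ.1.2 hχθ
  have hcs : ¬ p ∣ Nat.card ↥(Cfsg.Agent.Helper81.conjSet K hK ((θ : IrrCharacter ↥K) : ↥K → ℂ)) := by
    intro hd
    apply hp
    rw [he]
    exact Dvd.dvd.mul_left (Dvd.dvd.mul_right hd _) _
  have hfp := (P.isPGroup').nonempty_fixed_point_of_prime_not_dvd_card (↥(MulAction.orbit Γ θ))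
    (by rw [hfix_card_orbit K θ]; exact hcs)
  obtain ⟨y, hy⟩ := hfp
  obtain ⟨g, hg⟩ := MulAction.mem_orbit_iff.1 y.2
  refine ⟨g, ?_⟩
  intro s hs
  have h1 : (⟨s, hs⟩ : ↥(P : Subgroup Γ)) • y = y := hy ⟨s, hs⟩
  have h2 := congrArg Subtype.val h1
  rw [hg]
  exact h2

end Cfsg.Agent.Helper23.RPD4
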