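import Mathlib
import Cfsg.Agent.Lib.Helper62.SLN0

/-!
# SLNC sub-project (helper93, piece TOP-C of S2332): piece CARD1 `card_weights_one` (helper23),
from the general count `card_vanish` (CARD2 is in SLNC_CARD2.lean).
-/

set_option autoImplicit false
set_option linter.unusedSectionVars false

namespace Cfsg.Agent.Helper23.SLNC

open Matrix Module Cfsg.Agent.Helper93.U2 Cfsg.Agent.Helper62.SLN

section GRP

variable {F : Type*} [Field F] {κ : Type} [Fintype κ] [DecidableEq κ]

/-- the number of vectors vanishing on a set `S` of coordinates -/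
theorem card_vanish [Fintype F] [DecidableEq F] (S : Finset κ) :
    (Finset.univ.filter (fun w : κ → F => ∀ i ∈ S, w i = 0)).card =
      Fintype.card F ^ (Fintype.card κ - S.card) := by
  have h1 : Finset.univ.filter (fun w : κ → F => ∀ i ∈ S, w i = 0) =
      Fintype.piFinset (fun i => if i ∈ S then ({0} : Finset F) else Finset.univ) := by
    ext w
    simp only [Finset.mem_filter, Finset.mem_univ, true_and, Fintype.mem_piFinset]
    constructor
    · intro h i
      by_cases hi : i ∈ S
      · rw [if_pos hi, Finset.mem_singleton]
        exact h i hi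
      · rw [if_neg hi]
        exact Finset.mem_univ _
    · intro h i hi
      have h3 := h i
      rw [if_pos hi, Finset.mem_singleton] at h3
      exact h3
  rw [h1, Fintype.card_piFinset]
  have h2 : ∀ i : κ, (if i ∈ S then ({0} : Finset F) else Finset.univ).card =
      if i ∈ S then 1 else Fintype.card F := by
    intro i
    by_cases hi : i ∈ S
    · rw [if_pos hi, if_pos hi, Finset.card_singleton]
    · rw [if_neg hi, if_neg hi, Finset.card_univ]
  simp only [h2]
  rw [Finset.prod_ite, Finset.prod_const_one, one_mul, Finset.prod_const]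
  congr 1
  rw [← Finset.card_compl]
  congr 1
  ext i
  simp

/-- piece CARD1 [S-M] -/
theorem card_weights_one [Fintype F] [DecidableEq F] (j : κ) :
    (Finset.univ.filter (fun w : κ → F => w j = 0 ∧ w ≠ 0)).card =
      Fintype.card F ^ (Fintype.card κ - 1) - 1 := by
  have h := card_vanish (F := F) ({j} : Finset κ)
  rw [Finset.card_singleton] at h
  rw [← h]
  have h2 : Finset.univ.filter (fun w : κ → F => w j = 0 ∧ w ≠ 0) =
      (Finset.univ.filter (fun w : κ → F => ∀ i ∈ ({j} : Finset κ), w i = 0)).erase 0 := by
    ext w
    simp [and_comm]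
  rw [h2, Finset.card_erase_of_mem]
  simp

end GRP

end Cfsg.Agent.Helper23.SLNC
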