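import Mathlib
import Cfsg.Agent.Lib.Helper62.SLN0
import Cfsg.Agent.Lib.Helper23.SLNC_CARD1

/-!
# SLNC sub-project (helper93, piece TOP-C of S2332): piece CARD2 `card_weights_two` (helper23)
-/

set_option autoImplicit false
set_option linter.unusedSectionVars false

namespace Cfsg.Agent.Helper23.SLNC

open Matrix Module Cfsg.Agent.Helper93.U2 Cfsg.Agent.Helper62.SLN

section GRP

variable {F : Type*} [Field F] {κ : Type} [Fintype κ] [DecidableEq κ]

/-- piece CARD2 [S-M] -/
theorem card_weights_two [Fintype F] [DecidableEq F] (j jn : κ) (h : j ≠ jn) :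
    (Finset.univ.filter (fun w : κ → F => w j = 0 ∧ w jn = 0 ∧ w ≠ 0)).card =
      Fintype.card F ^ (Fintype.card κ - 2) - 1 := by
  have h1 := card_vanish (F := F) ({j, jn} : Finset κ)
  rw [Finset.card_pair h] at h1
  rw [← h1]
  have h2 : Finset.univ.filter (fun w : κ → F => w j = 0 ∧ w jn = 0 ∧ w ≠ 0) =
      (Finset.univ.filter (fun w : κ → F => ∀ i ∈ ({j, jn} : Finset κ), w i = 0)).erase 0 := by
    ext w
    simp only [Finset.mem_filter, Finset.mem_univ, true_and, Finset.mem_erase, Finset.mem_insert,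
      Finset.mem_singleton, forall_eq_or_imp, forall_eq]
    tauto
  rw [h2, Finset.card_erase_of_mem]
  simp

end GRP

end Cfsg.Agent.Helper23.SLNC
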