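import Mathlib
import Cfsg.Agent.Lib.Helper62.SLN0

/-!
# SLNC sub-project (helper93, piece TOP-C of S2332): piece UP `upper_bound` (helper23)
-/

set_option autoImplicit false
set_option linter.unusedSectionVars false
set_option linter.unusedVariables false

namespace Cfsg.Agent.Helper23.SLNC

open Matrix Module Cfsg.Agent.Helper93.U2 Cfsg.Agent.Helper62.SLN

section SLN

variable {F : Type*} [Field F] [Fintype F] [DecidableEq F] {κ : Type} [Fintype κ] [DecidableEq κ]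
  {V : Type*} [AddCommGroup V] [Module ℂ V] [FiniteDimensional ℂ V]
  (ψ : AddChar F ℂ) (pr : Pairing (κ → F)) (hpr : ∀ w u, pr.β w u = ψ (w ⬝ᵥ u))
  (ρ : Representation ℂ (SpecialLinearGroup (Unit ⊕ κ) F) V)

include hpr

omit [DecidableEq F] in
/-- piece UP [M]: the upper bound.  LIN (passed as `hlin`) with `X = fixSp (U₀ ∪ Q)`, `Y = fixSp U₀`, `W = wt 0`
(`wt 0 ≤ fixSp U₀` by `Pairing_zero_left`; `X ⊓ W ≤ fixSp Q ⊓ W`); S7 passed as `hS7`. -/
theorem upper_bound (j : κ)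
    (hlin : ∀ X Y W : Submodule ℂ V, X ≤ Y → W ≤ Y →
      finrank ℂ X + finrank ℂ W ≤ finrank ℂ (X ⊓ W : Submodule ℂ V) + finrank ℂ Y)
    (hS7 : finrank ℂ (fixSp ρ (U0set (F := F) j)) =
      finrank ℂ (wt pr ρ 0) + (Fintype.card F - 1) * 1) :
    finrank ℂ (fixSp ρ (U0set (F := F) j ∪ Qset (F := F) j)) ≤
      finrank ℂ (fixSp ρ (Qset (F := F) j) ⊓ wt pr ρ 0 : Submodule ℂ V) + (Fintype.card F - 1) := by
  have hXY : fixSp ρ (U0set (F := F) j ∪ Qset (F := F) j) ≤ fixSp ρ (U0set (F := F) j) := by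
    intro v hv g hg
    exact hv g (Or.inl hg)
  have hWY : wt pr ρ 0 ≤ fixSp ρ (U0set (F := F) j) := by
    intro v hv g hg
    obtain ⟨b, _, rfl⟩ := hg
    have h1 : ρ (uEl b) v = pr.β 0 b • v := hv b
    rw [h1, pr.symm, pr.zero_right, one_smul]
  have h1 := hlin _ _ _ hXY hWY
  have hXW : (fixSp ρ (U0set (F := F) j ∪ Qset (F := F) j) ⊓ wt pr ρ 0 : Submodule ℂ V) ≤
      (fixSp ρ (Qset (F := F) j) ⊓ wt pr ρ 0 : Submodule ℂ V) := by
    apply inf_le_inf_right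
    intro v hv g hg
    exact hv g (Or.inr hg)
  have h2 := Submodule.finrank_mono hXW
  rw [hS7] at h1
  omega

end SLN

end Cfsg.Agent.Helper23.SLNC
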