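import Mathlib
import Cfsg.Agent.Lib.Helper2.SR0

/-!
# SR project (S2281), block K, pieces K1 -- K7 (helper23), self-contained over `Helper2.SR0`

The block A facts that are needed (A2, A3, A5, A6, A7) are proved inline under the names
`orb_act_mem`, `tv_of_orb_mem`, `QQ_zero_mem`, `QQ_add_mem`, `QQ_neg_mem`, `QQ_stab_mem`,
`QQ_tv_mem`.  Then K1 `orb_basic`, K2 `seed`, K3 `pingpong`, K4 `lin_e1`, K5 `QQ_full`,
K6 `orb_e1_add`, K7 `orb_smul_p`, names and statements verbatim from the sigs file.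
-/

set_option autoImplicit false
set_option linter.unusedSectionVars false

namespace Cfsg.Agent.Helper23.SR

open Matrix Cfsg Cfsg.Agent.Helper13 Cfsg.Agent.Helper84.SpRoot Cfsg.Agent.Helper5.SpAut
open Cfsg.Agent.Helper2.SR

section A
variable {F : Type*} [Field F] {n : ℕ}
  {H : Subgroup (Matrix.symplecticGroup (Fin n) F)} {e0 : Fin n ⊕ Fin n → F}

theorem orb_act_mem {x : Fin n ⊕ Fin n → F} (hx : x ∈ Orb H e0)
    {h : Matrix.symplecticGroup (Fin n) F} (hh : h ∈ H) : h.val *ᵥ x ∈ Orb H e0 := by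
  obtain ⟨g, hg, hge⟩ := hx
  exact ⟨h * g, H.mul_mem hh hg, by rw [mul_act, hge]⟩

theorem tv_of_orb_mem {x : Fin n ⊕ Fin n → F} (hx : x ∈ Orb H e0) {c : F} (hc : c ∈ MM H e0) :
    sympT x c ∈ H := by
  obtain ⟨g, hg, hge⟩ := hx
  rw [← hge, ← conj_sympT]
  exact H.mul_mem (H.mul_mem hg hc) (H.inv_mem hg)

theorem QQ_zero_mem : (0 : Fin n ⊕ Fin n → F) ∈ QQ H e0 :=
  ⟨sympForm_zero_left e0, 0, by rw [eich_one]; exact H.one_mem⟩

theorem QQ_add_mem {w w' : Fin n ⊕ Fin n → F} (hw : w ∈ QQ H e0) (hw' : w' ∈ QQ H e0) :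
    w + w' ∈ QQ H e0 := by
  obtain ⟨h1, c, hc⟩ := hw
  obtain ⟨h2, c', hc'⟩ := hw'
  refine ⟨by rw [sympForm_add_left, h1, h2, add_zero], c + c' + Cfsg.sympForm n F w' w, ?_⟩
  rw [← eich_mul h1 h2]
  exact H.mul_mem hc hc'

theorem QQ_neg_mem {w : Fin n ⊕ Fin n → F} (hw : w ∈ QQ H e0) : -w ∈ QQ H e0 := by
  obtain ⟨h1, c, hc⟩ := hw
  have h2 : Cfsg.sympForm n F (-w) e0 = 0 := by rw [sympForm_neg_left, h1, neg_zero]
  refine ⟨h2, -c, ?_⟩
  have h3 : eich e0 w c * eich e0 (-w) (-c) = 1 := by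
    rw [eich_mul h1 h2, add_neg_cancel, sympForm_neg_left, sympForm_self, add_neg_cancel,
      neg_zero, add_zero, eich_one]
  rw [← inv_eq_of_mul_eq_one_right h3]
  exact H.inv_mem hc

theorem QQ_stab_mem {w : Fin n ⊕ Fin n → F} (hw : w ∈ QQ H e0)
    {h : Matrix.symplecticGroup (Fin n) F} (hh : h ∈ H) (hfix : h.val *ᵥ e0 = e0) :
    h.val *ᵥ w ∈ QQ H e0 := by
  obtain ⟨h1, c, hc⟩ := hw
  refine ⟨?_, c, ?_⟩
  · have h4 : Cfsg.sympForm n F (h.val *ᵥ w) (h.val *ᵥ e0) = 0 := by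
      rw [sympForm_mulVec h.2, h1]
    rw [hfix] at h4
    exact h4
  · have h5 := conj_eich h h1 c
    rw [hfix] at h5
    rw [← h5]
    exact H.mul_mem (H.mul_mem hh hc) (H.inv_mem hh)

theorem QQ_tv_mem {w y : Fin n ⊕ Fin n → F} (hw : w ∈ QQ H e0) (hy : y ∈ Orb H e0)
    (hy0 : Cfsg.sympForm n F y e0 = 0) {c : F} (hc : c ∈ MM H e0) :
    (c * Cfsg.sympForm n F w y) • y ∈ QQ H e0 := by
  have hT : sympT y c ∈ H := tv_of_orb_mem hy hc
  have hfix : (sympT y c).val *ᵥ e0 = e0 := by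
    rw [sympT_act, orth_symm hy0, mul_zero, zero_smul, add_zero]
  have h1 := QQ_add_mem (QQ_stab_mem hw hT hfix) (QQ_neg_mem hw)
  have h2 : (sympT y c).val *ᵥ w + -w = (c * Cfsg.sympForm n F w y) • y := by
    rw [sympT_act]
    abel
  rw [← h2]
  exact h1

end A

section K
variable {F : Type*} [Field F] {n : ℕ}
  {H : Subgroup (Matrix.symplecticGroup (Fin n) F)} {u l : Matrix.symplecticGroup (Fin n) F}
  {e0 e1 p : Fin n ⊕ Fin n → F} {κ γ : F}

theorem linv_e1 (hyp : Hyp H u l e0 e1 p κ γ) : (l⁻¹).val *ᵥ e1 = e0 := by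
  rw [← hyp.le0, inv_mulVec_mulVec]

theorem linv_e0 (hyp : Hyp H u l e0 e1 p κ γ) : (l⁻¹).val *ᵥ e0 = p := by
  have h := inv_mulVec_mulVec l p
  rw [hyp.lp] at h
  exact h

theorem form_p_e1 (hyp : Hyp H u l e0 e1 p κ γ) : Cfsg.sympForm n F p e1 = -γ := by
  rw [sympForm_swap, hyp.e1p]

/-- (K1) `e1 = l e0`, `e1 + e0 = u e1`, `p = l⁻¹ e0` -/
theorem orb_basic (hyp : Hyp H u l e0 e1 p κ γ) :
    e1 ∈ Orb H e0 ∧ e1 + e0 ∈ Orb H e0 ∧ p ∈ Orb H e0 := by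
  refine ⟨⟨l, hyp.hl, hyp.le0⟩, ⟨u * l, H.mul_mem hyp.hu hyp.hl, ?_⟩,
    ⟨l⁻¹, H.inv_mem hyp.hl, linv_e0 hyp⟩⟩
  rw [mul_act, hyp.le0, hyp.ue1]

/-- (K2) `sympT (e1 + e0) c * sympT e1 (-c) = eich e0 (c • e1) c` -/
theorem seed (hyp : Hyp H u l e0 e1 p κ γ) {c : F} (hc : c ∈ MM H e0) :
    c • e1 ∈ QQ H e0 := by
  have hw : Cfsg.sympForm n F (c • e1) e0 = 0 := by
    rw [sympForm_smul_left, hyp.e1e0, mul_zero]
  refine ⟨hw, c, ?_⟩
  have hid : sympT (e1 + e0) c * sympT e1 (-c) = eich e0 (c • e1) c := by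
    apply sp_ext
    intro x
    rw [mul_act, sympT_act, sympT_act, eich_act hw]
    simp only [sympForm_add_left, sympForm_add_right, sympForm_smul_left, sympForm_smul_right,
      sympForm_self, hyp.e1e0]
    module
  rw [← hid]
  have h1 : sympT (e1 + e0) c ∈ H := tv_of_orb_mem (orb_basic hyp).2.1 hc
  have h2 : sympT e1 c ∈ H := tv_of_orb_mem (orb_basic hyp).1 hc
  rw [← sympT_inv]
  exact H.mul_mem h1 (H.inv_mem h2)

/-- (K3) ping-pong between `p` and `e1` -/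
theorem pingpong (hyp : Hyp H u l e0 e1 p κ γ) : ∀ a : F, a • p ∈ QQ H e0 := by
  let S : AddSubgroup F :=
    { carrier := {a | a • p ∈ QQ H e0}
      zero_mem' := by
        show (0 : F) • p ∈ QQ H e0
        rw [zero_smul]
        exact QQ_zero_mem
      add_mem' := by
        intro a b ha hb
        show (a + b) • p ∈ QQ H e0
        rw [add_smul]
        exact QQ_add_mem ha hb
      neg_mem' := by
        intro a ha
        show (-a) • p ∈ QQ H e0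
        rw [neg_smul]
        exact QQ_neg_mem ha }
  have hκ : κ ∈ MM H e0 := hyp.hκ
  have hp : p ∈ Orb H e0 := (orb_basic hyp).2.2
  have he1 : e1 ∈ Orb H e0 := (orb_basic hyp).1
  have h0 : κ ^ 2 * γ ∈ S := by
    show (κ ^ 2 * γ) • p ∈ QQ H e0
    have h1 := QQ_tv_mem (seed hyp hκ) hp hyp.pe0 hκ
    rw [sympForm_smul_left, hyp.e1p] at h1
    have h2 : κ * (κ * γ) = κ ^ 2 * γ := by ring
    rw [h2] at h1
    exact h1
  have hne : κ ^ 2 * γ ≠ 0 := mul_ne_zero (pow_ne_zero 2 hyp.κ0) hyp.γ0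
  have hstab : ∀ a ∈ S, (κ * γ) ^ 2 * a ∈ S := by
    intro a ha
    show ((κ * γ) ^ 2 * a) • p ∈ QQ H e0
    have ha' : a • p ∈ QQ H e0 := ha
    have h1 := QQ_tv_mem ha' he1 hyp.e1e0 hκ
    have h2 := QQ_tv_mem h1 hp hyp.pe0 hκ
    rw [sympForm_smul_left, sympForm_smul_left, hyp.e1p, form_p_e1 hyp] at h2
    have h3 := QQ_neg_mem h2
    rw [← neg_smul] at h3
    have h4 : -(κ * (κ * (a * -γ) * γ)) = (κ * γ) ^ 2 * a := by ring
    rw [h4] at h3
    exact h3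
  have htop : S = ⊤ := hyp.gen S ⟨κ ^ 2 * γ, h0, hne⟩ hstab
  intro a
  have ha : a ∈ S := by rw [htop]; exact AddSubgroup.mem_top a
  exact ha

/-- (K4) from K3 and A7 with `y = e1` -/
theorem lin_e1 (hyp : Hyp H u l e0 e1 p κ γ) : ∀ a : F, a • e1 ∈ QQ H e0 := by
  intro b
  have hκ : κ ∈ MM H e0 := hyp.hκ
  have h1 := QQ_tv_mem (pingpong hyp (-(b / (κ * γ)))) (orb_basic hyp).1 hyp.e1e0 hκ
  rw [sympForm_smul_left, form_p_e1 hyp] at h1
  have h2 : κ * (-(b / (κ * γ)) * -γ) = b := by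
    have := hyp.κ0
    have := hyp.γ0
    field_simp
  rw [h2] at h1
  exact h1

/-- (K5) `{w | ∀ a, a • w ∈ QQ}` is a `u`-stable subspace containing `p`; `hyp.cyc` -/
theorem QQ_full (hyp : Hyp H u l e0 e1 p κ γ) :
    ∀ w : Fin n ⊕ Fin n → F, Cfsg.sympForm n F w e0 = 0 → w ∈ QQ H e0 := by
  let S : Submodule F (Fin n ⊕ Fin n → F) :=
    { carrier := {w | ∀ a : F, a • w ∈ QQ H e0}
      zero_mem' := by
        intro a
        rw [smul_zero]
        exact QQ_zero_mem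
      add_mem' := by
        intro w w' hw hw' a
        rw [smul_add]
        exact QQ_add_mem (hw a) (hw' a)
      smul_mem' := by
        intro b w hw a
        rw [smul_smul]
        exact hw (a * b) }
  have hpS : p ∈ S := pingpong hyp
  have hstab : ∀ x ∈ S, u.val *ᵥ x ∈ S := by
    intro x hx a
    rw [← Matrix.mulVec_smul]
    exact QQ_stab_mem (hx a) hyp.hu hyp.ue0
  intro w hw
  have hwS : w ∈ S := hyp.cyc S hpS hstab w hw
  have h1 := hwS 1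
  rw [one_smul] at h1
  exact h1

/-- (K6) `eich e0 w c ∈ H` with `w = (a/γ) • p` maps `e1` to `e1 + a • e0` -/
theorem orb_e1_add (hyp : Hyp H u l e0 e1 p κ γ) : ∀ a : F, e1 + a • e0 ∈ Orb H e0 := by
  intro a
  obtain ⟨hw, c, hc⟩ := pingpong hyp (a / γ)
  have h1 := orb_act_mem (orb_basic hyp).1 hc
  rw [eich_act hw, hyp.e1e0, sympForm_smul_right, hyp.e1p, div_mul_cancel₀ _ hyp.γ0, zero_smul,
    mul_zero, zero_smul, add_zero, add_zero] at h1
  exact h1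

/-- (K7) `l⁻¹ (e1 + a • e0) = e0 + a • p`, then `eich e0 w c` with `w = (a γ)⁻¹ • e1` -/
theorem orb_smul_p (hyp : Hyp H u l e0 e1 p κ γ) : ∀ a : F, a ≠ 0 → a • p ∈ Orb H e0 := by
  intro a ha
  have h1 := orb_act_mem (orb_e1_add hyp a) (H.inv_mem hyp.hl)
  rw [Matrix.mulVec_add, Matrix.mulVec_smul, linv_e1 hyp, linv_e0 hyp] at h1
  obtain ⟨hw, c, hc⟩ := lin_e1 hyp ((a * γ)⁻¹)
  have h2 := orb_act_mem h1 hc
  have hx0 : Cfsg.sympForm n F (e0 + a • p) e0 = 0 := by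
    rw [sympForm_add_left, sympForm_self, sympForm_smul_left, hyp.pe0, mul_zero, add_zero]
  have hxw : Cfsg.sympForm n F (e0 + a • p) ((a * γ)⁻¹ • e1) = -1 := by
    rw [sympForm_add_left, sympForm_smul_right, sympForm_smul_right, sympForm_smul_left,
      orth_symm hyp.e1e0, form_p_e1 hyp]
    have := hyp.γ0
    field_simp
    ring
  rw [eich_act hw, hx0, hxw] at h2
  have h3 : e0 + a • p + (0 : F) • (a * γ)⁻¹ • e1 + (-1 : F) • e0 + (c * 0) • e0 = a • p := by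
    module
  rw [h3] at h2
  exact h2

end K

end Cfsg.Agent.Helper23.SR
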