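import Mathlib
import Cfsg.Agent.Lib.Helper2.SR0
import Cfsg.Agent.Lib.Helper23.SRK3
import Cfsg.Agent.Lib.Helper23.SRKTail
import Cfsg.Agent.Lib.Helper94.SRK9a

/-!
# SR project (S2281), block K, pieces K8 -- K14 (helper23), verbatim

K8 `MM_sq`, K9 `MM_top` (with helper94's K9a `sq_span`), K10 `Q_le`, K11 `orb_out`, K12 `WW_out`,
K13 `WW_all`, K14 `core_top`: names and statements verbatim from the sigs file.
-/

set_option autoImplicit false
set_option linter.unusedSectionVars false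

namespace Cfsg.Agent.Helper23.SR

open Matrix Cfsg Cfsg.Agent.Helper13 Cfsg.Agent.Helper84.SpRoot Cfsg.Agent.Helper5.SpAut
open Cfsg.Agent.Helper2.SR

section K
variable {F : Type*} [Field F] {n : ℕ}
  {H : Subgroup (Matrix.symplecticGroup (Fin n) F)} {u l : Matrix.symplecticGroup (Fin n) F}
  {e0 e1 p : Fin n ⊕ Fin n → F} {κ γ : F}

/-- (K8) `sympT (a • p) κ = sympT p (κ a²)`, conjugate by `l` -/
theorem MM_sq (hyp : Hyp H u l e0 e1 p κ γ) : ∀ a : F, κ * a ^ 2 ∈ MM H e0 := by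
  intro a
  show sympT e0 (κ * a ^ 2) ∈ H
  by_cases ha : a = 0
  · have h0 : κ * a ^ 2 = 0 := by rw [ha]; ring
    rw [h0, sympT_zero]
    exact H.one_mem
  · have hκ : κ ∈ MM H e0 := hyp.hκ
    have h1 : sympT (a • p) κ ∈ H := tv_of_orb_mem (orb_smul_p hyp a ha) hκ
    rw [sympT_smul] at h1
    have h2 := conj_sympT l p (κ * a ^ 2)
    rw [hyp.lp] at h2
    rw [← h2]
    exact H.mul_mem (H.mul_mem hyp.hl h1) (H.inv_mem hyp.hl)

/-- (K9) -/
theorem MM_top [Finite F] (hyp : Hyp H u l e0 e1 p κ γ) : ∀ c : F, c ∈ MM H e0 := by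
  let S : AddSubgroup F :=
    { carrier := {c | sympT e0 (κ * c) ∈ H}
      zero_mem' := by
        show sympT e0 (κ * 0) ∈ H
        rw [mul_zero, sympT_zero]
        exact H.one_mem
      add_mem' := by
        intro a b ha hb
        show sympT e0 (κ * (a + b)) ∈ H
        rw [mul_add, ← sympT_mul]
        exact H.mul_mem ha hb
      neg_mem' := by
        intro a ha
        show sympT e0 (κ * -a) ∈ H
        rw [mul_neg, ← sympT_inv]
        exact H.inv_mem ha }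
  have htop : S = ⊤ := Cfsg.Agent.Helper94.SR.sq_span S (fun a => MM_sq hyp a)
  intro c
  have h1 : c / κ ∈ S := by rw [htop]; exact AddSubgroup.mem_top _
  have h2 : sympT e0 (κ * (c / κ)) ∈ H := h1
  have h3 : κ * (c / κ) = c := by
    have := hyp.κ0
    field_simp
  rw [h3] at h2
  exact h2

/-- (K10) `eich e0 w c = eich e0 w c' * sympT e0 (c - c')` -/
theorem Q_le [Finite F] (hyp : Hyp H u l e0 e1 p κ γ) :
    ∀ (w : Fin n ⊕ Fin n → F) (c : F), Cfsg.sympForm n F w e0 = 0 → eich e0 w c ∈ H :=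
  Q_le_of (QQ_full hyp) (MM_top hyp)

/-- (K11) `w0 = l e1 ∈ Orb`, `Q_{e0}` is transitive on `{v | ω v e0 = ω w0 e0}` -/
theorem orb_out [Finite F] (hyp : Hyp H u l e0 e1 p κ γ) :
    ∀ v : Fin n ⊕ Fin n → F, Cfsg.sympForm n F v e0 ≠ 0 → ∃ t : F, t ≠ 0 ∧ t • v ∈ Orb H e0 :=
  orb_out_of hyp (Q_le hyp)

/-- (K12) -/
theorem WW_out [Finite F] (hyp : Hyp H u l e0 e1 p κ γ) :
    ∀ v : Fin n ⊕ Fin n → F, Cfsg.sympForm n F v e0 ≠ 0 → v ∈ WW H :=
  WW_out_of hyp (MM_top hyp) (Q_le hyp)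

/-- (K13) `v = y + (v - y)` with `ω y e0 ≠ 0`, `ω y v ≠ 0` -/
theorem WW_all [Finite F] (hyp : Hyp H u l e0 e1 p κ γ) :
    ∀ v : Fin n ⊕ Fin n → F, v ≠ 0 → v ∈ WW H :=
  WW_all_of hyp (MM_top hyp) (Q_le hyp)

/-- (K14) `Cfsg.Agent.S0765.result` -/
theorem core_top [Finite F] (hyp : Hyp H u l e0 e1 p κ γ) : H = ⊤ :=
  core_top_of hyp (MM_top hyp) (Q_le hyp)

end K

end Cfsg.Agent.Helper23.SR
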