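import Mathlib
import Cfsg.Prelude.Def_Transfer
import Cfsg.Agent.Lib.Helper2.Frobenius
import Cfsg.Agent.Lib.Helper23.Large
import Cfsg.Agent.Lib.Helper23.NPC
import Cfsg.Agent.Lib.Helper23.ThompsonJ

set_option autoImplicit false

namespace Cfsg.Agent.Helper23

open Cfsg Cfsg.Agent.Helper2

variable {G : Type*} [Group G] [Finite G] {p : ℕ} [hp : Fact p.Prime]

theorem index_eq_relIndex_of_sup_eq_top (H K : Subgroup G) [K.Normal] (h : H ⊔ K = ⊤) :
    H.index = (H ⊓ K).relIndex K := by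
  have a1 : K.relIndex H = K.index := by
    rw [← Subgroup.relIndex_sup_right H K, h, Subgroup.relIndex_top_right]
  have a2 : Nat.card ↥(H ⊓ K) * K.relIndex H = Nat.card H := by
    have := card_mul_relIndex' (inf_le_left : H ⊓ K ≤ H)
    rwa [Subgroup.inf_relIndex_left] at this
  have a3 := H.card_mul_index
  have a4 := K.card_mul_index
  have a5 := card_mul_relIndex' (inf_le_right : H ⊓ K ≤ K)
  have hpos1 : 0 < Nat.card ↥(H ⊓ K) := Nat.card_pos
  have hpos2 : 0 < K.index := Nat.pos_of_ne_zero Subgroup.index_ne_zero_of_finite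
  rw [a1] at a2
  have e : (Nat.card ↥(H ⊓ K) * K.index) * H.index =
      (Nat.card ↥(H ⊓ K) * K.index) * (H ⊓ K).relIndex K := by
    calc (Nat.card ↥(H ⊓ K) * K.index) * H.index = Nat.card ↥H * H.index := by rw [a2]
      _ = Nat.card ↥K * K.index := by rw [a3, a4]
      _ = (Nat.card ↥(H ⊓ K) * (H ⊓ K).relIndex K) * K.index := by rw [a5]
      _ = _ := by ring
  exact Nat.eq_of_mul_eq_mul_left (Nat.mul_pos hpos1 hpos2) e

theorem isPGroup_of_forall_coprime_eq_one (Y : Subgroup G)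
    (h : ∀ y ∈ Y, (orderOf y).Coprime p → y = 1) : IsPGroup p Y := by
  intro y
  refine ⟨(orderOf (y : G)).factorization p, ?_⟩
  have h1 := coprime_orderOf_pow_ordProj (p := p) (y : G)
  have h2 := h _ (Y.pow_mem y.2 _) h1
  exact Subtype.ext (by rw [Subgroup.coe_pow, h2, Subgroup.coe_one])

theorem eq_one_of_mem_of_coprime {X : Subgroup G} (hX : IsPGroup p X) {x : G} (hx : x ∈ X)
    (hc : (orderOf x).Coprime p) : x = 1 := by
  obtain ⟨k, hk⟩ := hX ⟨x, hx⟩
  have hk' : x ^ p ^ k = 1 := by simpa using congrArg Subtype.val hk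
  have hdvd := orderOf_dvd_of_pow_eq_one hk'
  have h1 := Nat.Coprime.eq_one_of_dvd (Nat.Coprime.pow_right k hc) hdvd
  exact orderOf_eq_one_iff.mp h1

theorem le_of_isPGroup_of_relIndex_coprime {X K Q : Subgroup G} [X.Normal]
    (hXp : IsPGroup p X) (hXK : X ≤ K) (hrel : (X.relIndex K).Coprime p) (hQ : IsPGroup p Q)
    (hQK : Q ≤ K) : Q ≤ X := by
  have hQ' : IsPGroup p ↥(X ⊔ Q) := hXp.to_sup_of_normal_left hQ
  have h1 : X.relIndex (X ⊔ Q) ∣ X.relIndex K := by
    have := Subgroup.relIndex_mul_relIndex X (X ⊔ Q) K le_sup_left (sup_le hXK hQK)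
    exact Dvd.intro _ this
  obtain ⟨a, ha⟩ := IsPGroup.iff_card.mp hQ'
  have h2 : X.relIndex (X ⊔ Q) ∣ p ^ a := ha ▸ Subgroup.relIndex_dvd_card X (X ⊔ Q)
  obtain ⟨b, -, hb⟩ := (Nat.dvd_prime_pow hp.out).mp h2
  have h3 : (X.relIndex (X ⊔ Q)).Coprime p := Nat.Coprime.coprime_dvd_left h1 hrel
  have hb0 : b = 0 := by
    by_contra hb0
    rw [hb, Nat.coprime_pow_left_iff (Nat.pos_of_ne_zero hb0), Nat.coprime_self] at h3
    exact hp.out.one_lt.ne' h3
  rw [hb0, pow_zero] at hb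
  exact le_sup_right.trans (Subgroup.relIndex_eq_one.mp hb)

theorem isPGroup_of_inf_isPGroup (K M : Subgroup G) [K.Normal] {j : ℕ} (hK : K.index = p ^ j)
    (h : IsPGroup p ↥(M ⊓ K)) : IsPGroup p ↥M := by
  obtain ⟨a, ha⟩ := IsPGroup.iff_card.mp h
  have h1 := card_mul_relIndex' (inf_le_left : M ⊓ K ≤ M)
  rw [Subgroup.inf_relIndex_left, ha] at h1
  have h2 : K.relIndex M ∣ p ^ j := hK ▸ Subgroup.relIndex_dvd_index_of_normal K M
  obtain ⟨b, -, hb⟩ := (Nat.dvd_prime_pow hp.out).mp h2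
  rw [hb, ← pow_add] at h1
  exact IsPGroup.of_card h1.symm

theorem centralizer_le_of_struct
    (hA : ∀ D : Subgroup G, D.Normal → (Nat.card D).Coprime p → D = ⊥)
    (X K : Subgroup G) [hXn : X.Normal] [hKn : K.Normal] (hXp : IsPGroup p X)
    (hXmax : ∀ Y : Subgroup G, Y.Normal → IsPGroup p Y → Y ≤ X)
    (hXK : X ≤ K) (hrel : (X.relIndex K).Coprime p) {j : ℕ} (hKidx : K.index = p ^ j) :
    Subgroup.centralizer (X : Set G) ≤ X := by
  set C := Subgroup.centralizer (X : Set G) with hC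
  have hCn : C.Normal := inferInstance
  set C₁ := C ⊓ K with hC₁
  have hC₁n : C₁.Normal := inferInstance
  set Z := X ⊓ C₁ with hZ
  have hZp : IsPGroup p ↥(Z.subgroupOf C₁) := (hXp.to_le inf_le_left).comap_subtype
  have hidx : ¬ p ∣ (Z.subgroupOf C₁).index := by
    change ¬ p ∣ Z.relIndex C₁
    rw [hZ, Subgroup.inf_relIndex_right]
    have h1 : X.relIndex C₁ ∣ X.relIndex K := by
      rw [← Subgroup.relIndex_sup_left C₁ X]
      have := Subgroup.relIndex_mul_relIndex X (X ⊔ C₁) K le_sup_left (sup_le hXK inf_le_right)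
      exact Dvd.intro _ this
    intro hdvd
    exact (Nat.Prime.coprime_iff_not_dvd hp.out).mp hrel.symm (hdvd.trans h1)
  have hcent : Subgroup.normalizer (((hZp.toSylow hidx : Sylow p ↥C₁) : Subgroup ↥C₁) : Set ↥C₁) ≤
      Subgroup.centralizer (((hZp.toSylow hidx : Sylow p ↥C₁) : Subgroup ↥C₁) : Set ↥C₁) := by
    intro c _
    rw [Subgroup.mem_centralizer_iff]
    intro z hz
    have hz' : z ∈ Z.subgroupOf C₁ := (IsPGroup.mem_toSylow hZp hidx).mp hz
    have hzX : (z : G) ∈ X := (Subgroup.mem_subgroupOf.mp hz').1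
    have hcC : (c : G) ∈ C := c.2.1
    apply Subtype.ext
    show (z : G) * c = c * z
    exact Subgroup.mem_centralizer_iff.mp hcC z hzX
  have hnpc : HasNormalPComplement p ↥C₁ :=
    hasNormalPComplement_of_normalizer_le_centralizer _ hcent
  have hC₁p : IsPGroup p ↥C₁ := isPGroup_of_normal_npc hA C₁ hnpc
  have hCp : IsPGroup p ↥C := isPGroup_of_inf_isPGroup K C hKidx hC₁p
  exact hXmax C hCn hCp

theorem eq_of_normal_between
    (hd : ∀ M : Subgroup G, M ≠ ⊤ → ¬ p ∣ M.index → HasNormalPComplement p ↥M)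
    (X K : Subgroup G) [hXn : X.Normal] [hKn : K.Normal] (hXp : IsPGroup p X)
    (hXmax : ∀ Y : Subgroup G, Y.Normal → IsPGroup p Y → Y ≤ X)
    (hCX : Subgroup.centralizer (X : Set G) ≤ X)
    (hXK : X ≤ K) (hrel : (X.relIndex K).Coprime p)
    (Y : Subgroup G) [hYn : Y.Normal] (hXY : X ≤ Y) (hYK : Y ≤ K) (hne : Y ≠ K) : Y = X := by
  let P : Sylow p G := default
  set M₀ := Y ⊔ (P : Subgroup G) with hM₀
  have hM₀top : M₀ ≠ ⊤ := by
    intro htop
    apply hne
    apply le_antisymm hYK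
    intro k hk
    have hk' : k ∈ Y ⊔ (P : Subgroup G) := by rw [← hM₀, htop]; exact Subgroup.mem_top k
    obtain ⟨y, hy, u, hu, rfl⟩ := Subgroup.mem_sup_of_normal_left.mp hk'
    have huK : u ∈ K := by
      have := K.mul_mem (K.inv_mem (hYK hy)) hk
      rwa [inv_mul_cancel_left] at this
    have huX : u ∈ X :=
      le_of_isPGroup_of_relIndex_coprime hXp hXK hrel (P.isPGroup'.to_le inf_le_right) inf_le_left
        (Subgroup.mem_inf.mpr ⟨huK, hu⟩)
    exact Y.mul_mem hy (hXY huX)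
  have hM₀idx : ¬ p ∣ M₀.index := fun h =>
    P.not_dvd_index (h.trans (Subgroup.index_dvd_of_le le_sup_right))
  have hnpc := hd M₀ hM₀top hM₀idx
  have hYp : IsPGroup p ↥Y := by
    apply isPGroup_of_forall_coprime_eq_one
    intro y hy hyo
    have h1 : y ∈ Subgroup.centralizer (X : Set G) :=
      mem_centralizer_of_npc hnpc hXp (hXY.trans le_sup_left)
        (by rw [Subgroup.normalizer_eq_top]; exact le_top) (le_sup_left (a := Y) hy) hyo
    exact eq_one_of_mem_of_coprime hXp (hCX h1) hyo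
  exact le_antisymm (hXmax Y hYn hYp) hXY

theorem sup_normal_of_sup_normalizer_eq_top (X T₀ N₁ : Subgroup G) [hXn : X.Normal]
    (hN : N₁ ≤ Subgroup.normalizer (T₀ : Set G)) (htop : X ⊔ N₁ = ⊤) : (X ⊔ T₀).Normal := by
  rw [← Subgroup.normalizer_eq_top_iff, eq_top_iff, ← htop]
  apply sup_le
  · exact le_sup_left.trans Subgroup.le_normalizer
  · intro g hg
    rw [mem_normalizer_iff_cj_eq]
    have h1 : cj X g = X :=
      cj_eq_of_mem_normalizer (by rw [Subgroup.normalizer_eq_top]; trivial)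
    have h2 : cj T₀ g = T₀ := cj_eq_of_mem_normalizer (hN hg)
    show (X ⊔ T₀).map (MulAut.conj g).toMonoidHom = X ⊔ T₀
    rw [Subgroup.map_sup]
    exact congrArg₂ (· ⊔ ·) h1 h2

end Cfsg.Agent.Helper23
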