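import Mathlib
import Cfsg.Prelude.Def_Transfer
import Cfsg.Agent.Lib.Helper23.ThompsonPC1

set_option autoImplicit false

namespace Cfsg.Agent.Helper23

open Cfsg Cfsg.Agent.Helper2

open scoped commutatorElement

variable {G : Type*} [Group G] [Finite G] {p : ℕ} [hp : Fact p.Prime]

/-- In a minimal counterexample: `K = X T` with `T` an abelian `p'`-group. -/
theorem exists_abelian_struct
    (hd : ∀ M : Subgroup G, M ≠ ⊤ → ¬ p ∣ M.index → HasNormalPComplement p ↥M)
    (X K : Subgroup G) [hXn : X.Normal] [hKn : K.Normal] (hXp : IsPGroup p X)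
    (hXmax : ∀ Y : Subgroup G, Y.Normal → IsPGroup p Y → Y ≤ X)
    (hCX : Subgroup.centralizer (X : Set G) ≤ X)
    (hXK : X ≤ K) (hrel : (X.relIndex K).Coprime p) {j : ℕ} (hKidx : K.index = p ^ j)
    (hG : ¬ HasNormalPComplement p G) :
    ∃ T : Subgroup G, (Nat.card T).Coprime p ∧ T ≠ ⊥ ∧ X ⊔ T = K ∧
      (∀ s ∈ T, ∀ t ∈ T, s * t = t * s) := by
  obtain ⟨a, ha⟩ := IsPGroup.iff_card.mp hXp
  have hKX : ¬ K ≤ X := by
    intro h
    have hKX' : K = X := le_antisymm h hXK
    apply hG
    apply hasNPC_of_isPGroup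
    have h1 := K.card_mul_index
    rw [hKidx, hKX', ha, ← pow_add] at h1
    exact IsPGroup.of_card h1.symm
  have hrel1 : X.relIndex K ≠ 1 := fun h => hKX (Subgroup.relIndex_eq_one.mp h)
  obtain ⟨q, hq, hqdvd⟩ := Nat.exists_prime_and_dvd hrel1
  have hqp : q ≠ p := by
    rintro rfl
    exact (Nat.Prime.coprime_iff_not_dvd hp.out).mp hrel.symm hqdvd
  haveI : Fact q.Prime := ⟨hq⟩
  have hqK : q ∣ Nat.card K := hqdvd.trans (Subgroup.relIndex_dvd_card X K)
  let T' : Sylow q ↥K := default
  set T : Subgroup G := (T' : Subgroup ↥K).map K.subtype with hT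
  have hTK : T ≤ K := Subgroup.map_subtype_le _
  have hTq : IsPGroup q T := T'.isPGroup'.map _
  have hTcard : Nat.card T = q ^ (Nat.card K).factorization q := by
    rw [hT, Subgroup.card_map_of_injective K.subtype_injective, T'.card_eq_multiplicity]
  have hfpos : 0 < (Nat.card K).factorization q :=
    Nat.Prime.factorization_pos_of_dvd hq Nat.card_pos.ne' hqK
  have hTne : T ≠ ⊥ := by
    intro h
    rw [h, Subgroup.card_bot] at hTcard
    have := Nat.one_lt_pow hfpos.ne' hq.one_lt
    omega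
  have hTcop : (Nat.card T).Coprime p := by
    rw [hTcard]
    exact Nat.Coprime.pow_left _ ((Nat.coprime_primes hq hp.out).mpr hqp)
  have hXT : X ⊓ T = ⊥ := disjoint_iff.mp (Subgroup.disjoint_of_coprime_natCard (by
    rw [ha]; exact (Nat.Coprime.pow_right a hTcop).symm))
  have hTX : ¬ T ≤ X := by
    intro h
    apply hTne
    rw [eq_bot_iff, ← hXT]
    exact le_inf h le_rfl
  have hFr : Subgroup.normalizer (T : Set G) ⊔ K = ⊤ := Sylow.normalizer_sup_eq_top T'
  set M₁ := X ⊔ Subgroup.normalizer (T : Set G) with hM₁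
  have hM₁K : M₁ ⊔ K = ⊤ := by
    rw [eq_top_iff, ← hFr]
    exact sup_le_sup_right le_sup_right K
  have hM₁idx : ¬ p ∣ M₁.index := by
    rw [index_eq_relIndex_of_sup_eq_top M₁ K hM₁K]
    have h1 : (M₁ ⊓ K).relIndex K ∣ X.relIndex K := by
      have := Subgroup.relIndex_mul_relIndex X (M₁ ⊓ K) K (le_inf le_sup_left hXK) inf_le_right
      exact Dvd.intro_left _ this
    intro hdvd
    exact (Nat.Prime.coprime_iff_not_dvd hp.out).mp hrel.symm (hdvd.trans h1)
  have hTcoprime : ∀ t ∈ T, (orderOf t).Coprime p := by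
    intro t ht
    have h1 : orderOf t ∣ Nat.card T := by
      have : orderOf (⟨t, ht⟩ : T) ∣ Nat.card T := orderOf_dvd_natCard _
      rwa [← Subgroup.orderOf_coe] at this
    exact Nat.Coprime.coprime_dvd_left h1 hTcop
  have hM₁top : M₁ = ⊤ := by
    by_contra hne
    have hnpc := hd M₁ hne hM₁idx
    apply hTX
    intro t ht
    have htM : t ∈ M₁ := le_sup_right (a := X) (Subgroup.le_normalizer ht)
    have h1 : t ∈ Subgroup.centralizer (X : Set G) :=
      mem_centralizer_of_npc hnpc hXp le_sup_left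
        (by rw [Subgroup.normalizer_eq_top]; exact le_top) htM (hTcoprime t ht)
    exact hCX h1
  haveI hnorm1 : (X ⊔ T).Normal :=
    sup_normal_of_sup_normalizer_eq_top X T (Subgroup.normalizer (T : Set G)) le_rfl hM₁top
  have hXTK : X ⊔ T = K := by
    by_contra hne
    have h1 := eq_of_normal_between hd X K hXp hXmax hCX hXK hrel (X ⊔ T) le_sup_left
      (sup_le hXK hTK) hne
    apply hTX
    rw [← h1]
    exact le_sup_right
  refine ⟨T, hTcop, hTne, hXTK, ?_⟩
  -- commutativity
  set T₀ : Subgroup G := ⁅T, T⁆ with hT₀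
  have hT₀T : T₀ ≤ T := Subgroup.commutator_le.mpr (fun x hx y hy =>
    T.mul_mem (T.mul_mem (T.mul_mem hx hy) (T.inv_mem hx)) (T.inv_mem hy))
  have hN₀ : Subgroup.normalizer (T : Set G) ≤ Subgroup.normalizer (T₀ : Set G) := by
    intro g hg
    rw [mem_normalizer_iff_cj_eq] at hg ⊢
    have hg' : T.map (MulAut.conj g).toMonoidHom = T := hg
    show T₀.map (MulAut.conj g).toMonoidHom = T₀
    rw [hT₀, Subgroup.map_commutator, hg']
  haveI hnorm0 : (X ⊔ T₀).Normal :=
    sup_normal_of_sup_normalizer_eq_top X T₀ (Subgroup.normalizer (T : Set G)) hN₀ hM₁top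
  have hT₀bot : T₀ = ⊥ := by
    by_cases h0 : X ⊔ T₀ = K
    · exfalso
      have hTT₀ : T ≤ T₀ := by
        intro t ht
        have htK : t ∈ X ⊔ T₀ := by rw [h0]; exact hTK ht
        obtain ⟨x, hx, c, hc, rfl⟩ := Subgroup.mem_sup_of_normal_left.mp htK
        have hxT : x ∈ T := by
          have := T.mul_mem ht (T.inv_mem (hT₀T hc))
          rwa [mul_inv_cancel_right] at this
        have hx1 : x ∈ X ⊓ T := Subgroup.mem_inf.mpr ⟨hx, hxT⟩
        rw [hXT, Subgroup.mem_bot] at hx1
        rw [hx1, one_mul]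
        exact hc
      have h1 : (commutator ↥T).map T.subtype = T := by
        rw [Subgroup.map_subtype_commutator]
        exact le_antisymm hT₀T hTT₀
      have h2 : commutator ↥T = ⊤ := by
        apply Subgroup.map_injective T.subtype_injective
        rw [h1, ← MonoidHom.range_eq_map, Subgroup.range_subtype]
      haveI : Nontrivial ↥T := (Subgroup.nontrivial_iff_ne_bot T).mpr hTne
      haveI : Group.IsNilpotent ↥T := hTq.isNilpotent
      exact (Group.IsSolvable.commutator_lt_top_of_nontrivial ↥T).ne h2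
    · have h1 := eq_of_normal_between hd X K hXp hXmax hCX hXK hrel (X ⊔ T₀) le_sup_left
        (sup_le hXK (hT₀T.trans hTK)) h0
      rw [eq_bot_iff, ← hXT]
      refine le_inf ?_ hT₀T
      rw [← h1]
      exact le_sup_right
  intro s hs t ht
  have h1 : ⁅s, t⁆ ∈ T₀ := Subgroup.commutator_mem_commutator hs ht
  rw [hT₀bot, Subgroup.mem_bot, commutatorElement_def] at h1
  calc s * t = (s * t * s⁻¹ * t⁻¹) * (t * s) := by group
    _ = t * s := by rw [h1, one_mul]

end Cfsg.Agent.Helper23
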