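import Mathlib
import Cfsg.Prelude.Def_Transfer
import Cfsg.Agent.Lib.Helper10.ElemAb
import Cfsg.Agent.Lib.Helper10.Thompson
import Cfsg.Agent.Lib.Helper24.Omega1
import Cfsg.Agent.Lib.Helper23.ThompsonPC2
import Cfsg.Agent.Lib.Helper23.QuadraticGroup
import Cfsg.Agent.S0607

set_option autoImplicit false

namespace Cfsg.Agent.Helper23

open Cfsg Cfsg.Agent.Helper2 Cfsg.Agent.Helper10

open scoped commutatorElement

universe u

variable {G : Type u} [Group G]

/-- `Ω₁(Z(X))` as a subgroup of `G`. -/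
def omegaZ (p : ℕ) (X : Subgroup G) : Subgroup G where
  carrier := {z | z ∈ X ⊓ Subgroup.centralizer (X : Set G) ∧ z ^ p = 1}
  one_mem' := ⟨Subgroup.one_mem _, one_pow p⟩
  mul_mem' := by
    rintro a b ⟨ha, hap⟩ ⟨hb, hbp⟩
    refine ⟨Subgroup.mul_mem _ ha hb, ?_⟩
    have hcomm : Commute a b := Subgroup.mem_centralizer_iff.mp hb.2 a ha.1
    rw [hcomm.mul_pow, hap, hbp, one_mul]
  inv_mem' := by
    rintro a ⟨ha, hap⟩
    exact ⟨Subgroup.inv_mem _ ha, by rw [inv_pow, hap, inv_one]⟩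

theorem mem_omegaZ {p : ℕ} {X : Subgroup G} {z : G} :
    z ∈ omegaZ p X ↔ z ∈ X ⊓ Subgroup.centralizer (X : Set G) ∧ z ^ p = 1 := Iff.rfl

theorem omegaZ_le (p : ℕ) (X : Subgroup G) : omegaZ p X ≤ X := fun _ hz => hz.1.1

theorem omegaZ_normal (p : ℕ) (X : Subgroup G) [hXn : X.Normal] : (omegaZ p X).Normal := by
  constructor
  intro n hn g
  have hc : (Subgroup.centralizer (X : Set G)).Normal := inferInstance
  refine ⟨⟨hXn.conj_mem n hn.1.1 g, hc.conj_mem n hn.1.2 g⟩, ?_⟩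
  rw [conj_pow, hn.2, mul_one, mul_inv_cancel]

theorem omegaZ_elemAb (p : ℕ) (X : Subgroup G) : IsElementaryAbelian p (omegaZ p X) := by
  rw [isElementaryAbelian_iff]
  exact ⟨fun a ha b hb => Subgroup.mem_centralizer_iff.mp hb.1.2 a ha.1.1, fun a ha => ha.2⟩

theorem le_centralizer_omegaZ (p : ℕ) (X : Subgroup G) :
    X ≤ Subgroup.centralizer (omegaZ p X : Set G) := by
  intro x hx
  rw [Subgroup.mem_centralizer_iff]
  intro v hv
  exact (Subgroup.mem_centralizer_iff.mp hv.1.2 x hx).symm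

/-- The centralizer of the section `K / X`. -/
def sectCentralizer (K X : Subgroup G) [hX : X.Normal] : Subgroup G where
  carrier := {g | ∀ k ∈ K, g * k * g⁻¹ * k⁻¹ ∈ X}
  one_mem' := by
    intro k _
    have : (1 : G) * k * 1⁻¹ * k⁻¹ = 1 := by group
    rw [this]; exact X.one_mem
  mul_mem' := by
    intro g h hg hh k hk
    have e : g * h * k * (g * h)⁻¹ * k⁻¹ =
        (g * (h * k * h⁻¹ * k⁻¹) * g⁻¹) * (g * k * g⁻¹ * k⁻¹) := by group
    rw [e]
    exact X.mul_mem (hX.conj_mem _ (hh k hk) g) (hg k hk)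
  inv_mem' := by
    intro g hg k hk
    have e : g⁻¹ * k * g⁻¹⁻¹ * k⁻¹ = g⁻¹ * (g * k * g⁻¹ * k⁻¹)⁻¹ * g⁻¹⁻¹ := by group
    rw [e]
    exact hX.conj_mem _ (X.inv_mem (hg k hk)) g⁻¹

theorem sectCentralizer_normal (K X : Subgroup G) [hX : X.Normal] [hK : K.Normal] :
    (sectCentralizer K X).Normal := by
  constructor
  intro g hg u k hk
  have hk' : u⁻¹ * k * u ∈ K := by
    have := hK.conj_mem k hk u⁻¹
    rwa [inv_inv] at this
  have e : u * g * u⁻¹ * k * (u * g * u⁻¹)⁻¹ * k⁻¹ =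
      u * (g * (u⁻¹ * k * u) * g⁻¹ * (u⁻¹ * k * u)⁻¹) * u⁻¹ := by group
  rw [e]
  exact hX.conj_mem _ (hg _ hk') u

theorem normal_pgroup_le_sylow {p : ℕ} [Fact p.Prime] [Finite G] {X : Subgroup G}
    [hXn : X.Normal] (hXp : IsPGroup p X) (P : Sylow p G) : X ≤ (P : Subgroup G) := by
  obtain ⟨P', hP'⟩ := hXp.exists_le_sylow
  obtain ⟨g, hg⟩ := MulAction.exists_smul_eq G P' P
  intro x hx
  rw [← hg, mem_smul_sylow_iff]
  exact hP' (by have := hXn.conj_mem x hx g⁻¹; rwa [inv_inv] at this)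

variable [Finite G] {p : ℕ} [hp : Fact p.Prime]

theorem thompson_endgame (hp2 : p ≠ 2)
    (hA : ∀ D : Subgroup G, D.Normal → (Nat.card D).Coprime p → D = ⊥)
    (hd : ∀ M : Subgroup G, M ≠ ⊤ → ¬ p ∣ M.index → HasNormalPComplement p ↥M)
    (hyp : ThHyp p G)
    (X K : Subgroup G) [hXn : X.Normal] [hKn : K.Normal] (hXp : IsPGroup p X)
    (hXmax : ∀ Y : Subgroup G, Y.Normal → IsPGroup p Y → Y ≤ X)
    (hXK : X ≤ K) (hrel : (X.relIndex K).Coprime p) {j : ℕ} (hKidx : K.index = p ^ j)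
    (hG : ¬ HasNormalPComplement p G) : False := by
  have hCX := centralizer_le_of_struct hA X K hXp hXmax hXK hrel hKidx
  obtain ⟨T, hTcop, hTne, hXTK, hTcomm⟩ :=
    exists_abelian_struct hd X K hXp hXmax hCX hXK hrel hKidx hG
  obtain ⟨a, ha⟩ := IsPGroup.iff_card.mp hXp
  have hXT : X ⊓ T = ⊥ := disjoint_iff.mp (Subgroup.disjoint_of_coprime_natCard (by
    rw [ha]; exact (Nat.Coprime.pow_right a hTcop).symm))
  have hTX : ¬ T ≤ X := by
    intro h
    apply hTne
    rw [eq_bot_iff, ← hXT]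
    exact le_inf h le_rfl
  have hTK : T ≤ K := hXTK ▸ le_sup_right
  let P : Sylow p G := default
  have hXP : X ≤ (P : Subgroup G) := normal_pgroup_le_sylow hXp P
  set V := omegaZ p X with hV
  haveI hVn : V.Normal := omegaZ_normal p X
  have hVe : IsElementaryAbelian p V := omegaZ_elemAb p X
  have hXCV : X ≤ Subgroup.centralizer (V : Set G) := le_centralizer_omegaZ p X
  have hth := hyp P
  unfold ThGood at hth
  obtain ⟨hthJ, hthZ⟩ := hth
  -- (H1) `C_G(V) ≤ X`
  have hCV : Subgroup.centralizer (V : Set G) ≤ X := by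
    have hCVn : (Subgroup.centralizer (V : Set G)).Normal := inferInstance
    by_cases hYK : Subgroup.centralizer (V : Set G) ⊓ K = K
    · exfalso
      have hTCV : T ≤ Subgroup.centralizer (V : Set G) := by
        rw [← hYK] at hTK
        exact hTK.trans inf_le_left
      have hZn : (X ⊓ Subgroup.centralizer (X : Set G)).Normal := inferInstance
      have hTZ : T ≤ Subgroup.centralizer ((X ⊓ Subgroup.centralizer (X : Set G) : Subgroup G) : Set G) := by
        refine Cfsg.Agent.Helper24.le_centralizer_of_centralizes_omega_one p hp2 T hTcop _ _ rfl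
          (hXp.to_le inf_le_left) ?_ ?_
        · rw [Subgroup.normalizer_eq_top]; exact le_top
        · intro z hz hzp t ht
          have hzV : z ∈ V := ⟨hz, hzp⟩
          exact (Subgroup.mem_centralizer_iff.mp (hTCV ht) z hzV).symm
      have hZP : (P : Subgroup G) ⊓ Subgroup.centralizer ((P : Subgroup G) : Set G) ≤
          X ⊓ Subgroup.centralizer (X : Set G) := by
        intro u hu
        have h1 : u ∈ Subgroup.centralizer (X : Set G) :=
          Subgroup.centralizer_le (SetLike.coe_subset_coe.mpr hXP) hu.2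
        exact ⟨hCX h1, h1⟩
      have hXZ : X ≤ Subgroup.centralizer ((X ⊓ Subgroup.centralizer (X : Set G) : Subgroup G) : Set G) := by
        intro x hx
        rw [Subgroup.mem_centralizer_iff]
        intro z hz
        exact (Subgroup.mem_centralizer_iff.mp hz.2 x hx).symm
      have hKcent : K ≤ Subgroup.centralizer
          (((P : Subgroup G) ⊓ Subgroup.centralizer ((P : Subgroup G) : Set G) : Subgroup G) : Set G) := by
        rw [← hXTK]
        exact (sup_le hXZ hTZ).trans (Subgroup.centralizer_le (SetLike.coe_subset_coe.mpr hZP))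
      have hKnpc : HasNormalPComplement p ↥K := npc_mono hKcent hthZ
      have hKp : IsPGroup p ↥K := isPGroup_of_normal_npc hA K hKnpc
      exact hTX (hTK.trans (hXmax K hKn hKp))
    · have h1 := eq_of_normal_between hd X K hXp hXmax hCX hXK hrel
        (Subgroup.centralizer (V : Set G) ⊓ K) (le_inf hXCV hXK) inf_le_right hYK
      have h2 : IsPGroup p ↥(Subgroup.centralizer (V : Set G)) :=
        isPGroup_of_inf_isPGroup K _ hKidx (h1 ▸ hXp)
      exact hXmax _ hCVn h2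
  -- (H2) `J(P) ≰ X`
  have hJ : ¬ thompsonSubgroupOf p (P : Subgroup G) ≤ X := by
    intro hJ
    have h1 := thompsonSubgroupOf_eq_of_le hXP hJ
    have h2 : Subgroup.normalizer (thompsonSubgroupOf p (P : Subgroup G) : Set G) = ⊤ := by
      rw [← h1, eq_top_iff, ← Subgroup.normalizer_eq_top (H := X)]
      exact normalizer_le_normalizer_thompsonSubgroupOf p X
    rw [h2] at hthJ
    exact hG (npc_top_iff.mp hthJ)
  have hex : ∃ A' ∈ maxElementaryAbelianSubgroups p ↥(P : Subgroup G),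
      ¬ A'.map (P : Subgroup G).subtype ≤ X := by
    by_contra hcon
    push Not at hcon
    apply hJ
    unfold thompsonSubgroupOf thompsonSubgroup
    rw [Subgroup.map_le_iff_le_comap]
    apply sSup_le
    intro A' hA'
    rw [← Subgroup.map_le_iff_le_comap]
    exact hcon A' hA'
  obtain ⟨A', hA', hA'X⟩ := hex
  set V' : Subgroup ↥(P : Subgroup G) := V.subgroupOf (P : Subgroup G) with hV'
  haveI hV'n : V'.Normal := hVn.subgroupOf _
  have hV'e : IsElementaryAbelian p V' := elemAb_subgroupOf hVe _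
  obtain ⟨-, hquad, hnontriv⟩ := Cfsg.Agent.S0607.result V' hV'e A' hA'
  set As : Subgroup ↥(P : Subgroup G) :=
    ⁅V', A'⁆ ⊔ (A' ⊓ Subgroup.centralizer ((⁅V', A'⁆ : Subgroup ↥(P : Subgroup G)) : Set ↥(P : Subgroup G)))
    with hAs
  have hVP : V ≤ (P : Subgroup G) := (omegaZ_le p X).trans hXP
  have hne1 : ⁅V', A'⁆ ≠ ⊥ := by
    intro h0
    rw [Subgroup.commutator_eq_bot_iff_le_centralizer] at h0
    apply hA'X
    rintro _ ⟨a', ha', rfl⟩
    apply hCV
    rw [Subgroup.mem_centralizer_iff]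
    intro v hv
    have hv' : (⟨v, hVP hv⟩ : ↥(P : Subgroup G)) ∈ V' := Subgroup.mem_subgroupOf.mpr hv
    have := Subgroup.mem_centralizer_iff.mp (h0 hv') a' ha'
    exact (congrArg Subtype.val this).symm
  have hne2 := hnontriv hne1
  have hex2 : ∃ v' ∈ V', ∃ x' ∈ As, x' * v' ≠ v' * x' := by
    by_contra hcon
    push Not at hcon
    apply hne2
    rw [Subgroup.commutator_eq_bot_iff_le_centralizer]
    intro v' hv'
    rw [Subgroup.mem_centralizer_iff]
    intro x' hx'
    exact hcon v' hv' x' hx'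
  obtain ⟨v', hv', x', hx', hxv⟩ := hex2
  set x : G := (x' : G) with hx
  have hxCV : x ∉ Subgroup.centralizer (V : Set G) := by
    intro h
    apply hxv
    have := Subgroup.mem_centralizer_iff.mp h (v' : G) (Subgroup.mem_subgroupOf.mp hv')
    exact Subtype.ext this.symm
  have hquad' : ⁅V', As⁆ ≤ Subgroup.centralizer (As : Set ↥(P : Subgroup G)) :=
    Subgroup.commutator_eq_bot_iff_le_centralizer.mp hquad
  have hxq : ∀ v ∈ V, x * (x * v * x⁻¹ * v⁻¹) = (x * v * x⁻¹ * v⁻¹) * x := by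
    intro v hv
    have hv'' : (⟨v, hVP hv⟩ : ↥(P : Subgroup G)) ∈ V' := Subgroup.mem_subgroupOf.mpr hv
    have h1 : ⁅(⟨v, hVP hv⟩ : ↥(P : Subgroup G)), x'⁆ ∈ ⁅V', As⁆ :=
      Subgroup.commutator_mem_commutator hv'' hx'
    have h2 := Subgroup.mem_centralizer_iff.mp (hquad' h1) x' hx'
    have h3 : x * (v * x * v⁻¹ * x⁻¹) = (v * x * v⁻¹ * x⁻¹) * x := by
      have := congrArg Subtype.val h2
      simpa [commutatorElement_def] using this
    have e : x * v * x⁻¹ * v⁻¹ = (v * x * v⁻¹ * x⁻¹)⁻¹ := by group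
    rw [e]
    exact (show Commute x (v * x * v⁻¹ * x⁻¹) from h3).inv_right
  have hTc : ∀ s ∈ T, ∀ t ∈ T, s * t * s⁻¹ * t⁻¹ ∈ Subgroup.centralizer (V : Set G) := by
    intro s hs t ht
    have : s * t * s⁻¹ * t⁻¹ = 1 := by rw [hTcomm s hs t ht]; group
    rw [this]; exact Subgroup.one_mem _
  have hnormT : ∀ t ∈ T, ∃ t' ∈ T, ∃ c ∈ Subgroup.centralizer (V : Set G),
      x⁻¹ * t * x = t' * c := by
    intro t ht
    have h1 : x⁻¹ * t * x ∈ K := by
      have := hKn.conj_mem t (hTK ht) x⁻¹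
      rwa [inv_inv] at this
    rw [← hXTK, sup_comm] at h1
    obtain ⟨t', ht', c, hc, h2⟩ := Subgroup.mem_sup_of_normal_right.mp h1
    exact ⟨t', ht', c, hXCV hc, h2.symm⟩
  have hkey := quadratic_centralizes hp2 V hVe x hxq T hTc hTcop hnormT
  -- (H5)
  set B := sectCentralizer K X with hB
  haveI hBn : B.Normal := sectCentralizer_normal K X
  have hxB : x ∈ B := by
    intro k hk
    rw [← hXTK] at hk
    obtain ⟨x₁, hx₁, t₁, ht₁, rfl⟩ := Subgroup.mem_sup_of_normal_left.mp hk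
    have e : x * (x₁ * t₁) * x⁻¹ * (x₁ * t₁)⁻¹ =
        (x * x₁ * x⁻¹) * (x * t₁ * x⁻¹ * t₁⁻¹) * x₁⁻¹ := by group
    rw [e]
    exact X.mul_mem (X.mul_mem (hXn.conj_mem x₁ hx₁ x) (hCV (hkey t₁ ht₁))) (X.inv_mem hx₁)
  have hXB : X ≤ B := by
    intro x₀ hx₀ k _
    have e : x₀ * k * x₀⁻¹ * k⁻¹ = x₀ * (k * x₀⁻¹ * k⁻¹) := by group
    rw [e]
    exact X.mul_mem hx₀ (hXn.conj_mem _ (X.inv_mem hx₀) k)
  have hPBp : IsPGroup p ↥(B ⊓ (P : Subgroup G)) := P.isPGroup'.to_le inf_le_right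
  have hKP : K ⊔ (P : Subgroup G) = ⊤ := by
    have h1 : (K ⊔ (P : Subgroup G)).index ∣ K.index := Subgroup.index_dvd_of_le le_sup_left
    have h2 : (K ⊔ (P : Subgroup G)).index ∣ (P : Subgroup G).index :=
      Subgroup.index_dvd_of_le le_sup_right
    rw [hKidx] at h1
    obtain ⟨b, -, hb⟩ := (Nat.dvd_prime_pow hp.out).mp h1
    have hb0 : b = 0 := by
      by_contra hb0
      apply P.not_dvd_index
      refine dvd_trans ?_ h2
      rw [hb]
      exact dvd_pow_self p hb0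
    rw [hb0, pow_zero] at hb
    exact Subgroup.index_eq_one.mp hb
  have hPBn : (B ⊓ (P : Subgroup G)).Normal := by
    rw [← Subgroup.normalizer_eq_top_iff, eq_top_iff, ← hKP]
    apply sup_le
    · apply le_normalizer_of_forall_map_conj_le
      intro k hk
      rintro _ ⟨y, hy, rfl⟩
      have hyB : y ∈ B := hy.1
      have h1 : k * y * k⁻¹ * y⁻¹ ∈ X := by
        have := X.inv_mem (hyB k hk)
        have e : (y * k * y⁻¹ * k⁻¹)⁻¹ = k * y * k⁻¹ * y⁻¹ := by group
        rwa [e] at this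
      have e2 : (MulAut.conj k).toMonoidHom y = (k * y * k⁻¹ * y⁻¹) * y := by
        simp [MulAut.conj_apply]
      rw [e2]
      exact Subgroup.mul_mem _ (Subgroup.mem_inf.mpr ⟨hXB h1, hXP h1⟩) hy
    · apply le_normalizer_of_forall_map_conj_le
      intro n hn
      rintro _ ⟨y, hy, rfl⟩
      have e2 : (MulAut.conj n).toMonoidHom y = n * y * n⁻¹ := by simp [MulAut.conj_apply]
      rw [e2]
      exact Subgroup.mem_inf.mpr ⟨hBn.conj_mem y hy.1 n,
        Subgroup.mul_mem _ (Subgroup.mul_mem _ hn hy.2) (Subgroup.inv_mem _ hn)⟩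
  have hPBX : B ⊓ (P : Subgroup G) ≤ X := hXmax _ hPBn hPBp
  exact hxCV (hXCV (hPBX (Subgroup.mem_inf.mpr ⟨hxB, x'.2⟩)))

end Cfsg.Agent.Helper23
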