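import Mathlib
import Cfsg.Agent.Lib.Helper10.PStableSolv
import Cfsg.Agent.Lib.Helper76.SolvPSolv
import Cfsg.Agent.Lib.Helper23.ThompsonPC3
import Cfsg.Agent.Lib.Helper23.YMin
import Cfsg.Agent.S0607

/-!
# Thompson factorization for solvable groups (`p` odd)
-/

set_option autoImplicit false

namespace Cfsg.Agent.Helper23

open Cfsg Cfsg.Agent.Helper10

open scoped commutatorElement

universe u

/-! ### Groups all of whose `q`-subgroups are commutative -/

/-- every `q`-subgroup is commutative -/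
def AbQ (q : ℕ) (A : Type*) [Group A] : Prop :=
  ∀ Q : Subgroup A, IsPGroup q Q → ∀ x ∈ Q, ∀ y ∈ Q, x * y = y * x

theorem AbQ.of_injective {q : ℕ} {A B : Type*} [Group A] [Group B] (f : A →* B)
    (hf : Function.Injective f) (h : AbQ q B) : AbQ q A := by
  intro Q hQ x hx y hy
  apply hf
  rw [map_mul, map_mul]
  exact h (Q.map f) (hQ.map f) (f x) (Subgroup.mem_map_of_mem f hx) (f y)
    (Subgroup.mem_map_of_mem f hy)

theorem AbQ.of_surjective {q : ℕ} [Fact q.Prime] {A B : Type*} [Group A] [Group B] [Finite A]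
    (f : A →* B) (hf : Function.Surjective f) (h : AbQ q A) : AbQ q B := by
  intro T hT x hx y hy
  set K : Subgroup A := T.comap f with hK
  let f' : K →* T := f.subgroupComap T
  have hf' : Function.Surjective f' := MonoidHom.subgroupComap_surjective_of_surjective f T hf
  obtain ⟨Q₀⟩ : Nonempty (Sylow q K) := inferInstance
  have hQ₁ : ((Q₀ : Subgroup K).map f') = ⊤ := by
    have htop : IsPGroup q (⊤ : Subgroup T) := by
      intro z
      obtain ⟨k, hk⟩ := hT z.1
      exact ⟨k, Subtype.ext hk⟩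
    have h1 := (Q₀.mapSurjective hf').is_maximal' htop le_top
    have h2 : ((Q₀.mapSurjective hf' : Sylow q T) : Subgroup T) = (Q₀ : Subgroup K).map f' :=
      Sylow.coe_mapSurjective hf' Q₀
    rw [← h2]; exact h1.symm
  have hx' : (⟨x, hx⟩ : T) ∈ (Q₀ : Subgroup K).map f' := by rw [hQ₁]; exact Subgroup.mem_top _
  have hy' : (⟨y, hy⟩ : T) ∈ (Q₀ : Subgroup K).map f' := by rw [hQ₁]; exact Subgroup.mem_top _
  obtain ⟨a, ha, hax⟩ := hx'
  obtain ⟨b, hb, hby⟩ := hy'
  have hab := h ((Q₀ : Subgroup K).map K.subtype) (Q₀.2.map _) a.1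
    (Subgroup.mem_map_of_mem K.subtype ha) b.1 (Subgroup.mem_map_of_mem K.subtype hb)
  have hfa : f a.1 = x := congrArg Subtype.val hax
  have hfb : f b.1 = y := congrArg Subtype.val hby
  rw [← hfa, ← hfb, ← map_mul, ← map_mul, hab]

/-! ### A nonabelian `2`-subgroup of `SL₂(3)` -/

theorem isPGroup_two_of_rel {L : Type*} [Group L] (x y : L) (hx : x ^ 4 = 1) (hy : y ^ 4 = 1)
    (hxy : x * y * x = y) : IsPGroup 2 (Subgroup.zpowers y ⊔ Subgroup.zpowers x : Subgroup L) := by
  have hzp : ∀ z : L, z ^ 4 = 1 → IsPGroup 2 (Subgroup.zpowers z) := by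
    intro z hz
    rintro ⟨w, hw⟩
    obtain ⟨n, rfl⟩ := Subgroup.mem_zpowers_iff.mp hw
    refine ⟨2, Subtype.ext ?_⟩
    simp only [Subgroup.coe_pow, Subgroup.coe_one]
    have : (2 : ℕ) ^ 2 = 4 := by norm_num
    rw [this, ← zpow_natCast, ← zpow_mul, mul_comm, zpow_mul, zpow_natCast, hz, one_zpow]
  apply IsPGroup.to_sup_of_normal_right' (hzp y hy) (hzp x hx)
  rw [Subgroup.zpowers_le]
  have h1 : y * x * y⁻¹ = x⁻¹ := by
    have : y * x = x⁻¹ * y := by rw [eq_inv_mul_iff_mul_eq, ← mul_assoc]; exact hxy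
    rw [this, mul_assoc, mul_inv_cancel, mul_one]
  have h1' : y * x⁻¹ * y⁻¹ = x := by
    rw [← inv_inj, mul_inv_rev, mul_inv_rev, inv_inv, inv_inv, ← mul_assoc]; exact h1
  have h2 : y⁻¹ * x * y⁻¹⁻¹ = x⁻¹ := by
    rw [inv_inv]
    calc y⁻¹ * x * y = y⁻¹ * (y * x⁻¹ * y⁻¹) * y := by rw [h1']
      _ = x⁻¹ := by group
  have key : ∀ u : L, u * x * u⁻¹ = x⁻¹ → ∀ g ∈ Subgroup.zpowers x,
      u * g * u⁻¹ ∈ Subgroup.zpowers x := by
    intro u hu g hg
    obtain ⟨n, rfl⟩ := Subgroup.mem_zpowers_iff.mp hg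
    rw [← conj_zpow, hu]
    exact Subgroup.zpow_mem _ (Subgroup.inv_mem _ (Subgroup.mem_zpowers x)) n
  rw [Subgroup.mem_normalizer_iff]
  intro h
  constructor
  · intro hh
    exact key y h1 h hh
  · intro hh
    have := key y⁻¹ h2 (y * h * y⁻¹) hh
    have e : y⁻¹ * (y * h * y⁻¹) * y⁻¹⁻¹ = h := by group
    rw [e] at this
    exact this

/-- an element of order `4` of `SL₂(3)` -/
def q8x : Matrix.SpecialLinearGroup (Fin 2) (ZMod 3) :=
  ⟨!![0, 1; 2, 0], by rw [Matrix.det_fin_two_of]; decide⟩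

/-- another element of order `4` of `SL₂(3)` -/
def q8y : Matrix.SpecialLinearGroup (Fin 2) (ZMod 3) :=
  ⟨!![1, 1; 1, 2], by rw [Matrix.det_fin_two_of]; decide⟩

theorem q8x_pow : q8x ^ 4 = 1 := by decide

theorem q8y_pow : q8y ^ 4 = 1 := by decide

theorem q8_rel : q8x * q8y * q8x = q8y := by decide

theorem q8_ne : q8x * q8y ≠ q8y * q8x := by decide

theorem not_abQ_sl23 : ¬ AbQ 2 (Matrix.SpecialLinearGroup (Fin 2) (ZMod 3)) := by
  intro h
  apply q8_ne
  exact h _ (isPGroup_two_of_rel q8x q8y q8x_pow q8y_pow q8_rel) q8x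
    (Subgroup.mem_sup_right (Subgroup.mem_zpowers _)) q8y
    (Subgroup.mem_sup_left (Subgroup.mem_zpowers _))

/-! ### Quadratic elements centralize -/

theorem quadratic_mem_centralizer {G : Type u} [Group G] [Finite G] {p : ℕ} [Fact p.Prime]
    (hp : p ≠ 2) (hs : Group.IsSolvable G)
    (h3 : p = 3 → ∀ T : Sylow 2 G, IsMulCommutative T)
    (V : Subgroup G) [hVn : V.Normal] (hV : IsElementaryAbelian p V)
    (hO : pCore p (G ⧸ Subgroup.centralizer (V : Set G)) = ⊥) (a : G)
    (hq : ⁅⁅V, Subgroup.zpowers a⁆, Subgroup.zpowers a⁆ = ⊥) :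
    a ∈ Subgroup.centralizer (V : Set G) := by
  set C := Subgroup.centralizer (V : Set G) with hC
  by_contra hna
  have hsol : IsPSolvable p G := Cfsg.Agent.Helper76.isPSolvable_of_isSolvable' p
  have hker : C ≤ (conjRepNormal hV).ker := by
    intro c hc
    rw [MonoidHom.mem_ker, conjRepNormal_eq_one_iff]
    exact hc
  set ρ : G ⧸ C →* Module.End (ZMod p) (ElemAbAdd p V hV) :=
    QuotientGroup.lift C (conjRepNormal hV) hker with hρ
  have hρinj : Function.Injective ρ := by
    rw [injective_iff_map_eq_one]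
    intro q hq1
    obtain ⟨g, rfl⟩ := QuotientGroup.mk_surjective q
    rw [hρ, QuotientGroup.lift_mk, conjRepNormal_eq_one_iff] at hq1
    exact (QuotientGroup.eq_one_iff g).mpr hq1
  have hqa : ∀ m, ρ (QuotientGroup.mk a) (ρ (QuotientGroup.mk a) m - m) =
      ρ (QuotientGroup.mk a) m - m := by
    intro m
    rw [hρ, QuotientGroup.lift_mk]
    exact conjRepNormal_quadratic hV a hq m
  have hna' : (QuotientGroup.mk a : G ⧸ C) ∉ pCore p (G ⧸ C) := by
    rw [hO, Subgroup.mem_bot, QuotientGroup.eq_one_iff]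
    exact hna
  obtain ⟨hp3, Γ₀, F, _, φ, S, hS, ⟨e⟩⟩ := exists_sl23_of_quadratic_not_mem_pCore hp ρ hρinj
    (Cfsg.Agent.Helper54.IsPSolvable.quotient hsol C) (QuotientGroup.mk a) hqa hna'
  have hG : AbQ 2 G := by
    intro Q hQ x hx y hy
    obtain ⟨T, hT⟩ := hQ.exists_le_sylow
    have hcomm := h3 hp3 T
    have hx' : x ∈ T := hT hx
    have hy' : y ∈ T := hT hy
    have := hcomm.is_comm.comm (⟨x, hx'⟩ : T) ⟨y, hy'⟩
    exact congrArg Subtype.val this
  have hΓ : AbQ 2 (G ⧸ C) :=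
    AbQ.of_surjective (QuotientGroup.mk' C) (QuotientGroup.mk'_surjective C) hG
  have hΓ₀ : AbQ 2 Γ₀ := AbQ.of_injective Γ₀.subtype Γ₀.subtype_injective hΓ
  have hR : AbQ 2 φ.range := AbQ.of_surjective φ.rangeRestrict φ.rangeRestrict_surjective hΓ₀
  have hS' : AbQ 2 S :=
    AbQ.of_injective (Subgroup.inclusion hS) (Subgroup.inclusion_injective hS) hR
  have hL : AbQ 2 (Matrix.SpecialLinearGroup (Fin 2) (ZMod 3)) :=
    AbQ.of_injective e.symm.toMonoidHom e.symm.injective hS'
  exact not_abQ_sl23 hL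

/-! ### A quadratic element from `J(P) ≰ C_G(V)` -/

theorem exists_quadratic_of_thompson_not_le {G : Type u} [Group G] [Finite G] {p : ℕ}
    [Fact p.Prime] (P : Sylow p G) (V : Subgroup G) [hVn : V.Normal]
    (hVe : IsElementaryAbelian p V) (hVP : V ≤ (P : Subgroup G))
    (hJ : ¬ thompsonSubgroupOf p (P : Subgroup G) ≤ Subgroup.centralizer (V : Set G)) :
    ∃ x : G, x ∉ Subgroup.centralizer (V : Set G) ∧
      ⁅⁅V, Subgroup.zpowers x⁆, Subgroup.zpowers x⁆ = ⊥ := by
  have hex : ∃ A' ∈ maxElementaryAbelianSubgroups p ↥(P : Subgroup G),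
      ¬ A'.map (P : Subgroup G).subtype ≤ Subgroup.centralizer (V : Set G) := by
    by_contra hcon
    push Not at hcon
    apply hJ
    unfold thompsonSubgroupOf thompsonSubgroup
    rw [Subgroup.map_le_iff_le_comap]
    apply sSup_le
    intro A' hA'
    rw [← Subgroup.map_le_iff_le_comap]
    exact hcon A' hA'
  obtain ⟨A', hA', hA'X⟩ := hex
  set V' : Subgroup ↥(P : Subgroup G) := V.subgroupOf (P : Subgroup G) with hV'
  have hV'n : V'.Normal := hVn.subgroupOf _
  have hV'e : IsElementaryAbelian p V' := elemAb_subgroupOf hVe _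
  obtain ⟨-, hquad, hnontriv⟩ := Cfsg.Agent.S0607.result V' hV'e A' hA'
  set As : Subgroup ↥(P : Subgroup G) :=
    ⁅V', A'⁆ ⊔ (A' ⊓ Subgroup.centralizer ((⁅V', A'⁆ : Subgroup ↥(P : Subgroup G)) :
      Set ↥(P : Subgroup G))) with hAs
  have hne1 : ⁅V', A'⁆ ≠ ⊥ := by
    intro h0
    rw [Subgroup.commutator_eq_bot_iff_le_centralizer] at h0
    apply hA'X
    rintro _ ⟨a', ha', rfl⟩
    rw [Subgroup.mem_centralizer_iff]
    intro v hv
    have hv' : (⟨v, hVP hv⟩ : ↥(P : Subgroup G)) ∈ V' := Subgroup.mem_subgroupOf.mpr hv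
    have := Subgroup.mem_centralizer_iff.mp (h0 hv') a' ha'
    exact (congrArg Subtype.val this).symm
  have hne2 := hnontriv hne1
  have hex2 : ∃ v' ∈ V', ∃ x' ∈ As, x' * v' ≠ v' * x' := by
    by_contra hcon
    push Not at hcon
    apply hne2
    rw [Subgroup.commutator_eq_bot_iff_le_centralizer]
    intro v' hv'
    rw [Subgroup.mem_centralizer_iff]
    intro x' hx'
    exact hcon v' hv' x' hx'
  obtain ⟨v', hv', x', hx', hxv⟩ := hex2
  refine ⟨(x' : G), ?_, ?_⟩
  · intro h
    apply hxv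
    have := Subgroup.mem_centralizer_iff.mp h (v' : G) (Subgroup.mem_subgroupOf.mp hv')
    exact Subtype.ext this.symm
  · have h1 : ⁅⁅V', Subgroup.zpowers x'⁆, Subgroup.zpowers x'⁆ = ⊥ := by
      rw [eq_bot_iff, ← hquad]
      have hz : Subgroup.zpowers x' ≤ As := Subgroup.zpowers_le.mpr hx'
      exact Subgroup.commutator_mono (Subgroup.commutator_mono le_rfl hz) hz
    have h2 := congrArg (Subgroup.map (P : Subgroup G).subtype) h1
    rw [Subgroup.map_commutator, Subgroup.map_commutator, MonoidHom.map_zpowers,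
      Subgroup.map_bot, hV', Subgroup.subgroupOf_map_subtype, inf_eq_left.mpr hVP] at h2
    exact h2

/-! ### Frattini argument for `S ⊓ N` -/

theorem frattini_sylow_inf {M : Type*} [Group M] [Finite M] {p : ℕ} [Fact p.Prime]
    (S : Sylow p M) (N : Subgroup M) [N.Normal] :
    Subgroup.normalizer ((((S : Subgroup M) ⊓ N : Subgroup M)) : Set M) ⊔ N = ⊤ := by
  have hidx := not_dvd_relIndex_sylow_inf S N
  set P : Subgroup M := (S : Subgroup M) ⊓ N with hP
  have hPp : IsPGroup p (P.subgroupOf N) :=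
    (S.2.to_le (inf_le_left : P ≤ S)).comap_subtype
  let P' : Sylow p ↥N := hPp.toSylow (by simpa [Subgroup.relIndex] using hidx)
  have hfr := Sylow.normalizer_sup_eq_top P'
  have hmap : (P' : Subgroup ↥N).map N.subtype = P := by
    show (P.subgroupOf N).map N.subtype = P
    rw [Subgroup.subgroupOf_map_subtype]
    exact inf_of_le_left inf_le_right
  rw [hmap] at hfr
  exact hfr

/-! ### Thompson factorization -/

theorem thompson_factorization_solvable_aux {G : Type u} [Group G] [Finite G] {p : ℕ}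
    [Fact p.Prime] (hp : p ≠ 2) (hs : Group.IsSolvable G)
    (h3 : p = 3 → ∀ T : Sylow 2 G, IsMulCommutative T)
    (hF : ∀ N : Subgroup G, N.Normal → Nat.Coprime (Nat.card N) p → N = ⊥) (P : Sylow p G)
    (g : G) :
    ∃ a ∈ Subgroup.normalizer (thompsonSubgroupOf p (P : Subgroup G) : Set G),
      ∃ c ∈ Subgroup.centralizer {x : G | x ∈ (P : Subgroup G) ∧
        (∀ y ∈ (P : Subgroup G), x * y = y * x) ∧ x ^ p = 1}, g = a * c := by
  classical
  set Z₁ : Set G := {x : G | x ∈ (P : Subgroup G) ∧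
    (∀ y ∈ (P : Subgroup G), x * y = y * x) ∧ x ^ p = 1} with hZ₁
  set R := pCore p G with hR
  have hRn : R.Normal := Subgroup.sSup_normal _ (fun _ h => h.1)
  have hRP : R ≤ (P : Subgroup G) := Cfsg.Agent.Helper54.pCore_le_sylow P
  have hsol : IsPSolvable p G := Cfsg.Agent.Helper76.isPSolvable_of_isSolvable' p
  have hcore : pPrimeCore p G = ⊥ :=
    hF _ (Cfsg.Agent.Helper54.pPrimeCore_mem p).1 (Cfsg.Agent.Helper54.pPrimeCore_coprime p)
  have hCR : Subgroup.centralizer (R : Set G) ≤ R :=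
    Cfsg.Agent.Helper54.centralizer_pCore_le_of_isPSolvable hsol hcore
  set W := omegaZ p R with hW
  have hWn : W.Normal := omegaZ_normal p R
  have hWe : IsElementaryAbelian p W := omegaZ_elemAb p R
  have hZW : Z₁ ⊆ (W : Set G) := by
    intro x hx
    obtain ⟨hxP, hxc, hxp⟩ := hx
    have hxCR : x ∈ Subgroup.centralizer (R : Set G) := by
      rw [Subgroup.mem_centralizer_iff]
      intro r hr
      exact (hxc r (hRP hr)).symm
    exact ⟨⟨hCR hxCR, hxCR⟩, hxp⟩
  set V := Subgroup.normalClosure Z₁ with hV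
  have hVn : V.Normal := Subgroup.normalClosure_normal
  have hVW : V ≤ W := Subgroup.normalClosure_le_normal hZW
  have hVe : IsElementaryAbelian p V := elemAb_mono hWe hVW
  have hVP : V ≤ (P : Subgroup G) := hVW.trans ((omegaZ_le p R).trans hRP)
  have hZV : Z₁ ⊆ (V : Set G) := Subgroup.subset_normalClosure
  set C := Subgroup.centralizer (V : Set G) with hC
  have hCn : C.Normal := inferInstance
  have hCZ : C ≤ Subgroup.centralizer Z₁ := Subgroup.centralizer_le hZV
  -- `O_p(G / C) = 1`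
  have hO : pCore p (G ⧸ C) = ⊥ := by
    set π := QuotientGroup.mk' C with hπ
    have hπs : Function.Surjective π := QuotientGroup.mk'_surjective C
    set D : Subgroup G := (pCore p (G ⧸ C)).comap π with hD
    have hQn : (pCore p (G ⧸ C)).Normal := Subgroup.sSup_normal _ (fun _ h => h.1)
    have hDn : D.Normal := hQn.comap π
    have hDPC : D ≤ (P : Subgroup G) ⊔ C := by
      intro d hd
      have h1 : π d ∈ ((P.mapSurjective hπs : Sylow p (G ⧸ C)) : Subgroup (G ⧸ C)) :=
        Cfsg.Agent.Helper54.pCore_le_sylow _ hd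
      rw [Sylow.coe_mapSurjective] at h1
      obtain ⟨x, hx, hxd⟩ := h1
      have h2 : x⁻¹ * d ∈ C := by
        have : π (x⁻¹ * d) = 1 := by rw [map_mul, map_inv, hxd, inv_mul_cancel]
        exact (QuotientGroup.eq_one_iff _).mp this
      have e : d = x * (x⁻¹ * d) := by group
      rw [e]
      exact Subgroup.mul_mem_sup hx h2
    have hZD : ∀ x ∈ Z₁, x ∈ Subgroup.centralizer (D : Set G) := by
      intro x hx
      rw [Subgroup.mem_centralizer_iff]
      intro d hd
      obtain ⟨y, hy, c, hc, rfl⟩ := Subgroup.mem_sup_of_normal_right.mp (hDPC hd)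
      have h1 : x * y = y * x := hx.2.1 y hy
      have h2 : x * c = c * x := Subgroup.mem_centralizer_iff.mp hc x (hZV hx)
      calc y * c * x = y * (c * x) := mul_assoc _ _ _
        _ = y * (x * c) := by rw [h2]
        _ = (y * x) * c := (mul_assoc _ _ _).symm
        _ = (x * y) * c := by rw [h1]
        _ = x * (y * c) := mul_assoc _ _ _
    have hVD : V ≤ Subgroup.centralizer (D : Set G) := by
      have : (Subgroup.centralizer (D : Set G)).Normal := inferInstance
      exact Subgroup.normalClosure_le_normal (fun x hx => hZD x hx)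
    have hDC : D ≤ C := by
      intro d hd
      rw [hC, Subgroup.mem_centralizer_iff]
      intro v hv
      exact (Subgroup.mem_centralizer_iff.mp (hVD hv) d hd).symm
    rw [eq_bot_iff]
    intro q hq
    obtain ⟨d, rfl⟩ := hπs q
    rw [Subgroup.mem_bot]
    exact (QuotientGroup.eq_one_iff d).mpr (hDC hq)
  -- `J(P) ≤ C`
  have hJC : thompsonSubgroupOf p (P : Subgroup G) ≤ C := by
    by_contra hJ
    obtain ⟨x, hxC, hxq⟩ := exists_quadratic_of_thompson_not_le P V hVe hVP hJ
    exact hxC (quadratic_mem_centralizer hp hs h3 V hVe hO x hxq)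
  -- Frattini
  set Q : Subgroup G := (P : Subgroup G) ⊓ C with hQ
  have hJQ : thompsonSubgroupOf p (P : Subgroup G) ≤ Q :=
    le_inf (Cfsg.Agent.Helper10.thompsonSubgroupOf_le _) hJC
  have hfr : Subgroup.normalizer ((Q : Subgroup G) : Set G) ⊔ C = ⊤ := frattini_sylow_inf P C
  obtain ⟨A₀, hA₀, hA₀P⟩ :=
    Cfsg.Agent.Helper10.exists_mem_maxElementaryAbelianSubgroups_le_sylow P
  have hNN : Subgroup.normalizer ((Q : Subgroup G) : Set G) ≤
      Subgroup.normalizer (thompsonSubgroupOf p (P : Subgroup G) : Set G) :=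
    Cfsg.Agent.Helper10.normalizer_le_normalizer_thompsonSubgroupOf hA₀ hA₀P inf_le_left hJQ
  have hg : g ∈ Subgroup.normalizer ((Q : Subgroup G) : Set G) ⊔ C := by
    rw [hfr]; exact Subgroup.mem_top g
  obtain ⟨a, ha, c, hc, hac⟩ := Subgroup.mem_sup_of_normal_right.mp hg
  exact ⟨a, hNN ha, c, hCZ hc, hac.symm⟩

end Cfsg.Agent.Helper23
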