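import Mathlib
import Cfsg.Prelude.Def_Transfer
import Cfsg.Agent.Lib.Helper23.ThompsonPC3

set_option autoImplicit false

namespace Cfsg.Agent.Helper23

open Cfsg Cfsg.Agent.Helper2 Cfsg.Agent.Helper10

universe u

theorem fact_eq_of_not_dvd_index {G : Type*} [Group G] [Finite G] {p : ℕ} [hp : Fact p.Prime]
    (M : Subgroup G) (h : ¬ p ∣ M.index) :
    (Nat.card M).factorization p = (Nat.card G).factorization p := by
  have h1 := M.card_mul_index
  rw [← h1, Nat.factorization_mul Nat.card_pos.ne' Subgroup.index_ne_zero_of_finite]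
  simp [Nat.factorization_eq_zero_of_not_dvd h]

theorem npc_of_proper_of_ih {G : Type u} [Group G] [Finite G] {p : ℕ} [hp : Fact p.Prime]
    (IH : ∀ (H : Type u) [Group H] [Finite H], Nat.card H < Nat.card G → ThHyp p H →
      HasNormalPComplement p H)
    (hyp : ThHyp p G) (M : Subgroup G) (hM : M ≠ ⊤) (hidx : ¬ p ∣ M.index) :
    HasNormalPComplement p ↥M := by
  have hlt : Nat.card ↥M < Nat.card G := by
    have := card_lt_card_of_lt' (lt_top_iff_ne_top.mpr hM)
    rwa [Subgroup.card_top] at this
  apply IH ↥M hlt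
  apply thHyp_subgroup
  intro S'
  have hcard : Nat.card ↥((S' : Subgroup ↥M).map M.subtype) = p ^ (Nat.card G).factorization p := by
    rw [Subgroup.card_map_of_injective M.subtype_injective, S'.card_eq_multiplicity,
      fact_eq_of_not_dvd_index M hidx]
  have := hyp (Sylow.ofCard _ hcard)
  rwa [Sylow.coe_ofCard] at this

theorem no_normal_pprime_of_ih {G : Type u} [Group G] [Finite G] {p : ℕ} [hp : Fact p.Prime]
    (IH : ∀ (H : Type u) [Group H] [Finite H], Nat.card H < Nat.card G → ThHyp p H →
      HasNormalPComplement p H)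
    (hyp : ThHyp p G) (hG : ¬ HasNormalPComplement p G) :
    ∀ D : Subgroup G, D.Normal → (Nat.card D).Coprime p → D = ⊥ := by
  intro D hDn hDc
  by_contra hne
  haveI := hDn
  apply hG
  apply hasNPC_of_quotient_coprime D hDc
  apply IH (G ⧸ D)
  · have h1 := Subgroup.card_eq_card_quotient_mul_card_subgroup D
    have h2 : 1 < Nat.card D := (Subgroup.one_lt_card_iff_ne_bot D).mpr hne
    rw [h1]; exact lt_mul_of_one_lt_right Nat.card_pos h2
  · exact thHyp_quotient_coprime D hDc hyp

theorem thompson_aux (p : ℕ) [hp : Fact p.Prime] (hp2 : p ≠ 2) :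
    ∀ (n : ℕ) (G : Type u) [Group G] [Finite G], Nat.card G = n → ThHyp p G →
      HasNormalPComplement p G := by
  intro n
  induction n using Nat.strong_induction_on with
  | _ n ih =>
  intro G _ _ hn hyp
  have IH : ∀ (H : Type u) [Group H] [Finite H], Nat.card H < Nat.card G → ThHyp p H →
      HasNormalPComplement p H :=
    fun H _ _ hlt hH => ih (Nat.card H) (hn ▸ hlt) H rfl hH
  by_contra hG
  have hA := no_normal_pprime_of_ih IH hyp hG
  have hd := npc_of_proper_of_ih IH hyp
  let f : Subgroup G → ℕ := fun Q =>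
    (Nat.card ↥(Subgroup.normalizer (Q : Set G))).factorization p
  let 𝔅 : Set (Subgroup G) := {Q | IsPGroup p Q ∧ Q ≠ ⊥ ∧
    ¬ HasNormalPComplement p ↥(Subgroup.normalizer (Q : Set G))}
  have h𝔅ne : 𝔅.Nonempty := by
    by_contra hempty
    rw [Set.not_nonempty_iff_eq_empty] at hempty
    apply hG
    apply frobenius p
    apply frobCond_of_local
    intro Q hQ hQne
    by_contra hc
    have : Q ∈ 𝔅 := ⟨hQ, hQne, hc⟩
    rw [hempty] at this
    exact this
  obtain ⟨X₀, hX₀, hmax₀⟩ := Set.exists_max_image 𝔅 f (Set.toFinite _) h𝔅ne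
  let 𝔅' : Set (Subgroup G) := {Q | Q ∈ 𝔅 ∧ f Q = f X₀}
  obtain ⟨X, hX, hmaxX⟩ := Set.exists_max_image 𝔅' (fun Q => Nat.card Q) (Set.toFinite _)
    ⟨X₀, hX₀, rfl⟩
  obtain ⟨⟨hXp, hXne, hXnpc⟩, hfX⟩ := hX
  have m1 : ∀ Q ∈ 𝔅, f Q ≤ f X := fun Q hQ => hfX ▸ hmax₀ Q hQ
  have m2 : ∀ Q ∈ 𝔅, f Q = f X → Nat.card Q ≤ Nat.card X := fun Q hQ hfQ =>
    hmaxX Q ⟨hQ, hfQ.trans hfX⟩
  -- Step B
  have hXnorm : Subgroup.normalizer (X : Set G) = ⊤ := by
    by_contra hNtop
    apply hXnpc
    set N := Subgroup.normalizer (X : Set G) with hN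
    have hlt : Nat.card ↥N < Nat.card G := by
      have := card_lt_card_of_lt' (lt_top_iff_ne_top.mpr hNtop)
      rwa [Subgroup.card_top] at this
    apply IH ↥N hlt
    apply thHyp_subgroup
    intro S'
    set S : Subgroup G := (S' : Subgroup ↥N).map N.subtype with hS
    have hScard : Nat.card S = p ^ f X := by
      rw [hS, Subgroup.card_map_of_injective N.subtype_injective, S'.card_eq_multiplicity]
    have hSp : IsPGroup p S := IsPGroup.of_card hScard
    have hfXpos : 0 < f X := by
      apply Nat.Prime.factorization_pos_of_dvd hp.out Nat.card_pos.ne'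
      obtain ⟨k, hk⟩ := IsPGroup.iff_card.mp hXp
      have hk0 : k ≠ 0 := by
        rintro rfl
        rw [pow_zero] at hk
        exact hXne (Subgroup.card_eq_one.mp hk)
      have h1 : p ∣ Nat.card X := by rw [hk]; exact dvd_pow_self p hk0
      exact h1.trans (Subgroup.card_dvd_of_le Subgroup.le_normalizer)
    have hSne : S ≠ ⊥ := by
      intro h
      rw [h, Subgroup.card_bot] at hScard
      have := Nat.one_lt_pow hfXpos.ne' hp.out.one_lt
      omega
    obtain ⟨P, hSP⟩ := hSp.exists_le_sylow
    by_cases hSeq : S = (P : Subgroup G)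
    · rw [hSeq]; exact hyp P
    · have hlt' : S < (P : Subgroup G) := lt_of_le_of_ne hSP hSeq
      obtain ⟨y, hyP, hyN, hyS⟩ := exists_mem_normalizer_not_mem P.isPGroup' hlt'
      set NS := (P : Subgroup G) ⊓ Subgroup.normalizer (S : Set G) with hNS
      have hNSp : IsPGroup p ↥NS := P.isPGroup'.to_le inf_le_left
      have hSNS : S < NS := by
        refine lt_of_le_of_ne (le_inf hSP Subgroup.le_normalizer) ?_
        intro h
        apply hyS
        rw [h]
        exact ⟨hyP, hyN⟩
      obtain ⟨b, hb⟩ := IsPGroup.iff_card.mp hNSp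
      have hbf : f X < b := by
        have := card_lt_card_of_lt' hSNS
        rw [hScard, hb] at this
        exact (Nat.pow_lt_pow_iff_right hp.out.one_lt).mp this
      have key : ∀ Y : Subgroup G, IsPGroup p Y → Y ≠ ⊥ →
          Subgroup.normalizer (S : Set G) ≤ Subgroup.normalizer (Y : Set G) →
          HasNormalPComplement p ↥(Subgroup.normalizer (Y : Set G)) := by
        intro Y hYp hYne hYn
        by_contra hc
        have hY𝔅 : Y ∈ 𝔅 := ⟨hYp, hYne, hc⟩
        have h1 := m1 Y hY𝔅
        have h2 : b ≤ f Y := by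
          have hdvd : p ^ b ∣ Nat.card ↥(Subgroup.normalizer (Y : Set G)) := by
            rw [← hb]
            exact Subgroup.card_dvd_of_le (inf_le_right.trans hYn)
          exact (Nat.Prime.pow_dvd_iff_le_factorization hp.out Nat.card_pos.ne').mp hdvd
        omega
      unfold ThGood
      constructor
      · exact key _ (hSp.to_le (thompsonSubgroupOf_le S)) (thompsonSubgroupOf_ne_bot hSp hSne)
          (normalizer_le_normalizer_thompsonSubgroupOf p S)
      · refine npc_mono (Subgroup.centralizer_le_normalizer _) ?_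
        exact key _ (hSp.to_le inf_le_left) (inf_centralizer_ne_bot hSp hSne)
          (normalizer_le_normalizer_inf_centralizer S)
  haveI hXn : X.Normal := Subgroup.normalizer_eq_top_iff.mp hXnorm
  -- Step C
  have hXmax : ∀ Y : Subgroup G, Y.Normal → IsPGroup p Y → Y ≤ X := by
    intro Y hYn hYp
    haveI := hYn
    have hY'p : IsPGroup p ↥(X ⊔ Y) := hXp.to_sup_of_normal_left hYp
    have hY'n : (X ⊔ Y).Normal := inferInstance
    have hY'ne : X ⊔ Y ≠ ⊥ := fun h => hXne (eq_bot_iff.mpr (h ▸ le_sup_left))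
    have hY'top : Subgroup.normalizer ((X ⊔ Y : Subgroup G) : Set G) = ⊤ :=
      Subgroup.normalizer_eq_top_iff.mpr hY'n
    have hY'𝔅 : X ⊔ Y ∈ 𝔅 :=
      ⟨hY'p, hY'ne, by rw [hY'top]; exact fun h => hG (npc_top_iff.mp h)⟩
    have hfeq : f (X ⊔ Y) = f X := by
      show (Nat.card ↥(Subgroup.normalizer ((X ⊔ Y : Subgroup G) : Set G))).factorization p =
        (Nat.card ↥(Subgroup.normalizer (X : Set G))).factorization p
      rw [hY'top, hXnorm]
    have hcard := m2 _ hY'𝔅 hfeq
    have h3 := Subgroup.eq_of_le_of_card_ge (le_sup_left : X ≤ X ⊔ Y) hcard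
    calc Y ≤ X ⊔ Y := le_sup_right
      _ = X := h3.symm
  have m2' : ∀ Q : Subgroup G, IsPGroup p Q → Q ≠ ⊥ →
      ¬ p ∣ (Subgroup.normalizer (Q : Set G)).index → Nat.card X < Nat.card Q →
      HasNormalPComplement p ↥(Subgroup.normalizer (Q : Set G)) := by
    intro Q hQp hQne hQidx hQcard
    by_contra hc
    have hQ𝔅 : Q ∈ 𝔅 := ⟨hQp, hQne, hc⟩
    have hfeq : f Q = f X := by
      show (Nat.card ↥(Subgroup.normalizer (Q : Set G))).factorization p =
        (Nat.card ↥(Subgroup.normalizer (X : Set G))).factorization p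
      rw [fact_eq_of_not_dvd_index _ hQidx, hXnorm, Subgroup.card_top]
    have := m2 Q hQ𝔅 hfeq
    omega
  -- Step D
  have hquot : HasNormalPComplement p (G ⧸ X) := by
    have hlt : Nat.card (G ⧸ X) < Nat.card G := by
      have h1 := Subgroup.card_eq_card_quotient_mul_card_subgroup X
      have h2 : 1 < Nat.card X := (Subgroup.one_lt_card_iff_ne_bot X).mpr hXne
      rw [h1]; exact lt_mul_of_one_lt_right Nat.card_pos h2
    by_cases hdiv : p ∣ Nat.card (G ⧸ X)
    · apply IH (G ⧸ X) hlt
      intro Pb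
      have hPbne : (Pb : Subgroup (G ⧸ X)) ≠ ⊥ := by
        intro h
        have h1 := Pb.card_eq_multiplicity
        rw [h, Subgroup.card_bot] at h1
        have hpos := Nat.Prime.factorization_pos_of_dvd hp.out Nat.card_pos.ne' hdiv
        have := Nat.one_lt_pow hpos.ne' hp.out.one_lt
        omega
      have key : ∀ Yb : Subgroup (G ⧸ X), IsPGroup p Yb → Yb ≠ ⊥ →
          (Pb : Subgroup (G ⧸ X)) ≤ Subgroup.normalizer (Yb : Set (G ⧸ X)) →
          HasNormalPComplement p ↥(Subgroup.normalizer (Yb : Set (G ⧸ X))) := by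
        intro Yb hYbp hYbne hPbY
        have hπs : Function.Surjective (QuotientGroup.mk' X) := QuotientGroup.mk'_surjective X
        set Yt := Yb.comap (QuotientGroup.mk' X) with hYt
        have hYtp : IsPGroup p ↥Yt :=
          hYbp.comap_of_ker_isPGroup (QuotientGroup.mk' X) (by rw [QuotientGroup.ker_mk']; exact hXp)
        have hXYt : X ≤ Yt := by
          have := Subgroup.ker_le_comap (QuotientGroup.mk' X) Yb
          rwa [QuotientGroup.ker_mk'] at this
        have hXneYt : X ≠ Yt := by
          intro h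
          apply hYbne
          have h1 : Yt.map (QuotientGroup.mk' X) = Yb :=
            Subgroup.map_comap_eq_self_of_surjective hπs Yb
          have h2 : X.map (QuotientGroup.mk' X) = ⊥ :=
            (Subgroup.map_eq_bot_iff _).mpr (by rw [QuotientGroup.ker_mk'])
          rw [← h1, ← h, h2]
        have hYtne : Yt ≠ ⊥ := fun h => hXne (eq_bot_iff.mpr (h ▸ hXYt))
        have hcardlt : Nat.card X < Nat.card Yt :=
          card_lt_card_of_lt' (lt_of_le_of_ne hXYt hXneYt)
        have hnorm_eq : Subgroup.normalizer (Yt : Set G) =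
            (Subgroup.normalizer (Yb : Set (G ⧸ X))).comap (QuotientGroup.mk' X) :=
          (Subgroup.comap_normalizer_eq_of_surjective Yb hπs).symm
        have hidx : ¬ p ∣ (Subgroup.normalizer (Yt : Set G)).index := by
          rw [hnorm_eq, Subgroup.index_comap_of_surjective _ hπs]
          intro h
          exact Pb.not_dvd_index (h.trans (Subgroup.index_dvd_of_le hPbY))
        have h1 := m2' Yt hYtp hYtne hidx hcardlt
        have h2 := npc_map_of_npc (QuotientGroup.mk' X) _ h1
        rwa [hnorm_eq, Subgroup.map_comap_eq_self_of_surjective hπs] at h2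
      unfold ThGood
      constructor
      · exact key _ (Pb.isPGroup'.to_le (thompsonSubgroupOf_le _))
          (thompsonSubgroupOf_ne_bot Pb.isPGroup' hPbne)
          (Subgroup.le_normalizer.trans (normalizer_le_normalizer_thompsonSubgroupOf p _))
      · refine npc_mono (Subgroup.centralizer_le_normalizer _) ?_
        exact key _ (Pb.isPGroup'.to_le inf_le_left) (inf_centralizer_ne_bot Pb.isPGroup' hPbne)
          (Subgroup.le_normalizer.trans (normalizer_le_normalizer_inf_centralizer _))
    · exact hasNPC_of_coprime_card ((Nat.Prime.coprime_iff_not_dvd hp.out).mpr hdiv).symm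
  obtain ⟨Kb, hKbn, hKbc, j, hKbidx⟩ := hasNPC_iff.mp hquot
  set K := Kb.comap (QuotientGroup.mk' X) with hK
  haveI hKn : K.Normal := hKbn.comap _
  have hXK : X ≤ K := by
    have := Subgroup.ker_le_comap (QuotientGroup.mk' X) Kb
    rwa [QuotientGroup.ker_mk'] at this
  have hKidx : K.index = p ^ j := by
    rw [hK, Subgroup.index_comap_of_surjective _ (QuotientGroup.mk'_surjective X), hKbidx]
  have hrel : (X.relIndex K).Coprime p := by
    have h3 := Subgroup.relIndex_comap (⊥ : Subgroup (G ⧸ X)) (QuotientGroup.mk' X) K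
    rw [MonoidHom.comap_bot, QuotientGroup.ker_mk', hK,
      Subgroup.map_comap_eq_self_of_surjective (QuotientGroup.mk'_surjective X),
      Subgroup.relIndex_bot_left] at h3
    rw [h3]
    exact hKbc
  exact thompson_endgame hp2 hA hd hyp X K hXp hXmax hXK hrel hKidx hG

end Cfsg.Agent.Helper23
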