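import Mathlib
import Cfsg.Agent.Lib.Helper43.Tri.Rel

/-!
# TRI piece SPEC (helper43's lemma server for S0817): the explicit related triple of `E(u₀, -1)`
-/

set_option autoImplicit false

namespace Cfsg.Agent.Helper23.Tri

open Matrix QuadraticMap Cfsg.Agent.Helper13 Cfsg.Agent.Helper43 Cfsg.Agent.Helper5.OAut Module
open Cfsg.Agent.Helper43.Tri Cfsg.Agent.Helper43.OGam

section E

variable {F : Type*} [Field F]

theorem spec_u₀_u₀_left (x : OV F) : omul u₀ (omul u₀ x) = 0 := by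
  rw [alt_left, omul_u₀_u₀, omul_zero_left]

theorem spec_u₀_u₀_right (x : OV F) : omul (omul x u₀) u₀ = 0 := by
  rw [alt_right, omul_u₀_u₀, omul_zero_right]

theorem spec_N_left (x : OV F) : stdPlus F 4 (x + omul u₀ x) = stdPlus F 4 x := by
  simp only [N_eq, Pi.add_apply, omul_inl0, omul_inl1, omul_inl2, omul_inl3, omul_inr0, omul_inr1,
    omul_inr2, omul_inr3, u₀_inl0, u₀_inl1, u₀_inl2, u₀_inl3, u₀_inr0, u₀_inr1, u₀_inr2, u₀_inr3]
  ring

theorem spec_N_right (x : OV F) : stdPlus F 4 (x + omul x u₀) = stdPlus F 4 x := by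
  simp only [N_eq, Pi.add_apply, omul_inl0, omul_inl1, omul_inl2, omul_inl3, omul_inr0, omul_inr1,
    omul_inr2, omul_inr3, u₀_inl0, u₀_inl1, u₀_inl2, u₀_inl3, u₀_inr0, u₀_inr1, u₀_inr2, u₀_inr3]
  ring

theorem spec_polar_neg : polar (⇑(stdPlus F 4)) (u₀ : OV F) (-oone) = 0 := by
  rw [polar_neg_right, polar_u₀_oone, neg_zero]

theorem spec_N_neg_oone : stdPlus F 4 (-(oone : OV F)) = 1 := by
  rw [QuadraticMap.map_neg, N_oone]

/-- the coordinate identity `E(u₀,-1)(x y) = ((1+u₀) x)(y (1+u₀))` -/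
theorem spec_identity (x y : OV F) :
    omul x y + polar (⇑(stdPlus F 4)) u₀ (omul x y) • (-oone)
        - polar (⇑(stdPlus F 4)) (-oone) (omul x y) • u₀
        - ((1 : F) * polar (⇑(stdPlus F 4)) u₀ (omul x y)) • u₀ =
      omul (x + omul u₀ x) (y + omul y u₀) := by
  apply ov_ext <;>
  simp only [polar_eq, omul_inl0, omul_inl1, omul_inl2, omul_inl3, omul_inr0, omul_inr1,
    omul_inr2, omul_inr3, u₀_inl0, u₀_inl1, u₀_inl2, u₀_inl3, u₀_inr0, u₀_inr1, u₀_inr2, u₀_inr3,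
    oone_inl0, oone_inl1, oone_inl2, oone_inl3, oone_inr0, oone_inr1, oone_inr2, oone_inr3,
    Pi.add_apply, Pi.sub_apply, Pi.neg_apply, Pi.smul_apply, smul_eq_mul] <;> ring

/-- (SPEC) the explicit triple `(B_{1+u₀}, L_{1+u₀}, R_{1+u₀})`. -/
theorem rel_special (C : Ctx (stdPlus F 4)) :
    ∃ g₁ g₂ : O8 F, Rel ((E (stdPlus F 4) u₀ (-oone) : ↥(Cfsg.Omega F ⇑(stdPlus F 4))) : O8 F) g₁ g₂ ∧
      ∀ x : OV F, g₁ • x = x + omul u₀ x := by
  have h1 : (LinearMap.id + Lm (u₀ : OV F)) ∘ₗ (LinearMap.id - Lm (u₀ : OV F)) = LinearMap.id := by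
    apply LinearMap.ext
    intro x
    simp only [LinearMap.comp_apply, LinearMap.add_apply, LinearMap.sub_apply, LinearMap.id_apply,
      Lm_apply, omul_sub_right, spec_u₀_u₀_left]
    abel
  have h2 : (LinearMap.id - Lm (u₀ : OV F)) ∘ₗ (LinearMap.id + Lm (u₀ : OV F)) = LinearMap.id := by
    apply LinearMap.ext
    intro x
    simp only [LinearMap.comp_apply, LinearMap.add_apply, LinearMap.sub_apply, LinearMap.id_apply,
      Lm_apply, omul_add_right, spec_u₀_u₀_left]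
    abel
  have k1 : (LinearMap.id + Rm (u₀ : OV F)) ∘ₗ (LinearMap.id - Rm (u₀ : OV F)) = LinearMap.id := by
    apply LinearMap.ext
    intro x
    simp only [LinearMap.comp_apply, LinearMap.add_apply, LinearMap.sub_apply, LinearMap.id_apply,
      Rm_apply, omul_sub_left, spec_u₀_u₀_right]
    abel
  have k2 : (LinearMap.id - Rm (u₀ : OV F)) ∘ₗ (LinearMap.id + Rm (u₀ : OV F)) = LinearMap.id := by
    apply LinearMap.ext
    intro x
    simp only [LinearMap.comp_apply, LinearMap.add_apply, LinearMap.sub_apply, LinearMap.id_apply,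
      Rm_apply, omul_add_left, spec_u₀_u₀_right]
    abel
  have hQ1 : ∀ x : OV F, stdPlus F 4 ((LinearMap.id + Lm (u₀ : OV F) : OV F →ₗ[F] OV F) x) = stdPlus F 4 x := by
    intro x
    simp only [LinearMap.add_apply, LinearMap.id_apply, Lm_apply]
    exact spec_N_left x
  have hQ2 : ∀ x : OV F, stdPlus F 4 ((LinearMap.id + Rm (u₀ : OV F) : OV F →ₗ[F] OV F) x) = stdPlus F 4 x := by
    intro x
    simp only [LinearMap.add_apply, LinearMap.id_apply, Rm_apply]
    exact spec_N_right x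
  refine ⟨mkIso (stdPlus F 4) _ _ h1 h2 hQ1, mkIso (stdPlus F 4) _ _ k1 k2 hQ2, ?_, ?_⟩
  · intro x y
    rw [mkIso_smul, mkIso_smul]
    simp only [LinearMap.add_apply, LinearMap.id_apply, Lm_apply, Rm_apply]
    have hE := E_act C (N_u₀ (F := F)) spec_polar_neg (omul x y)
    rw [act_def, spec_N_neg_oone] at hE
    exact hE.trans (spec_identity x y)
  · intro x
    rw [mkIso_smul]
    simp only [LinearMap.add_apply, LinearMap.id_apply, Lm_apply]

end E

end Cfsg.Agent.Helper23.Tri
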