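import Mathlib
import Cfsg.Agent.Lib.Helper93.U20
import Cfsg.Agent.Lib.Helper34.U2C1

/-!
# U2 piece C5a (helper93's lemma server for S2335): congruence by a transvection `1 + E` compares the counts
-/

set_option autoImplicit false

namespace Cfsg.Agent.Helper23.U2

open Matrix Cfsg.Agent.Helper13 Cfsg.Agent.Helper93.U2
open Cfsg.Agent.Helper34.U2

section CNT

variable {F : Type*} [Field F] [Fintype F] {q : ℕ} (hF : Fintype.card F = q ^ 2) {m : ℕ}

omit [Fintype F] in
theorem c5a_one_add_mul_one_sub (E : Matrix (Fin m) (Fin m) F) (hE : E * E = 0) :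
    (1 + E) * (1 - E) = 1 := by
  rw [mul_sub, add_mul, add_mul, mul_one, one_mul, mul_one, hE]
  abel

theorem c5a_cong_injective (E : Matrix (Fin m) (Fin m) F) (hE : E * E = 0) :
    Function.Injective (fun H : Matrix (Fin m) (Fin m) F => cT hF (1 + E) * H * (1 + E)) := by
  intro H K hHK
  have h1 : (1 + E) * (1 - E) = 1 := c5a_one_add_mul_one_sub E hE
  have h2 : cT hF (1 - E) * cT hF (1 + E) = 1 := by
    rw [← cT_mul, h1, cT_one]
  have h3 : ∀ X : Matrix (Fin m) (Fin m) F,
      cT hF (1 - E) * (cT hF (1 + E) * X * (1 + E)) * (1 - E) = X := by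
    intro X
    calc cT hF (1 - E) * (cT hF (1 + E) * X * (1 + E)) * (1 - E)
        = (cT hF (1 - E) * cT hF (1 + E)) * X * ((1 + E) * (1 - E)) := by
          simp only [Matrix.mul_assoc]
      _ = X := by rw [h1, h2, Matrix.one_mul, Matrix.mul_one]
  have h4 : cT hF (1 + E) * H * (1 + E) = cT hF (1 + E) * K * (1 + E) := hHK
  rw [← h3 H, h4, h3 K]

/-- piece C5a (uses C1) -/
theorem count_le_of_transvection (O : Set (Matrix (Fin m) (Fin m) F))
    (hcl : ∀ E : Matrix (Fin m) (Fin m) F, E * E = 0 → ∀ H ∈ O, cT hF (1 + E) * H * (1 + E) ∈ O)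
    (E : Matrix (Fin m) (Fin m) F) (hE : E * E = 0) (c : F) (x : Fin m → F) :
    {H ∈ O | hq q H ((1 + E) *ᵥ x) = c}.ncard ≤ {H ∈ O | hq q H x = c}.ncard := by
  classical
  apply Set.ncard_le_ncard_of_injOn (fun H : Matrix (Fin m) (Fin m) F => cT hF (1 + E) * H * (1 + E))
  · rintro H ⟨hHO, hHc⟩
    refine ⟨hcl E hE H hHO, ?_⟩
    show hq q (cT hF (1 + E) * H * (1 + E)) x = c
    rw [hq_cong hF]
    exact hHc
  · exact (c5a_cong_injective hF E hE).injOn

end CNT

end Cfsg.Agent.Helper23.U2
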