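import Mathlib
import Cfsg.Agent.Lib.Helper93.U20
import Cfsg.Agent.Lib.Helper34.U2C4
import Cfsg.Agent.Lib.Helper23.U2C5a

/-!
# U2 piece C5 (helper93's lemma server for S2335): the count `#{H ∈ O | hq H x = c}` does not depend on `x ≠ 0`
-/

set_option autoImplicit false

namespace Cfsg.Agent.Helper23.U2

open Matrix Cfsg.Agent.Helper13 Cfsg.Agent.Helper93.U2
open Cfsg.Agent.Helper34.U2

section CNT

variable {F : Type*} [Field F] [Fintype F] {q : ℕ} (hF : Fintype.card F = q ^ 2) {m : ℕ}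

theorem c5_count_le (hm : 2 ≤ m) (O : Set (Matrix (Fin m) (Fin m) F))
    (hcl : ∀ E : Matrix (Fin m) (Fin m) F, E * E = 0 → ∀ H ∈ O, cT hF (1 + E) * H * (1 + E) ∈ O)
    (c : F) (x y : Fin m → F) (hx : x ≠ 0) (hy : y ≠ 0) :
    {H ∈ O | hq q H y = c}.ncard ≤ {H ∈ O | hq q H x = c}.ncard := by
  obtain ⟨E₁, E₂, h1, h2, h3⟩ := exists_transvections hm x y hx hy
  rw [← h3]
  exact (Cfsg.Agent.Helper23.U2.count_le_of_transvection hF O hcl E₂ h2 c _).trans
    (Cfsg.Agent.Helper23.U2.count_le_of_transvection hF O hcl E₁ h1 c x)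

/-- piece C5 (uses C5a, C4) -/
theorem count_const (hm : 2 ≤ m) (O : Set (Matrix (Fin m) (Fin m) F))
    (hcl : ∀ E : Matrix (Fin m) (Fin m) F, E * E = 0 → ∀ H ∈ O, cT hF (1 + E) * H * (1 + E) ∈ O)
    (c : F) (x y : Fin m → F) (hx : x ≠ 0) (hy : y ≠ 0) :
    {H ∈ O | hq q H x = c}.ncard = {H ∈ O | hq q H y = c}.ncard :=
  le_antisymm (c5_count_le hF hm O hcl c y x hy hx) (c5_count_le hF hm O hcl c x y hx hy)

end CNT

end Cfsg.Agent.Helper23.U2
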