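import Mathlib
import Cfsg.Agent.Lib.Helper93.U20
import Cfsg.Agent.Lib.Helper34.U2C0
import Cfsg.Agent.Lib.Helper34.U2C1
import Cfsg.Agent.Lib.Helper34.U2C2

/-!
# U2 piece C6 (helper93's lemma server for S2335): lower bound `q^(2(m-1)) ≤ #{H' ∈ O | hq H' x₀ = c}`
-/

set_option autoImplicit false

namespace Cfsg.Agent.Helper23.U2

open Matrix Cfsg.Agent.Helper13 Cfsg.Agent.Helper93.U2
open Cfsg.Agent.Helper34.U2

section CNT

variable {F : Type*} [Field F] [Fintype F] {q : ℕ} (hF : Fintype.card F = q ^ 2) {m : ℕ}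

omit [Fintype F] in
theorem c6_mulVec (x₀ φ y : Fin m → F) :
    (1 + vecMulVec x₀ φ) *ᵥ y = y + (φ ⬝ᵥ y) • x₀ := by
  rw [add_mulVec, one_mulVec, vecMulVec_mulVec, op_smul_eq_smul]

omit [Fintype F] in
theorem c6_sq_zero (x₀ φ : Fin m → F) (h : φ ⬝ᵥ x₀ = 0) :
    vecMulVec x₀ φ * vecMulVec x₀ φ = 0 := by
  rw [vecMulVec_mul_vecMulVec, h, zero_smul]
  ext i j
  simp [vecMulVec_apply]

/-- piece C6 (uses C0, C1, C2) -/
theorem count_lower (O : Set (Matrix (Fin m) (Fin m) F))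
    (hcl : ∀ E : Matrix (Fin m) (Fin m) F, E * E = 0 → ∀ H ∈ O, cT hF (1 + E) * H * (1 + E) ∈ O)
    (H : Matrix (Fin m) (Fin m) F) (hHO : H ∈ O) (x₀ : Fin m → F) (c : F) (hc : c ≠ 0)
    (hx₀ : hq q H x₀ = c) :
    q ^ (2 * (m - 1)) ≤ {H' ∈ O | hq q H' x₀ = c}.ncard := by
  classical
  have hx₀ne : x₀ ≠ 0 := by
    intro h0
    apply hc
    rw [← hx₀, h0]
    unfold hq
    rw [Matrix.mulVec_zero, dotProduct_zero]
  have hcc : hb q H x₀ x₀ = c := hx₀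
  rw [← ncard_dot_eq_zero hF x₀ hx₀ne]
  apply Set.ncard_le_ncard_of_injOn
    (fun φ : Fin m → F => cT hF (1 + vecMulVec x₀ φ) * H * (1 + vecMulVec x₀ φ))
  · intro φ hφ
    have hφ' : φ ⬝ᵥ x₀ = 0 := hφ
    refine ⟨hcl _ (c6_sq_zero x₀ φ hφ') H hHO, ?_⟩
    show hq q (cT hF (1 + vecMulVec x₀ φ) * H * (1 + vecMulVec x₀ φ)) x₀ = c
    rw [hq_cong hF, c6_mulVec, hφ', zero_smul, add_zero]
    exact hx₀
  · intro φ hφ φ' hφ' hEq
    have hEq' : cT hF (1 + vecMulVec x₀ φ) * H * (1 + vecMulVec x₀ φ) =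
        cT hF (1 + vecMulVec x₀ φ') * H * (1 + vecMulVec x₀ φ') := hEq
    have h0 : φ ⬝ᵥ x₀ = 0 := hφ
    have h0' : φ' ⬝ᵥ x₀ = 0 := hφ'
    have key : ∀ ψ : Fin m → F, ψ ⬝ᵥ x₀ = 0 → ∀ y : Fin m → F,
        hb q (cT hF (1 + vecMulVec x₀ ψ) * H * (1 + vecMulVec x₀ ψ)) x₀ y =
          hb q H x₀ y + (ψ ⬝ᵥ y) * c := by
      intro ψ hψ y
      rw [hb_cong hF, c6_mulVec, c6_mulVec, hψ, zero_smul, add_zero, hb_add_right, hb_smul_right,
        hcc]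
    funext j
    have h1 := key φ h0 (Pi.single j 1)
    have h2 := key φ' h0' (Pi.single j 1)
    rw [hEq', h2, dotProduct_single_one, dotProduct_single_one] at h1
    have h3 : φ' j * c = φ j * c := add_left_cancel h1
    exact (mul_right_cancel₀ hc h3).symm

end CNT

end Cfsg.Agent.Helper23.U2
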