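import Mathlib
import Cfsg.Agent.Lib.Helper73.W44Defs

/-!
# W44 (A5): a finite 2-group acting in characteristic 2 on a nonzero invariant subspace fixes a
nonzero vector of it (helper73 server, S4414)
-/

set_option autoImplicit false

namespace Cfsg.Agent.Helper23.W44

open Cfsg.Agent.Helper73.W44

section fixedvec
variable {k : Type*} [Field k] [CharP k 2] {G : Type*} [Group G] {V : Type*} [AddCommGroup V]
  [Module k V]

omit [CharP k 2] in
set_option warn.classDefReducibility false in
/-- the action of `P` on an invariant additive subgroup -/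
def h23_act (ρ : G →* Module.End k V) (P : Subgroup G) (M : AddSubgroup V)
    (hM : ∀ t ∈ P, ∀ m ∈ M, ρ t m ∈ M) : MulAction P M where
  smul s m := ⟨ρ (s : G) m, hM s s.2 m m.2⟩
  one_smul m := by
    apply Subtype.ext
    show ρ ((1 : P) : G) (m : V) = m
    simp
  mul_smul s t m := by
    apply Subtype.ext
    show ρ ((s * t : P) : G) (m : V) = ρ (s : G) (ρ (t : G) (m : V))
    simp [map_mul]

theorem exists_fixed_vector (ρ : G →* Module.End k V) (P : Subgroup G) [Finite P]
    (hP : IsPGroup 2 P) (U : Submodule k V) (hU : U ≠ ⊥) (hinv : ∀ s ∈ P, ∀ u ∈ U, ρ s u ∈ U) :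
    ∃ f ∈ U, f ≠ 0 ∧ f ∈ fixS ρ P := by
  classical
  have : Fact (Nat.Prime 2) := ⟨Nat.prime_two⟩
  obtain ⟨w₀, hw₀U, hw₀⟩ := (Submodule.ne_bot_iff U).1 hU
  have hchar : ∀ v : V, v + v = 0 := by
    intro v
    have h2 : (2 : k) = 0 := by
      have := CharP.cast_eq_zero k 2
      exact_mod_cast this
    rw [← two_smul k v, h2, zero_smul]
  have hSfin : (Set.range (fun s : P => ρ (s : G) w₀)).Finite := Set.finite_range _
  obtain ⟨M, hMdef⟩ : ∃ M : AddSubgroup V,
      M = AddSubgroup.closure (Set.range (fun s : P => ρ (s : G) w₀)) := ⟨_, rfl⟩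
  have hMU : ∀ m ∈ M, m ∈ U := by
    intro m hm
    rw [hMdef] at hm
    have hle : AddSubgroup.closure (Set.range (fun s : P => ρ (s : G) w₀)) ≤ U.toAddSubgroup := by
      rw [AddSubgroup.closure_le]
      rintro _ ⟨s, rfl⟩
      exact hinv s s.2 w₀ hw₀U
    exact hle hm
  have hMinv : ∀ t ∈ P, ∀ m ∈ M, ρ t m ∈ M := by
    intro t ht m hm
    rw [hMdef] at hm ⊢
    induction hm using AddSubgroup.closure_induction with
    | mem x hx =>
      obtain ⟨s, rfl⟩ := hx
      apply AddSubgroup.subset_closure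
      exact ⟨⟨t * s, P.mul_mem ht s.2⟩, by simp [map_mul]⟩
    | zero => rw [map_zero]; exact AddSubgroup.zero_mem _
    | add x y _ _ hx hy => rw [map_add]; exact AddSubgroup.add_mem _ hx hy
    | neg x _ hx => rw [map_neg]; exact AddSubgroup.neg_mem _ hx
  have hw₀M : w₀ ∈ M := by
    rw [hMdef]
    apply AddSubgroup.subset_closure
    exact ⟨1, by simp⟩
  -- finiteness of M
  have hMfin : Finite M := by
    have hfg : AddGroup.FG M := by
      rw [AddGroup.fg_iff_addSubgroup_fg]
      exact ⟨hSfin.toFinset, by rw [hMdef]; simp⟩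
    apply AddCommGroup.finite_of_fg_isAddTorsion
    intro m
    rw [isOfFinAddOrder_iff_nsmul_eq_zero]
    refine ⟨2, by norm_num, ?_⟩
    apply Subtype.ext
    rw [two_nsmul]
    exact hchar m
  -- 2 ∣ |M|
  have h2dvd : 2 ∣ Nat.card M := by
    have hord : addOrderOf (⟨w₀, hw₀M⟩ : M) = 2 := by
      apply addOrderOf_eq_prime
      · apply Subtype.ext
        rw [two_nsmul]
        exact hchar w₀
      · intro h
        exact hw₀ (congrArg Subtype.val h)
    rw [← hord]
    exact addOrderOf_dvd_natCard _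
  let act : MulAction P M := h23_act ρ P M hMinv
  have h0 : (0 : M) ∈ MulAction.fixedPoints P M := by
    intro s
    apply Subtype.ext
    show ρ (s : G) ((0 : M) : V) = ((0 : M) : V)
    simp
  obtain ⟨b, hb, hb0⟩ := hP.exists_fixed_point_of_prime_dvd_card_of_fixed_point M h2dvd h0
  refine ⟨(b : V), hMU _ b.2, ?_, ?_⟩
  · intro h
    apply hb0
    apply Subtype.ext
    rw [h]; rfl
  · rw [mem_fixS]
    intro s hs
    have := hb ⟨s, hs⟩
    exact congrArg Subtype.val this

end fixedvec

end Cfsg.Agent.Helper23.W44
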