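import Mathlib
import Cfsg.Agent.Lib.Helper73.W44Defs

/-!
# W44 (K2): vectors of a subspace with pairwise disjoint nonempty supports are independent
(helper73 server, S4414)
-/

set_option autoImplicit false

namespace Cfsg.Agent.Helper23.W44

open Cfsg.Agent.Helper73.W44

section graded
variable {k : Type*} [Field k] {V : Type*} [AddCommGroup V] [Module k V]
variable {X : Type*} [DecidableEq X]

/-- a vector all of whose projections vanish is zero -/
theorem h23_eq_zero_of_forall_proj (W : X → Submodule k V) (hI : DirectSum.IsInternal W) (v : V)
    (hv : ∀ x, proj W hI x v = 0) : v = 0 := by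
  have h1 : (LinearEquiv.ofBijective (DirectSum.coeLinearMap W) hI).symm v = 0 := by
    apply DFinsupp.ext
    intro x
    have := hv x
    unfold proj at this
    simp only [LinearMap.coe_comp, Function.comp_apply, Submodule.coe_subtype,
      LinearEquiv.coe_coe] at this
    apply Subtype.ext
    exact this
  have := congrArg (LinearEquiv.ofBijective (DirectSum.coeLinearMap W) hI) h1
  simpa using this

theorem card_le_finrank_of_disjoint_supp [FiniteDimensional k V] (W : X → Submodule k V)
    (hI : DirectSum.IsInternal W)
    (F : Submodule k V) {ι : Type*} [Fintype ι] (f : ι → V) (hf : ∀ i, f i ∈ F)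
    (hne : ∀ i, f i ≠ 0)
    (hdis : ∀ i j, i ≠ j → Disjoint (supp W hI (f i)) (supp W hI (f j))) :
    Fintype.card ι ≤ Module.finrank k F := by
  classical
  have hli : LinearIndependent k f := by
    rw [Fintype.linearIndependent_iff]
    intro g hg j
    obtain ⟨x, hx⟩ : ∃ x, proj W hI x (f j) ≠ 0 := by
      by_contra hcon
      simp only [not_exists, not_not] at hcon
      exact hne j (h23_eq_zero_of_forall_proj W hI (f j) hcon)
    have h1 := congrArg (proj W hI x) hg
    rw [map_sum, map_zero] at h1
    rw [Finset.sum_eq_single j] at h1
    · rw [map_smul, smul_eq_zero] at h1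
      exact h1.resolve_right hx
    · intro i _ hij
      rw [map_smul]
      have : proj W hI x (f i) = 0 := by
        by_contra hcon
        have hd := hdis i j hij
        rw [Set.disjoint_left] at hd
        exact hd ((mem_supp W hI (f i) x).2 hcon) ((mem_supp W hI (f j) x).2 hx)
      rw [this, smul_zero]
    · intro hj
      exact absurd (Finset.mem_univ j) hj
  have hli' : LinearIndependent k (fun i => (⟨f i, hf i⟩ : F)) := by
    apply LinearIndependent.of_comp F.subtype
    exact hli
  exact hli'.fintype_card_le_finrank

end graded

end Cfsg.Agent.Helper23.W44
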