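import Mathlib
import Cfsg.Agent.Lib.Helper73.W44Defs
import Cfsg.Agent.Lib.Helper73.FXSIMEIG

/-!
# W44 (WI): the weight spaces of a finite abelian subgroup of order prime to the characteristic
form an internal direct sum (helper73 server, S4414)
-/

set_option autoImplicit false

namespace Cfsg.Agent.Helper23.W44

open Cfsg.Agent.Helper73.W44

section internal
universe u
variable {k : Type*} [Field k] [IsAlgClosed k] {G : Type*} [Group G]
variable {V : Type u} [AddCommGroup V] [Module k V] [FiniteDimensional k V] [Nontrivial V]

theorem wt_isInternal (ρ : G →* Module.End k V) (K : Subgroup G) [Finite K]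
    [DecidableEq (Wt K k)]
    (hab : ∀ a ∈ K, ∀ b ∈ K, a * b = b * a) (hcard : (Nat.card K : k) ≠ 0) :
    DirectSum.IsInternal (wt ρ K) := by
  have h := Cfsg.Agent.Helper73.FX.simul_eigen (K := k) (V := V) (ι := ↥K)
    (fun n : K => ρ (n : G))
    (by
      intro i j
      show ρ (i : G) * ρ (j : G) = ρ (j : G) * ρ (i : G)
      rw [← map_mul, ← map_mul, hab i i.2 j j.2])
    (Nat.card K) hcard
    (by
      intro i
      show ρ (i : G) ^ Nat.card K = 1
      rw [← map_pow]
      have : ((i : G)) ^ Nat.card K = 1 := by
        have h1 : i ^ Nat.card K = 1 := pow_card_eq_one'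
        have h2 := congrArg Subtype.val h1
        rw [Subgroup.coe_pow, Subgroup.coe_one] at h2
        exact h2
      rw [this, map_one])
  rw [DirectSum.isInternal_submodule_iff_iSupIndep_and_iSup_eq_top]
  exact ⟨h.1, h.2⟩

end internal

end Cfsg.Agent.Helper23.W44
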