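import Mathlib
import Cfsg.Prelude.Def_LocalStructure
import Cfsg.Agent.Lib.Helper23.Large

set_option autoImplicit false

namespace Cfsg.Agent.Helper23

open scoped commutatorElement

variable {H : Type*} [Group H]

/-- `Q` is weakly closed in every `p`-subgroup containing it. -/
def WeaklyClosedAll (p : ℕ) (Q : Subgroup H) : Prop :=
  ∀ S : Subgroup H, IsPGroup p S → Q ≤ S → ∀ g : H, cj Q g ≤ S → cj Q g = Q

theorem weaklyClosedAll_of_isWeaklyClosedSubgroup [Finite H] {p : ℕ} [Fact p.Prime] {Q : Subgroup H}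
    (hwc : Cfsg.IsWeaklyClosedSubgroup p Q) : WeaklyClosedAll p Q := by
  obtain ⟨T, hQT, hT⟩ := hwc
  intro S hS hQS g hg
  obtain ⟨T', hT'⟩ := hS.exists_le_sylow
  obtain ⟨h, hh⟩ := MulAction.exists_smul_eq H T T'
  -- cj X h⁻¹ ≤ T for X ≤ T'
  have hmove : ∀ X : Subgroup H, X ≤ (T' : Subgroup H) → cj X h⁻¹ ≤ (T : Subgroup H) := by
    intro X hX x hx
    have h1 := hX (mem_cj.mp hx)
    rw [← hh, mem_smul_sylow_iff] at h1
    have e : h⁻¹ * (h⁻¹⁻¹ * x * h⁻¹) * h = x := by group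
    rwa [e] at h1
  have h1 : cj Q h⁻¹ = Q := hT h⁻¹ (hmove Q (hQS.trans hT'))
  have h2 : cj Q (h⁻¹ * g) = Q := by
    have := hmove (cj Q g) (hg.trans hT')
    rw [cj_cj] at this
    exact hT _ this
  have h3 : cj Q h = Q := by
    have := congrArg (fun A => cj A h) h1
    simp only [cj_cj, mul_inv_cancel, cj_one] at this
    exact this.symm
  have := congrArg (fun A => cj A h) h2
  simp only [cj_cj] at this
  rw [h3] at this
  rw [← this]
  congr 1
  group

/-- Frattini-type: conjugates of a weakly closed `Q` lying in `K ≥ Q` are `K`-conjugates. -/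
theorem exists_cj_eq_of_le [Finite H] {p : ℕ} [Fact p.Prime] {Q : Subgroup H}
    (hQp : IsPGroup p Q) (hwc : WeaklyClosedAll p Q) {K : Subgroup H} (hQK : Q ≤ K) (g : H)
    (hg : cj Q g ≤ K) : ∃ k ∈ K, cj Q g = cj Q k := by
  obtain ⟨S, hS⟩ := (hQp.comap_subtype (K := K)).exists_le_sylow
  obtain ⟨S', hS'⟩ := ((isPGroup_cj hQp g).comap_subtype (K := K)).exists_le_sylow
  obtain ⟨x, hx⟩ := MulAction.exists_smul_eq ↥K S S'
  set SH := (S : Subgroup ↥K).map K.subtype with hSH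
  have hSHp : IsPGroup p ↥SH := S.2.map _
  have hQSH : Q ≤ SH := by
    intro q hq
    exact ⟨⟨q, hQK hq⟩, hS (Subgroup.mem_comap.mpr hq), rfl⟩
  have hgSH : cj Q ((x : H)⁻¹ * g) ≤ SH := by
    rw [← cj_cj]
    intro y hy
    have hy' := mem_cj.mp hy
    rw [inv_inv] at hy'
    have hyK : (x : H) * y * (x : H)⁻¹ ∈ K := hg hy'
    have h1 : (⟨(x : H) * y * (x : H)⁻¹, hyK⟩ : ↥K) ∈ ((S' : Sylow p ↥K) : Subgroup ↥K) :=
      hS' (Subgroup.mem_comap.mpr hy')
    rw [← hx] at h1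
    have h2 := mem_smul_sylow_iff.mp h1
    refine ⟨_, h2, ?_⟩
    simp only [Subgroup.coe_subtype, Subgroup.coe_mul, Subgroup.coe_inv]
    group
  have heq := hwc SH hSHp hQSH _ hgSH
  refine ⟨x, x.2, ?_⟩
  have := congrArg (fun A => cj A (x : H)) heq
  simp only [cj_cj] at this
  rw [← this]
  congr 1
  group

end Cfsg.Agent.Helper23
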