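import Mathlib
import Cfsg.Prelude.Def_LocalStructure
import Cfsg.Agent.Lib.Helper23.YMin

set_option autoImplicit false

namespace Cfsg.Agent.Helper23

open scoped commutatorElement

/-- In a `Y`-minimal group, `L = ⟨Y, Y^g⟩` for every `g` outside the unique maximal subgroup over `Y`. -/
theorem yMin_sup_cj_eq_top {L : Type*} [Group L] [Finite L]
    {L₀ : Subgroup L} (hL₀ : IsCoatom L₀) {Y : Subgroup L} (hYL : Y ≤ L₀)
    (hncl : Subgroup.normalClosure (Y : Set L) = ⊤)
    (huniq : ∀ M : Subgroup L, IsCoatom M → Y ≤ M → M = L₀) {g : L} (hg : g ∉ L₀) :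
    Y ⊔ cj Y g = ⊤ := by
  rcases eq_top_or_exists_le_coatom (Y ⊔ cj Y g) with htop | ⟨M, hM, hle⟩
  · exact htop
  exfalso
  have hML := huniq M hM (le_sup_left.trans hle)
  subst hML
  have hYg : cj Y g ≤ M := le_sup_right.trans hle
  have hY2 : Y ≤ cj M g⁻¹ := by
    intro y hy
    rw [mem_cj, inv_inv]
    exact hYg (conj_mem_cj hy)
  have h2 := huniq _ (isCoatom_cj hM g⁻¹) hY2
  have hgn : g⁻¹ ∈ Subgroup.normalizer (M : Set L) := mem_normalizer_iff_cj_eq.mpr h2
  have hgn' : g ∈ Subgroup.normalizer (M : Set L) := by simpa using inv_mem hgn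
  have hnn : Subgroup.normalizer (M : Set L) = M := by
    by_contra hne
    have hlt : M < Subgroup.normalizer (M : Set L) :=
      lt_of_le_of_ne Subgroup.le_normalizer (Ne.symm hne)
    have htop := hM.2 _ hlt
    have hnorm : M.Normal := Subgroup.normalizer_eq_top_iff.mp htop
    have : Subgroup.normalClosure (Y : Set L) ≤ M := Subgroup.normalClosure_le_normal hYL
    rw [hncl] at this
    exact hM.1 (top_le_iff.mp this)
  rw [hnn] at hgn'
  exact hg hgn'

/-- If all commutators of generators lie in a normal subgroup `C`, so do all commutators of the closure. -/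
theorem commutator_mem_of_closure {G : Type*} [Group G] (C : Subgroup G) [hC : C.Normal] (S : Set G)
    (hS : ∀ a ∈ S, ∀ b ∈ S, ⁅a, b⁆ ∈ C) {a b : G} (ha : a ∈ Subgroup.closure S)
    (hb : b ∈ Subgroup.closure S) : ⁅a, b⁆ ∈ C := by
  induction ha, hb using Subgroup.closure_induction₂ with
  | mem x y hx hy => exact hS x hx y hy
  | one_left x hx => simp
  | one_right x hx => simp
  | mul_left x y z hx hy hz h1 h2 =>
    have e : ⁅x * y, z⁆ = x * ⁅y, z⁆ * x⁻¹ * ⁅x, z⁆ := by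
      simp only [commutatorElement_def]; group
    rw [e]
    exact mul_mem (hC.conj_mem _ h2 x) h1
  | mul_right y z x hy hz hx h1 h2 =>
    have e : ⁅x, y * z⁆ = ⁅x, y⁆ * (y * ⁅x, z⁆ * y⁻¹) := by
      simp only [commutatorElement_def]; group
    rw [e]
    exact mul_mem h1 (hC.conj_mem _ h2 y)
  | inv_left x y hx hy h =>
    have e : ⁅x⁻¹, y⁆ = x⁻¹ * ⁅x, y⁆⁻¹ * x⁻¹⁻¹ := by
      simp only [commutatorElement_def]; group
    rw [e]
    exact hC.conj_mem _ (inv_mem h) x⁻¹
  | inv_right x y hx hy h =>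
    have e : ⁅x, y⁻¹⁆ = y⁻¹ * ⁅x, y⁆⁻¹ * y⁻¹⁻¹ := by
      simp only [commutatorElement_def]; group
    rw [e]
    exact hC.conj_mem _ (inv_mem h) y⁻¹

/-- If `Q ⊴ G` normalizes the abelian subgroup `U`, then `U` normalizes `(Q ∩ U)(Q ∩ V)` for any `V`. -/
theorem le_normalizer_inf_sup_inf {G : Type*} [Group G] (Q U V : Subgroup G) [hQ : Q.Normal]
    (hU : ∀ a ∈ U, ∀ b ∈ U, a * b = b * a) (hQU : Q ≤ Subgroup.normalizer (U : Set G)) :
    U ≤ Subgroup.normalizer (((Q ⊓ U) ⊔ (Q ⊓ V) : Subgroup G) : Set G) := by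
  have key : ∀ u ∈ U, cj ((Q ⊓ U) ⊔ (Q ⊓ V)) u ≤ (Q ⊓ U) ⊔ (Q ⊓ V) := by
    intro u hu
    unfold cj
    rw [Subgroup.map_sup]
    apply sup_le
    · refine le_trans ?_ le_sup_left
      intro x hx
      have hx' := mem_cj.mp hx
      set w := u⁻¹ * x * u with hw
      have hxU : w ∈ U := hx'.2
      have hxu : x = w := by
        calc x = u * w * u⁻¹ := by rw [hw]; group
          _ = w * u * u⁻¹ := by rw [hU u hu w hxU]
          _ = w := by group
      rw [hxu]; exact hx'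
    · intro x hx
      have hx' := mem_cj.mp hx
      set w := u⁻¹ * x * u with hw
      have hwQ : w ∈ Q := hx'.1
      have hwV : w ∈ V := hx'.2
      have hx_eq : x = (u * w * u⁻¹ * w⁻¹) * w := by rw [hw]; group
      rw [hx_eq]
      have hc1 : u * w * u⁻¹ * w⁻¹ ∈ Q := mul_mem (hQ.conj_mem w hwQ u) (inv_mem hwQ)
      have hc2 : u * w * u⁻¹ * w⁻¹ ∈ U := by
        have hn := hQU hwQ
        rw [Subgroup.mem_set_normalizer_iff] at hn
        have h1 : w * u⁻¹ * w⁻¹ ∈ U := (hn u⁻¹).mp (inv_mem hu)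
        have : u * w * u⁻¹ * w⁻¹ = u * (w * u⁻¹ * w⁻¹) := by group
        rw [this]; exact mul_mem hu h1
      exact mul_mem (Subgroup.mem_sup_left (Subgroup.mem_inf.mpr ⟨hc1, hc2⟩))
        (Subgroup.mem_sup_right (Subgroup.mem_inf.mpr ⟨hwQ, hwV⟩))
  intro u hu
  rw [mem_normalizer_iff_cj_eq]
  apply le_antisymm (key u hu)
  intro x hx
  have := key u⁻¹ (inv_mem hu) (conj_mem_cj (g := u⁻¹) hx)
  rw [mem_cj]
  simpa using this

end Cfsg.Agent.Helper23
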